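import Groth.Agent.LeadBC.GenBC.ModelBC

/-!
# Exchange for complexes of finite free modules over an arbitrary ring
-/

set_option autoImplicit false
set_option linter.style.haveILetI false
set_option linter.unusedSectionVars false

universe u

open CategoryTheory CategoryTheory.Limits
open scoped TensorProduct

namespace Groth.Agent.LeadBC.GenBC

open Groth.Agent.H06FlatCx

variable {A : Type u} [CommRing A]

section spanned

variable {B : Type u} [CommRing B] [Algebra A B]
  {M : Type u} [AddCommGroup M] [Module B M] [Module A M] [IsScalarTower A B M]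
  {L Q R : Type u} [AddCommGroup L] [Module A L] [AddCommGroup Q] [Module A Q] [AddCommGroup R] [Module A R]
  (f : L →ₗ[A] Q) (g : Q →ₗ[A] R)

theorem spannedAt_baseChange (h : SpannedAt f g M) :
    SpannedAt (f.baseChange B) (g.baseChange B) M := by
  intro z hz
  obtain ⟨a, ⟨a', rfl⟩, b, hb, hab⟩ :=
    Submodule.mem_sup.1 (h (LinearMap.mem_ker.2 ((ker_iff M g z).1 (LinearMap.mem_ker.1 hz))))
  have key : ∀ a' : LinearMap.ker g ⊗[A] M,
      ∃ w ∈ LinearMap.range ((LinearMap.ker (g.baseChange B)).subtype.rTensor M),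
        cancelE (A := B) M Q w = (LinearMap.ker g).subtype.rTensor M a' := by
    intro a'
    induction a' using TensorProduct.induction_on with
    | zero => exact ⟨0, zero_mem _, by simp⟩
    | tmul x m =>
      exact ⟨_, ⟨(⟨(1 : B) ⊗ₜ[A] (x : Q), by simp [x.2]⟩ : LinearMap.ker (g.baseChange B)) ⊗ₜ m, rfl⟩,
        by simp [cancelE]⟩
    | add a b ha hb =>
      obtain ⟨v, hv, ev⟩ := ha
      obtain ⟨w, hw, ew⟩ := hb
      exact ⟨v + w, add_mem hv hw, by simp only [map_add, ev, ew]⟩
  obtain ⟨w, hw, hwe⟩ := key a'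
  have h2 : z - w ∈ LinearMap.range ((f.baseChange B).rTensor M) := by
    refine (mem_range_iff M f _).2 ?_
    rw [map_sub, hwe, ← hab, add_sub_cancel_left]
    exact hb
  exact Submodule.mem_sup.2 ⟨w, hw, z - w, h2, add_sub_cancel w z⟩

variable {N : Type u} [AddCommGroup N] [Module A N]

theorem spannedAt_of_retract (i : M →ₗ[A] N) (r : N →ₗ[A] M) (hri : r ∘ₗ i = LinearMap.id)
    (h : SpannedAt f g N) : SpannedAt f g M := by
  intro z hz
  have hz' : i.lTensor Q z ∈ LinearMap.ker (g.rTensor N) := by
    rw [LinearMap.mem_ker, ← lTensor_rTensor_apply, LinearMap.mem_ker.1 hz, map_zero]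
  obtain ⟨_, ⟨a, rfl⟩, _, ⟨b, rfl⟩, hab⟩ := Submodule.mem_sup.1 (h hz')
  refine Submodule.mem_sup.2 ⟨_, ⟨r.lTensor _ a, rfl⟩, _, ⟨r.lTensor _ b, rfl⟩, ?_⟩
  rw [← lTensor_rTensor_apply, ← lTensor_rTensor_apply, ← map_add, hab, ← LinearMap.lTensor_comp_apply, hri,
    LinearMap.lTensor_id, LinearMap.id_apply]

theorem spannedAt_residueField_of_field {K : Type u} [Field K] [Algebra A K] (x : PrimeSpectrum A)
    (hx : RingHom.ker (algebraMap A K) = x.asIdeal) (h : SpannedAt f g K) :
    SpannedAt f g x.asIdeal.ResidueField := by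
  have hu : x.asIdeal.primeCompl ≤ (IsUnit.submonoid K).comap (algebraMap A K) :=
    fun a ha => show IsUnit (algebraMap A K a) from isUnit_iff_ne_zero.2 fun h0 => ha (hx ▸ h0)
  letI : Algebra x.asIdeal.ResidueField K :=
    (Ideal.ResidueField.lift x.asIdeal (algebraMap A K) hx.ge hu).toAlgebra
  haveI : IsScalarTower A x.asIdeal.ResidueField K :=
    .of_algebraMap_eq fun a => (Ideal.ResidueField.lift_algebraMap x.asIdeal (algebraMap A K) hx.ge hu a).symm
  obtain ⟨r, hr⟩ := LinearMap.exists_leftInverse_of_injective (Algebra.linearMap x.asIdeal.ResidueField K)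
    (LinearMap.ker_eq_bot.2 (algebraMap x.asIdeal.ResidueField K).injective)
  exact spannedAt_of_retract f g ((Algebra.linearMap x.asIdeal.ResidueField K).restrictScalars A)
    (r.restrictScalars A) (by rw [← LinearMap.restrictScalars_comp, hr]; rfl) h

end spanned

/-- Flatness at a point of a finitely presented module spreads out. -/
theorem flat_nhd (M : Type u) [AddCommGroup M] [Module A M] [Module.FinitePresentation A M] (x : PrimeSpectrum A)
    (h : Module.Flat (Localization.AtPrime x.asIdeal) (Localization.AtPrime x.asIdeal ⊗[A] M)) :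
    ∃ a, a ∉ x.asIdeal ∧
      ∀ (B : Type u) [CommRing B] [Algebra A B], IsUnit (algebraMap A B a) → FlatBC (A := A) B M := by
  obtain ⟨_, ⟨a, rfl⟩, hax, hsub⟩ := PrimeSpectrum.isTopologicalBasis_basic_opens.exists_subset_of_mem_open
    ((flat_localization_iff_mem_freeLocus M x).1 h) Module.isOpen_freeLocus
  haveI := Module.basicOpen_subset_freeLocus_iff.1 hsub
  refine ⟨a, hax, fun B _ _ hu => ?_⟩
  letI : Algebra (Localization.Away a) B := (IsLocalization.Away.lift a hu).toAlgebra
  haveI : IsScalarTower A (Localization.Away a) B :=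
    .of_algebraMap_eq' (IsLocalization.Away.lift_comp a hu).symm
  haveI : Module.Flat (Localization.Away a) (Localization.Away a ⊗[A] M) :=
    Module.Flat.of_linearEquiv (LocalizedModule.equivTensorProduct (Submonoid.powers a) M).symm
  exact Module.Flat.of_linearEquiv
    (TensorProduct.AlgebraTensorModule.cancelBaseChange A (Localization.Away a) B B M).symm

/-- A vanishing value is spanned by constant cycles. -/
theorem spannedAt_of_subsingleton_T (P : ChainComplex (ModuleCat.{u} A) ℤ) (j : ℤ) (M : Type u) [AddCommGroup M]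
    [Module A M] (h : Subsingleton ((CohIII.TFun P j).obj (ModuleCat.of A M))) :
    SpannedAt (P.d (j + 1) j).hom (P.d j (j - 1)).hom M := fun z hz =>
  Submodule.mem_sup_right ((tcls_eq_zero_iff P (down_prev j) (down_next j) (ModuleCat.of A M) ⟨z, hz⟩).1
    (h.elim _ _))

variable (P : ChainComplex (ModuleCat.{u} A) ℤ) (hP : ∀ i, Module.Finite A (P.X i) ∧ Module.Free A (P.X i))
include hP

theorem flat_X (i : ℤ) : Module.Flat A (P.X i) := haveI := (hP i).2; inferInstance

theorem finitePresentation_quot (i p : ℤ) :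
    Module.FinitePresentation A (P.X p ⧸ LinearMap.range (P.d i p).hom) := by
  haveI := (hP p).1
  haveI := (hP p).2
  haveI := (hP i).1
  haveI : Module.FinitePresentation A (P.X p) := Module.finitePresentation_of_projective A _
  exact Module.finitePresentation_of_surjective _ (Submodule.mkQ_surjective _) (by
    rw [Submodule.ker_mkQ, LinearMap.range_eq_map]
    exact Module.Finite.fg_top.map _)

theorem epi_bc_of_spannedAt {B : Type u} [CommRing B] [IsLocalRing B] (ρ : A →+* B) (j : ℤ)
    (h : letI := ρ.toAlgebra; SpannedAt (P.d (j + 1) j).hom (P.d j (j - 1)).hom (IsLocalRing.ResidueField B)) :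
    (CohIII.TFun (CohIII.bcCx ρ P) j).PreservesEpimorphisms := by
  letI := ρ.toAlgebra
  haveI := (hP j).1
  haveI := (hP (j - 1)).1
  haveI := (hP (j - 1)).2
  haveI : Module.Finite B ((CohIII.bcCx ρ P).X j) := Module.Finite.equiv (bcX P ρ j).symm
  haveI : Module.Finite B ((CohIII.bcCx ρ P).X (j - 1)) := Module.Finite.equiv (bcX P ρ (j - 1)).symm
  haveI : Module.Free B ((CohIII.bcCx ρ P).X (j - 1)) := Module.Free.of_equiv (bcX P ρ (j - 1)).symm
  haveI : Module.Flat B ((CohIII.bcCx ρ P).X (j - 1)) := inferInstance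
  haveI : Module.FinitePresentation B ((CohIII.bcCx ρ P).X (j - 1)) :=
    Module.finitePresentation_of_projective B _
  refine epi_of_surjective_residueField _ (down_prev j) (down_next j) ?_
  exact (map_surjective_iff_spannedAt _ (down_prev j) (down_next j) (F := ModuleCat.of B B)
    (ModuleCat.ofHom (Algebra.linearMap B (IsLocalRing.ResidueField B))) IsLocalRing.residue_surjective).2
    (spannedAt_baseChange _ _ h)

/-- Surjectivity at a residue field spreads out to right exactness. -/
theorem exists_epi_nhd (j : ℤ) (x : PrimeSpectrum A)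
    (h : SpannedAt (P.d (j + 1) j).hom (P.d j (j - 1)).hom x.asIdeal.ResidueField) :
    ∃ a, a ∉ x.asIdeal ∧ ∀ (B : Type u) [CommRing B] (ρ : A →+* B), IsUnit (ρ a) →
      (CohIII.TFun (CohIII.bcCx ρ P) j).PreservesEpimorphisms := by
  haveI : Module.Flat A (P.X (j - 1)) := flat_X P hP _
  let ρ₀ := algebraMap A (Localization.AtPrime x.asIdeal)
  have hE : (CohIII.TFun (CohIII.bcCx ρ₀ P) j).PreservesEpimorphisms :=
    (of_toAlgebra (A := A) (B := Localization.AtPrime x.asIdeal)
      (fun inst => (letI := inst; SpannedAt (P.d (j + 1) j).hom (P.d j (j - 1)).hom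
        (IsLocalRing.ResidueField (Localization.AtPrime x.asIdeal))) →
        (CohIII.TFun (CohIII.bcCx ρ₀ P) j).PreservesEpimorphisms)
      (fun h => epi_bc_of_spannedAt P hP ρ₀ j h)) h
  have hfl := (bcCx_epi_iff_localization P x (down_prev j) (down_next j)).1 hE
  haveI : Module.FinitePresentation A (P.X (j - 1) ⧸ LinearMap.range (P.d j (j - 1)).hom) :=
    finitePresentation_quot P hP j (j - 1)
  obtain ⟨a, ha, hall⟩ := flat_nhd _ x hfl
  refine ⟨a, ha, fun B _ ρ hu => ?_⟩
  letI := ρ.toAlgebra
  haveI := bcCx_flat_X (j := j - 1) P ρ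
  exact (preservesEpi_iff_flat _ (down_prev j) (down_next j)).2 ((flat_bcCoker_iff P ρ).2 (hall B hu))

theorem h0_finitePresentation_of_epi (j : ℤ) (hE : (CohIII.TFun P j).PreservesEpimorphisms) :
    Module.FinitePresentation A (H0 P (j + 1) j (j - 1)) := by
  haveI := (hP j).1
  haveI := (hP (j - 1)).1
  haveI := (hP (j - 1)).2
  let g := (P.d j (j - 1)).hom
  haveI : Module.Flat A (P.X (j - 1)) := flat_X P hP _
  haveI : Module.Flat A (P.X (j - 1) ⧸ LinearMap.range g) :=
    (preservesEpi_iff_flat P (down_prev j) (down_next j)).1 hE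
  haveI : Module.FinitePresentation A (P.X (j - 1) ⧸ LinearMap.range g) :=
    finitePresentation_quot P hP j (j - 1)
  haveI : Module.Projective A (P.X (j - 1) ⧸ LinearMap.range g) := Module.Flat.projective_of_finitePresentation
  obtain ⟨s, hs⟩ := Module.projective_lifting_property (LinearMap.range g).mkQ LinearMap.id (Submodule.mkQ_surjective _)
  let r : P.X (j - 1) →ₗ[A] LinearMap.range g :=
    (LinearMap.id - s ∘ₗ (LinearMap.range g).mkQ).codRestrict _ fun y => by
      rw [← Submodule.Quotient.mk_eq_zero, LinearMap.sub_apply, Submodule.Quotient.mk_sub, sub_eq_zero]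
      exact (LinearMap.congr_fun hs _).symm
  haveI : Module.Projective A (LinearMap.range g) := Module.Projective.of_split (LinearMap.range g).subtype r
    (LinearMap.ext fun y => Subtype.ext (by
      show (y : P.X (j - 1)) - s ((LinearMap.range g).mkQ y) = y
      rw [(Submodule.Quotient.mk_eq_zero _).2 y.2 |> fun h => show (LinearMap.range g).mkQ (y : P.X (j - 1)) = 0 from h,
        map_zero, sub_zero]))
  haveI : Module.Finite A (LinearMap.range g) := Module.Finite.range g
  haveI : Module.FinitePresentation A (LinearMap.range g) := Module.finitePresentation_of_projective A _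
  haveI : Module.Finite A (LinearMap.ker g) := Module.Finite.iff_fg.2 (by
    have := Module.FinitePresentation.fg_ker g.rangeRestrict g.surjective_rangeRestrict
    rwa [LinearMap.ker_rangeRestrict] at this)
  obtain ⟨t, ht⟩ := Module.projective_lifting_property g.rangeRestrict LinearMap.id g.surjective_rangeRestrict
  let q : P.X j →ₗ[A] LinearMap.ker g :=
    (LinearMap.id - t ∘ₗ g.rangeRestrict).codRestrict _ fun z => by
      have := congrArg Subtype.val (LinearMap.congr_fun ht (g.rangeRestrict z))
      rw [LinearMap.mem_ker, LinearMap.sub_apply, map_sub, sub_eq_zero]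
      exact this.symm
  haveI := (hP j).2
  haveI : Module.Projective A (LinearMap.ker g) := Module.Projective.of_split (LinearMap.ker g).subtype q
    (LinearMap.ext fun z => Subtype.ext (by
      show (z : P.X j) - t (g.rangeRestrict z) = z
      rw [show g.rangeRestrict (z : P.X j) = 0 from Subtype.ext z.2, map_zero, sub_zero]))
  haveI : Module.FinitePresentation A (LinearMap.ker g) := Module.finitePresentation_of_projective A _
  haveI := (hP (j + 1)).1
  exact Module.finitePresentation_of_surjective _ (Submodule.mkQ_surjective _) (by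
    rw [Submodule.ker_mkQ, LinearMap.range_eq_map]
    exact Module.Finite.fg_top.map _)

theorem h0_finite_of_epi (j : ℤ) (hE : (CohIII.TFun P j).PreservesEpimorphisms) :
    Module.Finite A (H0 P (j + 1) j (j - 1)) :=
  haveI := h0_finitePresentation_of_epi P hP j hE
  inferInstance

/-- An epi degree with vanishing value at a point is killed by a function nonzero there. -/
theorem exists_kill (j : ℤ) (hE : (CohIII.TFun P j).PreservesEpimorphisms) (x : PrimeSpectrum A)
    (h : Subsingleton ((CohIII.TFun P j).obj (ModuleCat.of A x.asIdeal.ResidueField))) :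
    ∃ b, b ∉ x.asIdeal ∧
      ∀ z ∈ LinearMap.ker (P.d j (j - 1)).hom, b • z ∈ LinearMap.range (P.d (j + 1) j).hom := by
  haveI := h0_finite_of_epi P hP j hE
  haveI : Module.Flat A (P.X (j - 1)) := flat_X P hP _
  let H := H0 P (j + 1) j (j - 1)
  haveI : Subsingleton (H ⊗[A] x.asIdeal.ResidueField) :=
    (compMap_bijective_of_epi P (down_prev j) (down_next j)
      ((preservesEpi_iff_epiLift P (down_prev j) (down_next j)).1 hE) (ModuleCat.of A x.asIdeal.ResidueField)).1.subsingleton
  have hx : x ∉ Module.support A H := fun hm => by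
    have := (Module.mem_support_iff_nontrivial_residueField_tensorProduct x).1 hm
    exact not_nontrivial_iff_subsingleton.2 (TensorProduct.comm A x.asIdeal.ResidueField H).toEquiv.subsingleton this
  rw [Module.mem_support_iff_of_finite, SetLike.not_le_iff_exists] at hx
  obtain ⟨b, hb, hbx⟩ := hx
  refine ⟨b, hbx, fun z hz => ?_⟩
  have h0 : (Submodule.Quotient.mk (b • (⟨z, hz⟩ : LinearMap.ker (P.d j (j - 1)).hom)) : H) = 0 := by
    rw [Submodule.Quotient.mk_smul]
    exact Module.mem_annihilator.1 hb _
  obtain ⟨l, hl⟩ := (Submodule.Quotient.mk_eq_zero _).1 h0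
  exact ⟨l, congrArg Subtype.val hl⟩

theorem subsingleton_T_bc (j : ℤ) (hE : (CohIII.TFun P j).PreservesEpimorphisms) (b : A)
    (hb : ∀ z ∈ LinearMap.ker (P.d j (j - 1)).hom, b • z ∈ LinearMap.range (P.d (j + 1) j).hom)
    {B : Type u} [CommRing B] (ρ : A →+* B) (hu : IsUnit (ρ b)) (M : ModuleCat.{u} B) :
    Subsingleton ((CohIII.TFun (CohIII.bcCx ρ P) j).obj M) := by
  letI := ρ.toAlgebra
  letI : Module A M := Module.compHom M ρ
  haveI : IsScalarTower A B M := .of_algebraMap_smul fun _ _ => rfl
  haveI : Module.Flat A (P.X (j - 1)) := flat_X P hP _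
  let f := (P.d (j + 1) j).hom
  let g := (P.d j (j - 1)).hom
  have hsp : SpannedAt f g M :=
    spannedAt_of_epiLift f g ((preservesEpi_iff_epiLift P (down_prev j) (down_next j)).1 hE) M
  have hk : ∀ a : LinearMap.ker g ⊗[A] M, (LinearMap.ker g).subtype.rTensor M a ∈ LinearMap.range (f.rTensor M) := by
    intro a
    induction a using TensorProduct.induction_on with
    | zero => rw [map_zero]; exact zero_mem _
    | add a c ha hc => rw [map_add]; exact add_mem ha hc
    | tmul z m =>
      obtain ⟨l, hl⟩ := hb z z.2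
      refine ⟨l ⊗ₜ ((↑hu.unit⁻¹ : B) • m), ?_⟩
      have hm : b • ((↑hu.unit⁻¹ : B) • m) = m := by
        show ρ b • ((↑hu.unit⁻¹ : B) • m) = m
        rw [smul_smul, IsUnit.mul_val_inv, one_smul]
      rw [LinearMap.rTensor_tmul, LinearMap.rTensor_tmul, hl, TensorProduct.smul_tmul, hm]
      rfl
  refine ⟨fun s t => ?_⟩
  suffices hz : ∀ s : (CohIII.TFun (CohIII.bcCx ρ P) j).obj M, s = 0 from (hz s).trans (hz t).symm
  intro s
  obtain ⟨⟨z, hz⟩, rfl⟩ := tcls_surjective (CohIII.bcCx ρ P) (down_next j) M s
  refine (tcls_eq_zero_iff (CohIII.bcCx ρ P) (down_prev j) (down_next j) M _).2 ((mem_range_iff M f z).2 ?_)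
  obtain ⟨_, ⟨a, rfl⟩, c, hc, hac⟩ :=
    Submodule.mem_sup.1 (hsp (LinearMap.mem_ker.2 ((ker_iff M g z).1 (LinearMap.mem_ker.1 hz))))
  rw [← hac]
  exact add_mem (hk a) hc

end Groth.Agent.LeadBC.GenBC
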