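import Groth.Agent.H8Props.FinLocFree.Sheaf
import Groth.Agent.H29Ref.BigOpen
import Groth.Agent.H16Derived.KFlat.PerfConcD

/-!
# Local freeness on an open, through sections over affine opens
-/

set_option autoImplicit false
set_option linter.style.haveILetI false

universe u

open CategoryTheory CategoryTheory.Limits AlgebraicGeometry Opposite TopologicalSpace

namespace Groth.Agent.LeadBC.GenBC

open Groth.Agent.H8Props.FinLocFree Groth.Agent.H29Fitt

variable {X : Scheme.{u}} (M : X.Modules) (hM : Coh.IsQCoh M)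

include hM in
theorem exists_free_near {U : X.Opens} (hU : IsAffineOpen U) {x : X} (hxU : x ∈ U)
    [Module.FinitePresentation Γ(X, U) Γ(M, U)] [Module.Flat Γ(X, U) Γ(M, U)] :
    ∃ r, FlatFun.IsFreeOfRankNear M r x := by
  haveI : Module.Free (Localization.AtPrime (hU.primeIdealOf ⟨x, hxU⟩).asIdeal)
      (LocalizedModule (hU.primeIdealOf ⟨x, hxU⟩).asIdeal.primeCompl Γ(M, U)) :=
    Module.free_of_flat_of_isLocalRing
  obtain ⟨f, r, m, hf, hs, hi⟩ := exists_basis_upTo (M := Γ(M, U)) (hU.primeIdealOf ⟨x, hxU⟩).asIdeal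
  have hx : x ∈ X.basicOpen f := by
    by_contra hn
    refine hf ((H29Blow.mem_primeIdealOf_iff hU ⟨x, hxU⟩ f).mpr fun hu => hn ?_)
    exact (X.mem_basicOpen f x hxU).mpr hu
  haveI := isIso_basicHom M hM hU f m hs hi
  exact ⟨r, X.basicOpen f, hx, ⟨(asIso (basicHom M f m)).symm⟩⟩

theorem exists_free_near_of_restrict {V : X.Opens} (h : FlatMod.IsFinLocFree (M.restrict V.ι)) {x : X}
    (hx : x ∈ V) : ∃ r, FlatFun.IsFreeOfRankNear M r x := by
  obtain ⟨G, r, hG, ⟨e⟩⟩ := h ⟨x, hx⟩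
  let W : X.Opens := V.ι ''ᵁ G
  let k : (W : Scheme.{u}) ⟶ (G : Scheme.{u}) :=
    IsOpenImmersion.lift (G.ι ≫ V.ι) W.ι (by
      rw [Scheme.Opens.range_ι, Scheme.Hom.comp_base, TopCat.coe_comp, Set.range_comp,
        Scheme.Opens.range_ι]
      exact subset_of_eq (Scheme.Hom.coe_image V.ι))
  have hk : k ≫ G.ι ≫ V.ι = W.ι := IsOpenImmersion.lift_fac _ _ _
  refine ⟨r, W, ⟨⟨x, hx⟩, hG, rfl⟩, ⟨?_⟩⟩
  exact ((Scheme.Modules.pullback k).mapIso
        ((Scheme.Modules.restrictFunctorIsoPullback G.ι).app (M.restrict V.ι) ≪≫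
          (Scheme.Modules.pullback G.ι).mapIso
            ((Scheme.Modules.restrictFunctorIsoPullback V.ι).app M) ≪≫
          (Scheme.Modules.pullbackComp _ _).app M) ≪≫
      (Scheme.Modules.pullbackComp _ _).app M ≪≫ (Scheme.Modules.pullbackCongr hk).app M ≪≫
      ((Scheme.Modules.restrictFunctorIsoPullback _).app M).symm).symm ≪≫
    (Scheme.Modules.pullback k).mapIso e ≪≫ H16Derived.KFlat.Stalk.freeModPullbackIso k r

include hM in
theorem flat_sections_of_restrict {V W : X.Opens} (h : FlatMod.IsFinLocFree (M.restrict V.ι))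
    (hW : IsAffineOpen W) (hle : W ≤ V) : Module.Flat Γ(X, W) Γ(M, W) := by
  refine (flat_sections_iff M hM hW).2 fun y => ?_
  obtain ⟨r, U, hyU, ⟨e⟩⟩ := exists_free_near_of_restrict M h (hle y.2)
  obtain ⟨_, ⟨O, hO : IsAffineOpen O, rfl⟩, hyO, hOU⟩ :=
    X.isBasis_affineOpens.exists_subset_of_mem_open hyU U.isOpen
  obtain ⟨b⟩ := exists_basis_of_chart M e hOU
  haveI := Module.Free.of_basis b
  exact (flat_sections_iff M hM hO).1 inferInstance ⟨y.1, hyO⟩

end Groth.Agent.LeadBC.GenBC
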