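import Groth.Agent.LeadBC.GenBC.Crit
import Groth.Agent.H10Coh.Support
import Groth.Agent.H11Tilde.ModLoc

/-!
# Transposes, tested on a family of affine pairs or at a point
-/

set_option autoImplicit false
set_option linter.style.haveILetI false
set_option linter.unusedSectionVars false

universe u

open CategoryTheory CategoryTheory.Limits AlgebraicGeometry Opposite TopologicalSpace
open scoped TensorProduct

namespace Groth.Agent.LeadBC.GenBC

open Groth.Agent.H10Coh

variable {S S' : Scheme.{u}} (g : S' ⟶ S) {N : S.Modules} {N' : S'.Modules} (hN : Coh.IsQCoh N)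
  (τ : N ⟶ (Scheme.Modules.pushforward g).obj N')

include hN in
/-- Sections of a transpose over an affine pair. -/
theorem exists_transpose_app {V : S.Opens} {V' : S'.Opens} (hV : IsAffineOpen V) (hV' : IsAffineOpen V')
    (hle : V' ≤ g ⁻¹ᵁ V) :
    letI := (g.appLE V V' hle).hom.toAlgebra
    letI := Module.compHom Γ(N', V') (g.appLE V V' hle).hom
    haveI : IsScalarTower Γ(S, V) Γ(S', V') Γ(N', V') := .of_algebraMap_smul fun _ _ => rfl
    ∃ c : Γ(S', V') ⊗[Γ(S, V)] Γ(N, V) → Γ((Scheme.Modules.pullback g).obj N, V'), Function.Bijective c ∧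
      (LinearMap.liftBaseChange Γ(S', V') (FBC.locLin g τ hle) : _ → _) =
        (((Scheme.Modules.pullbackPushforwardAdjunction g).homEquiv N N').symm τ).app V' ∘ c := by
  letI := (g.appLE V V' hle).hom.toAlgebra
  letI := Module.compHom Γ(N', V') (g.appLE V V' hle).hom
  haveI : IsScalarTower Γ(S, V) Γ(S', V') Γ(N', V') := .of_algebraMap_smul fun _ _ => rfl
  letI := Module.compHom Γ((Scheme.Modules.pullback g).obj N, V') (g.appLE V V' hle).hom
  haveI : IsScalarTower Γ(S, V) Γ(S', V') Γ((Scheme.Modules.pullback g).obj N, V') :=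
    .of_algebraMap_smul fun _ _ => rfl
  have hbc : IsBaseChange Γ(S', V') (H8Props.PullSections.pullLin g N hle) :=
    H8Props.PullSections.isBaseChange_pullLin g N hle hN hV hV'
  let ψ := ((Scheme.Modules.pullbackPushforwardAdjunction g).homEquiv N N').symm τ
  have hψ : (Scheme.Modules.pullbackPushforwardAdjunction g).unit.app N ≫
      (Scheme.Modules.pushforward g).map ψ = τ :=
    ((Scheme.Modules.pullbackPushforwardAdjunction g).homEquiv_unit N N' ψ).symm.trans (Equiv.apply_symm_apply _ τ)
  refine ⟨hbc.equiv, hbc.equiv.bijective, funext fun z => ?_⟩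
  show _ = ψ.app V' (hbc.equiv z)
  induction z using TensorProduct.induction_on with
  | zero => rw [map_zero, map_zero, map_zero]
  | add x y hx hy => rw [map_add, map_add, map_add, hx, hy]
  | tmul b m =>
    rw [LinearMap.liftBaseChange_tmul, IsBaseChange.equiv_tmul]
    refine Eq.trans ?_ (ψ.app_smul b _).symm
    refine congrArg (b • ·) ?_
    refine Eq.trans ?_ (app_rs ψ hle (OmegaSh.pullSect g N V m)).symm
    exact congrArg (rs N' hle) (congr($(congrArg (fun k => Scheme.Modules.Hom.app k V) hψ) m)).symm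

include hN in
/-- A transpose is an isomorphism if it is bijective on affine pairs whose lower term lies in a family
covering the image. -/
theorem isIso_transpose_of (T : S.Opens → Prop) (hT : ∀ z : S', ∃ V, T V ∧ IsAffineOpen V ∧ g z ∈ V)
    (h : ∀ (V : S.Opens) (V' : S'.Opens) (_ : T V) (_ : IsAffineOpen V) (_ : IsAffineOpen V')
        (hle : V' ≤ g ⁻¹ᵁ V),
      letI := (g.appLE V V' hle).hom.toAlgebra
      letI := Module.compHom Γ(N', V') (g.appLE V V' hle).hom
      haveI : IsScalarTower Γ(S, V) Γ(S', V') Γ(N', V') := .of_algebraMap_smul fun _ _ => rfl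
      Function.Bijective (LinearMap.liftBaseChange Γ(S', V') (FBC.locLin g τ hle))) :
    IsIso (((Scheme.Modules.pullbackPushforwardAdjunction g).homEquiv N N').symm τ) := by
  let ψ := ((Scheme.Modules.pullbackPushforwardAdjunction g).homEquiv N N').symm τ
  haveI : IsIso ((shF S').map ψ) := by
    refine TopCat.Sheaf.isIso_iff_isIso_basis
      (B := fun i : {V' : S'.Opens // IsAffineOpen V' ∧ ∃ V : S.Opens, T V ∧ IsAffineOpen V ∧ V' ≤ g ⁻¹ᵁ V} => i.1)
      ?_ fun ⟨V', hV', V, hTV, hV, hle⟩ => ?_
    · rw [Opens.isBasis_iff_nbhd]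
      intro U x hx
      obtain ⟨V, hTV, hV, hxV⟩ := hT x
      obtain ⟨V', hV', hxV', hle⟩ := exists_isAffineOpen_mem_and_subset (U := g ⁻¹ᵁ V ⊓ U) (x := x) ⟨hxV, hx⟩
      exact ⟨V', ⟨⟨V', hV', V, hTV, hV, fun y hy => (hle hy).1⟩, rfl⟩, hxV', fun y hy => (hle hy).2⟩
    · obtain ⟨c, hc, he⟩ := exists_transpose_app g hN τ hV hV' hle
      have hb := h V V' hTV hV hV' hle
      rw [he] at hb
      exact (ConcreteCategory.isIso_iff_bijective _).2 ((Function.Bijective.of_comp_iff _ hc).1 hb)
  exact isIso_of_reflects_iso ψ (shF S')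

/-- On a one point space a morphism of modules is an epimorphism iff it is onto on global sections. -/
theorem epi_iff_surjective_top {X : Scheme.{u}} [Subsingleton X] [Nonempty X] {M N : X.Modules} (φ : M ⟶ N) :
    Epi φ ↔ Function.Surjective (φ.app ⊤) := by
  constructor
  · intro _ t
    obtain ⟨x⟩ := ‹Nonempty X›
    obtain ⟨W, hW, hxW, z, hz⟩ := exists_nhds_lift_of_epi φ ⊤ t x trivial
    obtain rfl : W = ⊤ := eq_top_iff.2 fun y _ => Subsingleton.elim x y ▸ hxW
    exact ⟨z, hz.trans (congr($(N.presheaf.map_id (op ⊤)) t))⟩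
  · intro h
    refine H11Tilde.epi_of_locally_surjective φ fun U t x hx => ?_
    obtain rfl : U = ⊤ := eq_top_iff.2 fun y _ => Subsingleton.elim x y ▸ hx
    obtain ⟨z, hz⟩ := h t
    exact ⟨⊤, le_rfl, trivial, z, hz.trans (congr($(N.presheaf.map_id (op ⊤)) t)).symm⟩

end Groth.Agent.LeadBC.GenBC
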