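import Groth.Agent.LeadBC.GenBC.Chart
import Groth.Agent.LeadBC.GenBC.Point
import Groth.Agent.LeadBC.GenBC.Alg
import Groth.Agent.LeadBC.GenBC.Free
import Groth.Agent.LeadBC.Apps
import Groth.Agent.LeadBC.Gamma
import Groth.Agent.LeadBC.Vanishing
import Groth.Agent.LeadBC.SectRpush

/-!
# Cohomology and base change over an arbitrary base
-/

set_option autoImplicit false
set_option linter.style.haveILetI false
set_option linter.unusedSectionVars false

universe u

open CategoryTheory CategoryTheory.Limits AlgebraicGeometry Opposite TopologicalSpace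
open scoped TensorProduct

namespace Groth.Agent.LeadBC.GenBC

open Groth.Agent.H10Coh Groth.Agent.LeadBC Groth.Agent.H06FlatCx

attribute [local instance 10000] hasSheafifyAb hasWeakSheafifyAb hasExtAb enoughInjAb

variable {X S : Scheme.{u}} (f : X ⟶ S) (F : X.Modules)

/-- Over the affine open `V` the functor `M ↦ H^p(f⁻¹V, F ⊗ M)` is right exact. -/
def EpiOn {V : S.Opens} (hV : IsAffineOpen V) (p : ℕ) : Prop :=
  letI := preOver f hV
  (CohIII.tensorAFunctor Γ(S, V) (F.restrict (f ⁻¹ᵁ V).ι) ⋙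
    CohIII.HAb (f ⁻¹ᵁ V).toScheme p).PreservesEpimorphisms

/-- Over the affine open `V` the functor `M ↦ H^p(f⁻¹V, F ⊗ M)` is left exact. -/
def MonoOn {V : S.Opens} (hV : IsAffineOpen V) (p : ℕ) : Prop :=
  letI := preOver f hV
  (CohIII.tensorAFunctor Γ(S, V) (F.restrict (f ⁻¹ᵁ V).ι) ⋙
    CohIII.HAb (f ⁻¹ᵁ V).toScheme p).PreservesMonomorphisms

variable [F.IsQuasicoherent] {V : S.Opens} (hV : IsAffineOpen V)
  {ι : Type u} [Finite ι] {U : ι → (f ⁻¹ᵁ V).toScheme.Opens}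

theorem epiOn_iff (hU : letI := preOver f hV; GoodCover U)
    (m : letI := preOver f hV; Model (A := Γ(S, V)) (f ⁻¹ᵁ V).toScheme (F.restrict (f ⁻¹ᵁ V).ι) U) (p : ℕ) :
    letI := preOver f hV
    EpiOn f F hV p ↔ (CohIII.TFun m.P ((m.N : ℤ) - p)).PreservesEpimorphisms := by
  letI := preOver f hV
  haveI : (F.restrict (f ⁻¹ᵁ V).ι).IsQuasicoherent := Scheme.Modules.isQuasicoherent_restrictFunctor _ F
  exact preservesEpi_iff (m.iso hU p)

theorem monoOn_iff (hU : letI := preOver f hV; GoodCover U)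
    (m : letI := preOver f hV; Model (A := Γ(S, V)) (f ⁻¹ᵁ V).toScheme (F.restrict (f ⁻¹ᵁ V).ι) U) (p : ℕ) :
    letI := preOver f hV
    MonoOn f F hV p ↔ (CohIII.TFun m.P ((m.N : ℤ) - p)).PreservesMonomorphisms := by
  letI := preOver f hV
  haveI : (F.restrict (f ⁻¹ᵁ V).ι).IsQuasicoherent := Scheme.Modules.isQuasicoherent_restrictFunctor _ F
  exact preservesMono_iff (m.iso hU p)

variable [IsProper f] [LocallyOfFinitePresentation f] (hfp : CohB1.IsFP F) (hfl : FlatMod.IsFlatOver f F)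

include hfp hfl in
theorem monoOn_succ_iff (p : ℕ) : MonoOn f F hV (p + 1) ↔ EpiOn f F hV p := by
  letI := preOver f hV
  obtain ⟨ι, _, U, hU, ⟨m⟩⟩ := exists_chart f hV F hfp hfl
  rw [monoOn_iff f F hV hU m, epiOn_iff f F hV hU m]
  exact (epi_iff_mono_pred m.P (fun i => flat_X m.P m.finite_free i) (by push_cast; ring)).symm

include hfp hfl in
theorem monoOn_zero : MonoOn f F hV 0 := by
  letI := preOver f hV
  obtain ⟨ι, _, U, hU, ⟨m⟩⟩ := exists_chart f hV F hfp hfl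
  haveI : (F.restrict (f ⁻¹ᵁ V).ι).IsQuasicoherent := Scheme.Modules.isQuasicoherent_restrictFunctor _ F
  refine (monoOn_iff f F hV hU m 0).2 ((epi_iff_mono_pred m.P (fun i => flat_X m.P m.finite_free i)
    (p := (m.N : ℤ) + 1) (q := (m.N : ℤ) - (0 : ℕ)) (by simp)).1 ?_)
  exact preservesEpi_of_forall_subsingleton m.P _ fun M => m.subsingleton_above (lt_add_one _) M

include hfp hfl in
theorem EpiOn.of_le {p : ℕ} (h : EpiOn f F hV p) {W : S.Opens} (hW : IsAffineOpen W) (hle : W ≤ V) :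
    EpiOn f F hW p := by
  letI := preOver f hV
  letI := preOver f hW
  obtain ⟨ι, _, U, hU, ⟨m⟩⟩ := exists_chart f hV F hfp hfl
  obtain ⟨U', hU', m', hN, hP⟩ := exists_chart_le f hV hU m hW hle
  refine (epiOn_iff f F hW hU' m' p).2 ?_
  haveI := flat_X m.P m.finite_free ((m.N : ℤ) - p - 1)
  rw [hN, hP]
  exact bcCx_preservesEpi_of m.P _ (down_prev _) (down_next _) ((epiOn_iff f F hV hU m p).1 h)

include hfp hfl in
theorem MonoOn.of_le {p : ℕ} (h : MonoOn f F hV p) {W : S.Opens} (hW : IsAffineOpen W) (hle : W ≤ V) :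
    MonoOn f F hW p := by
  letI := preOver f hV
  letI := preOver f hW
  obtain ⟨ι, _, U, hU, ⟨m⟩⟩ := exists_chart f hV F hfp hfl
  obtain ⟨U', hU', m', hN, hP⟩ := exists_chart_le f hV hU m hW hle
  refine (monoOn_iff f F hW hU' m' p).2 ?_
  haveI := flat_X m.P m.finite_free ((m.N : ℤ) - p - 1)
  rw [hN, hP]
  exact bcCx_preservesMono_of m.P _ (down_prev _) (down_next _) ((monoOn_iff f F hV hU m p).1 h)

include hfp hfl in
/-- A point with a residue field spanned value has a neighbourhood of right exactness. -/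
theorem exists_epiOn_nhd (hU : letI := preOver f hV; GoodCover U)
    (m : letI := preOver f hV; Model (A := Γ(S, V)) (f ⁻¹ᵁ V).toScheme (F.restrict (f ⁻¹ᵁ V).ι) U)
    {s : S} (hs : s ∈ V) (p : ℕ)
    (h : letI := preOver f hV; SpannedAt (m.P.d ((m.N : ℤ) - p + 1) ((m.N : ℤ) - p)).hom
      (m.P.d ((m.N : ℤ) - p) ((m.N : ℤ) - p - 1)).hom (hV.primeIdealOf ⟨s, hs⟩).asIdeal.ResidueField) :
    ∃ (W : S.Opens) (hW : IsAffineOpen W), s ∈ W ∧ W ≤ V ∧ EpiOn f F hW p := by
  letI := preOver f hV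
  obtain ⟨a, ha, hall⟩ := exists_epi_nhd m.P m.finite_free ((m.N : ℤ) - p) _ h
  have hsa : s ∈ S.basicOpen a :=
    (S.mem_basicOpen a s hs).2 ((H29Blow.mem_primeIdealOf_iff hV ⟨s, hs⟩ a).not_left.1 ha)
  have hW := hV.basicOpen a
  letI := preOver f hW
  obtain ⟨U', hU', m', hN, hP⟩ := exists_chart_le f hV hU m hW (S.basicOpen_le a)
  refine ⟨S.basicOpen a, hW, hsa, S.basicOpen_le a, (epiOn_iff f F hW hU' m' p).2 ?_⟩
  rw [hN, hP]
  exact hall _ _ (RingedSpace.isUnit_res_basicOpen _ a)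

section sections

variable [HasInjectiveResolutions X.Modules] {Δ : RDer.DerivedLES (Scheme.Modules.pushforward f)}

/-- Sections of a higher direct image over a chart. -/
theorem exists_secEquiv (hU : letI := preOver f hV; GoodCover U)
    (m : letI := preOver f hV; Model (A := Γ(S, V)) (f ⁻¹ᵁ V).toScheme (F.restrict (f ⁻¹ᵁ V).ι) U) (p : ℕ) :
    letI := preOver f hV
    Nonempty (H0 m.P ((m.N : ℤ) - p + 1) ((m.N : ℤ) - p) ((m.N : ℤ) - p - 1) ≃ₗ[Γ(S, V)]
      Γ((Coh.Rpush f p).obj F, V)) := by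
  letI := preOver f hV
  haveI : (F.restrict (f ⁻¹ᵁ V).ι).IsQuasicoherent := Scheme.Modules.isQuasicoherent_restrictFunctor _ F
  obtain ⟨e, he⟩ := exists_rpushEquiv f hV F p
  exact ⟨tSelfEquiv m.P (down_prev _) (down_next _) ≪≫ₗ Model.eA hU m p ≪≫ₗ { e with map_smul' := he }⟩

include hfp hfl in
/-- Vanishing at a point spreads out, with exactness on both sides. -/
theorem exists_vanishing_nhd (p : ℕ) {s : S} (h : Subsingleton (CohIII.fiberH f F s p)) :
    ∃ (W : S.Opens) (hW : IsAffineOpen W), s ∈ W ∧ EpiOn f F hW p ∧ MonoOn f F hW p ∧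
      IsZero (((Coh.Rpush f p).obj F).restrict W.ι) ∧
      ∀ y ∈ W, Subsingleton (CohIII.fiberH f F y p) := by
  obtain ⟨V, hV, hs, -⟩ := exists_isAffineOpen_mem_and_subset (U := (⊤ : S.Opens)) (x := s) trivial
  letI := preOver f hV
  obtain ⟨ι, _, U, hU, ⟨m⟩⟩ := exists_chart f hV F hfp hfl
  have hT := ((subsingleton_fiberH_iff f hV hU m hs p).1).1 h
  obtain ⟨V₁, hV₁, hs₁, -, he₁⟩ := exists_epiOn_nhd f F hV hfp hfl hU m hs p
    (spannedAt_of_subsingleton_T m.P _ _ hT)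
  clear hT
  letI := preOver f hV₁
  obtain ⟨ι₁, _, U₁, hU₁, ⟨m₁⟩⟩ := exists_chart f hV₁ F hfp hfl
  obtain ⟨b, hb, hkill⟩ := exists_kill m₁.P m₁.finite_free _ ((epiOn_iff f F hV₁ hU₁ m₁ p).1 he₁) _
    (((subsingleton_fiberH_iff f hV₁ hU₁ m₁ hs₁ p).1).1 h)
  have hsb : s ∈ S.basicOpen b :=
    (S.mem_basicOpen b s hs₁).2 ((H29Blow.mem_primeIdealOf_iff hV₁ ⟨s, hs₁⟩ b).not_left.1 hb)
  have hW := hV₁.basicOpen b
  letI := preOver f hW
  obtain ⟨U₂, hU₂, m₂, hN, hP⟩ := exists_chart_le f hV₁ hU₁ m₁ hW (S.basicOpen_le b)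
  have hall : ∀ M, Subsingleton ((CohIII.TFun m₂.P ((m₂.N : ℤ) - p)).obj M) := by
    rw [hN, hP]
    exact fun M => subsingleton_T_bc m₁.P m₁.finite_free _ ((epiOn_iff f F hV₁ hU₁ m₁ p).1 he₁) b hkill _
      (RingedSpace.isUnit_res_basicOpen _ b) M
  refine ⟨S.basicOpen b, hW, hsb, (epiOn_iff f F hW hU₂ m₂ p).2 (preservesEpi_of_forall_subsingleton _ _ hall),
    (monoOn_iff f F hW hU₂ m₂ p).2 (preservesMono_of_forall_subsingleton _ _ hall),
    isZero_restrict_basicOpen _ (H10Coh.isQuasicoherent_rpush f F p) hV₁ b fun z => ?_,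
    fun y hy => ((subsingleton_fiberH_iff f hW hU₂ m₂ hy p).1).2 (hall _)⟩
  obtain ⟨e⟩ := exists_secEquiv f F hV₁ hU₁ m₁ p
  obtain ⟨z, rfl⟩ := e.surjective z
  rw [← map_smul]
  obtain ⟨⟨c, hc⟩, rfl⟩ := Submodule.mkQ_surjective _ z
  obtain ⟨l, hl⟩ := hkill c hc
  rw [← map_smul, LinearEquiv.map_eq_zero_iff]
  exact (Submodule.Quotient.mk_eq_zero _).2 (LinearMap.mem_range.2 ⟨l, Subtype.ext hl⟩)

include hfp hfl in
/-- Over a chart where the functor is exact, the higher direct image is finitely presented and flat, of the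
expected rank. -/
theorem sections_of_exact {p : ℕ} (he : EpiOn f F hV p) (hm : MonoOn f F hV p) :
    Module.FinitePresentation Γ(S, V) Γ((Coh.Rpush f p).obj F, V) ∧
      Module.Flat Γ(S, V) Γ((Coh.Rpush f p).obj F, V) ∧
        IsLocallyConstant (fun y : V => CohIII.fiberRank f F p y.1) := by
  letI := preOver f hV
  obtain ⟨ι, _, U, hU, ⟨m⟩⟩ := exists_chart f hV F hfp hfl
  obtain ⟨e⟩ := exists_secEquiv f F hV hU m p
  have hE := (epiOn_iff f F hV hU m p).1 he
  haveI := flat_X m.P m.finite_free ((m.N : ℤ) - p - 1)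
  haveI := h0_finitePresentation_of_epi m.P m.finite_free _ hE
  haveI : Module.Flat Γ(S, V) (H0 m.P ((m.N : ℤ) - p + 1) ((m.N : ℤ) - p) ((m.N : ℤ) - p - 1)) :=
    (flat_h0_iff_mono m.P (down_prev _) (down_next _) hE).1 ((monoOn_iff f F hV hU m p).1 hm)
  refine ⟨Module.FinitePresentation.of_equiv e, Module.Flat.of_linearEquiv e.symm, ?_⟩
  have h1 : ∀ y : V, CohIII.fiberRank f F p y.1 =
      Module.rankAtStalk (R := Γ(S, V)) (H0 m.P ((m.N : ℤ) - p + 1) ((m.N : ℤ) - p) ((m.N : ℤ) - p - 1))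
        (hV.primeIdealOf y) := fun y => by
    rw [(subsingleton_fiberH_iff f hV hU m y.2 p).2, dRank_eq_fibDim_of_epi m.P (down_prev _) (down_next _)
      ((preservesEpi_iff_epiLift m.P (down_prev _) (down_next _)).1 hE), fibDim_eq_rankAtStalk]
  rw [funext h1]
  exact Module.isLocallyConstant_rankAtStalk.comp_continuous
    (hV.isoSpec.hom.continuous)

include hfp hfl in
/-- The locus of exactness gives finite local freeness. -/
theorem isFinLocFree_of_exact (p : ℕ) (O : S.Opens)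
    (h : ∀ y ∈ O, ∃ (W : S.Opens) (hW : IsAffineOpen W), y ∈ W ∧ EpiOn f F hW p ∧ MonoOn f F hW p) :
    FlatMod.IsFinLocFree (((Coh.Rpush f p).obj F).restrict O.ι) :=
  H29Ref.isFinLocFree_restrict _ O fun y hy => by
    obtain ⟨W, hW, hyW, he, hm⟩ := h y hy
    obtain ⟨h1, h2, -⟩ := sections_of_exact f F hW hfp hfl he hm
    exact exists_free_near _ (H10Coh.isQuasicoherent_rpush f F p) hW hyW

include hfp hfl in
/-- The base change map is an isomorphism over the locus of right exactness. -/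
theorem isIso_bc {X' S' : Scheme.{u}} {g : S' ⟶ S} {g' : X' ⟶ X} {f' : X' ⟶ S'} (h : IsPullback g' f' f g)
    [HasInjectiveResolutions X'.Modules] {Δ' : RDer.DerivedLES (Scheme.Modules.pushforward f')}
    {E : CohCmp.SectCmp f Δ} {E' : CohCmp.SectCmp f' Δ'} (B : CohCmp.GenBC f g f' g' h.w E E') (p : ℕ)
    (hT : ∀ z : S', ∃ (W : S.Opens) (hW : IsAffineOpen W), g z ∈ W ∧ EpiOn f F hW p) :
    IsIso (B.bc p F) := by
  haveI : QuasiCompact f' := MorphismProperty.of_isPullback h (inferInstance : QuasiCompact f)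
  haveI : QuasiSeparated f' := MorphismProperty.of_isPullback h (inferInstance : QuasiSeparated f)
  refine isIso_transpose_of g (H10Coh.isQuasicoherent_rpush f F p) (B.φ p F)
    (fun W => ∃ hW : IsAffineOpen W, EpiOn f F hW p)
    (fun z => by obtain ⟨W, hW, hz, he⟩ := hT z; exact ⟨W, ⟨hW, he⟩, hW, hz⟩)
    fun V V' hTV hV hV' hle => ?_
  obtain ⟨hV, he⟩ := hTV
  letI := preOver f hV
  obtain ⟨ι, _, U, hU, ⟨m⟩⟩ := exists_chart f hV F hfp hfl
  haveI := flat_X m.P m.finite_free ((m.N : ℤ) - p - 1)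
  exact (bijective_locLin_iff f h E E' B F hV hV' hle hU m p).2 (compMap_bijective_of_epi m.P _ _
    ((preservesEpi_iff_epiLift m.P (down_prev _) (down_next _)).1 ((epiOn_iff f F hV hU m p).1 he)) _)

include hfp hfl in
/-- An epimorphic base change map to a field valued point spreads out. -/
theorem exists_epiOn_of_epi {X' : Scheme.{u}} {K : Type u} [Field K] {g : Spec (CommRingCat.of K) ⟶ S}
    {g' : X' ⟶ X} {f' : X' ⟶ Spec (CommRingCat.of K)} (h : IsPullback g' f' f g)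
    [HasInjectiveResolutions X'.Modules] {Δ' : RDer.DerivedLES (Scheme.Modules.pushforward f')}
    {E : CohCmp.SectCmp f Δ} {E' : CohCmp.SectCmp f' Δ'} (B : CohCmp.GenBC f g f' g' h.w E E') (p : ℕ)
    (s : S) (hg : ∀ z, g z = s) (he : Epi (B.bc p F)) :
    ∃ (W : S.Opens) (hW : IsAffineOpen W), s ∈ W ∧ EpiOn f F hW p := by
  haveI : QuasiCompact f' := MorphismProperty.of_isPullback h (inferInstance : QuasiCompact f)
  haveI : QuasiSeparated f' := MorphismProperty.of_isPullback h (inferInstance : QuasiSeparated f)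
  obtain ⟨V, hV, hs, -⟩ := exists_isAffineOpen_mem_and_subset (U := (⊤ : S.Opens)) (x := s) trivial
  letI := preOver f hV
  obtain ⟨ι, _, U, hU, ⟨m⟩⟩ := exists_chart f hV F hfp hfl
  have hle : (⊤ : (Spec (CommRingCat.of K)).Opens) ≤ g ⁻¹ᵁ V := fun z _ => by
    show g z ∈ V
    rw [hg]
    exact hs
  have hW : IsAffineOpen (⊤ : (Spec (CommRingCat.of K)).Opens) := isAffineOpen_top _
  letI := (g.appLE V ⊤ hle).hom.toAlgebra
  have hF : IsField Γ(Spec (CommRingCat.of K), ⊤) :=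
    MulEquiv.isField (Field.toIsField K) (Scheme.ΓSpecIso (CommRingCat.of K)).commRingCatIsoToRingEquiv.toMulEquiv
  letI : Field Γ(Spec (CommRingCat.of K), ⊤) := hF.toField
  have hker : RingHom.ker (algebraMap Γ(S, V) Γ(Spec (CommRingCat.of K), ⊤)) =
      (hV.primeIdealOf ⟨s, hs⟩).asIdeal := by
    let z₀ : Spec Γ(Spec (CommRingCat.of K), ⊤) := ⟨(⊥ : Ideal Γ(Spec (CommRingCat.of K), ⊤)), Ideal.isPrime_bot⟩
    have h1 : (Spec.map (g.appLE V ⊤ hle)) z₀ = hV.primeIdealOf ⟨s, hs⟩ := hV.fromSpec.isOpenEmbedding.injective (by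
      rw [hV.fromSpec_primeIdealOf, ← Scheme.Hom.comp_apply, hV.SpecMap_appLE_fromSpec g hW hle,
        Scheme.Hom.comp_apply]
      exact hg _)
    exact congrArg PrimeSpectrum.asIdeal h1
  haveI : Subsingleton (Spec (CommRingCat.of K)) := inferInstanceAs (Subsingleton (PrimeSpectrum K))
  haveI : Nonempty (Spec (CommRingCat.of K)) := inferInstanceAs (Nonempty (PrimeSpectrum K))
  obtain ⟨c, hc, hfun⟩ := exists_transpose_app g (H10Coh.isQuasicoherent_rpush f F p) (B.φ p F) hV hW hle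
  have hsurj := ((epi_iff_surjective_top (B.bc p F)).1 he).comp hc.surjective
  have hcm := (surjective_locLin_iff f h E E' B F hV hW hle hU m p).1 (by rw [hfun]; exact hsurj)
  obtain ⟨W, hW', hsW, -, hE⟩ := exists_epiOn_nhd f F hV hfp hfl hU m hs p
    (spannedAt_residueField_of_field _ _ _ hker ((compMap_surjective_iff m.P _ _ _).1 hcm))
  exact ⟨W, hW', hsW, hE⟩

end sections

end Groth.Agent.LeadBC.GenBC
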