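import Groth.Agent.LeadBC.GenBC.Apply

/-!
# Constant fibre ranks over a reduced base
-/

set_option autoImplicit false
set_option linter.style.haveILetI false
set_option linter.unusedSectionVars false

universe u

open CategoryTheory CategoryTheory.Limits AlgebraicGeometry Opposite TopologicalSpace

namespace Groth.Agent.LeadBC.GenBC

open Groth.Agent.H10Coh Groth.Agent.H06FlatCx

attribute [local instance 10000] hasSheafifyAb hasWeakSheafifyAb hasExtAb enoughInjAb

theorem cok_flat_of_dRank_const {A : Type u} [CommRing A] [IsReduced A] (P : ChainComplex (ModuleCat.{u} A) ℤ)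
    (hP : ∀ i, Module.Finite A (P.X i) ∧ Module.Free A (P.X i)) (p : ℤ) (h : IsLocallyConstant (CohIII.dRank P p)) :
    Module.Flat A (P.X p ⧸ LinearMap.range (P.d (p + 1) p).hom) ∧
      Module.Flat A (P.X (p - 1) ⧸ LinearMap.range (P.d p (p - 1)).hom) := by
  haveI := (hP p).1
  haveI := (hP (p - 1)).1
  haveI := (hP (p - 1)).2
  haveI : Module.FinitePresentation A (P.X (p - 1)) := Module.finitePresentation_of_projective A _
  have hX : IsLocallyConstant (fibDim (A := A) (P.X (p - 1))) := by
    rw [show fibDim (A := A) (P.X (p - 1)) = Module.rankAtStalk (R := A) (P.X (p - 1)) from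
      funext (fibDim_eq_rankAtStalk (P.X (p - 1)))]
    exact Module.isLocallyConstant_rankAtStalk
  let C₁ := P.X p ⧸ LinearMap.range (P.d (p + 1) p).hom
  let C₂ := P.X (p - 1) ⧸ LinearMap.range (P.d p (p - 1)).hom
  have key : ∀ x, (∀ᶠ y in nhds x, fibDim (A := A) C₁ y = fibDim (A := A) C₁ x) ∧ ∀ᶠ y in nhds x, fibDim (A := A) C₂ y = fibDim (A := A) C₂ x := by
    intro x
    have h0 := (hX.isOpen_fiber (fibDim (P.X (p - 1)) x)).mem_nhds rfl
    have h1 := (isOpen_fibDim_le C₁ (fibDim (A := A) C₁ x)).mem_nhds (le_refl (fibDim (A := A) C₁ x))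
    have h2 := (isOpen_fibDim_le C₂ (fibDim (A := A) C₂ x)).mem_nhds (le_refl (fibDim (A := A) C₂ x))
    rw [← Filter.eventually_and]
    filter_upwards [h.eventually_eq x, h0, h1, h2] with y e e0 e1 e2
    change fibDim (P.X (p - 1)) y = fibDim (P.X (p - 1)) x at e0
    change fibDim (A := A) C₁ y ≤ fibDim (A := A) C₁ x at e1
    change fibDim (A := A) C₂ y ≤ fibDim (A := A) C₂ x at e2
    have a1 : CohIII.dRank P p x + fibDim (P.X (p - 1)) x = fibDim (A := A) C₁ x + fibDim (A := A) C₂ x :=
      dRank_add P (down_prev p) (down_next p) x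
    have a2 : CohIII.dRank P p y + fibDim (P.X (p - 1)) y = fibDim (A := A) C₁ y + fibDim (A := A) C₂ y :=
      dRank_add P (down_prev p) (down_next p) y
    omega
  exact ⟨flat_of_isLocallyConstant_fibDim _ ((IsLocallyConstant.iff_eventually_eq _).2 fun x => (key x).1),
    flat_of_isLocallyConstant_fibDim _ ((IsLocallyConstant.iff_eventually_eq _).2 fun x => (key x).2)⟩

variable {X S : Scheme.{u}} (f : X ⟶ S) [IsProper f] [LocallyOfFinitePresentation f] (F : X.Modules)
  [F.IsQuasicoherent] (hfp : CohB1.IsFP F) (hfl : FlatMod.IsFlatOver f F)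

include hfp hfl in
/-- Over a reduced base a constant rank gives exactness on every chart. -/
theorem exact_of_rank_const [IsReduced S] {V : S.Opens} (hV : IsAffineOpen V) (p : ℕ)
    (h : IsLocallyConstant (CohIII.fiberRank f F p)) : EpiOn f F hV p ∧ MonoOn f F hV p := by
  letI := preOver f hV
  obtain ⟨ι, _, U, hU, ⟨m⟩⟩ := exists_chart f hV F hfp hfl
  have hd : CohIII.dRank m.P ((m.N : ℤ) - p) = CohIII.fiberRank f F p ∘ hV.fromSpec := by
    funext x
    have hy : hV.fromSpec x ∈ V := hV.range_fromSpec.le ⟨x, rfl⟩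
    have hx : hV.primeIdealOf ⟨hV.fromSpec x, hy⟩ = x :=
      hV.fromSpec.isOpenEmbedding.injective (hV.fromSpec_primeIdealOf _)
    exact ((subsingleton_fiberH_iff f hV hU m hy p).2.trans (by rw [hx])).symm
  obtain ⟨h1, h2⟩ := cok_flat_of_dRank_const m.P m.finite_free ((m.N : ℤ) - p)
    (hd ▸ h.comp_continuous hV.fromSpec.continuous)
  haveI := flat_X m.P m.finite_free ((m.N : ℤ) - p - 1)
  exact ⟨(epiOn_iff f F hV hU m p).2 ((preservesEpi_iff_flat m.P (down_prev _) (down_next _)).2 h2),
    (monoOn_iff f F hV hU m p).2 ((preservesMono_iff_flat m.P (down_prev _) (down_next _)).2 h1)⟩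

include hfp hfl in
/-- Right exactness holds above the bound of a chart. -/
theorem exists_epiOn_above {V : S.Opens} (hV : IsAffineOpen V) : ∃ N : ℕ, ∀ i, N < i → EpiOn f F hV i := by
  letI := preOver f hV
  obtain ⟨ι, _, U, hU, ⟨m⟩⟩ := exists_chart f hV F hfp hfl
  refine ⟨m.N, fun i hi => (epiOn_iff f F hV hU m i).2 (preservesEpi_of_forall_subsingleton m.P _ fun M => ?_)⟩
  have h0 : IsZero (CohIII.tensorObj m.P M |>.X ((m.N : ℤ) - i)) :=
    (MonoidalCategory.tensorRight M).map_isZero (m.isZero_neg _ (by omega))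
  exact ModuleCat.subsingleton_of_isZero ((HomologicalComplex.exactAt_iff_isZero_homology _ _).1
    (ShortComplex.exact_of_isZero_X₂ ((CohIII.tensorObj m.P M).sc _) h0))

end Groth.Agent.LeadBC.GenBC
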