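import Groth.Agent.LeadBC.GenBC.AppIso
import Groth.Agent.LeadBC.GenBC.Rank
import Groth.Agent.LeadVan.Vanishing
import Groth.Agent.H10Coh.Proper
import Groth.Prelude.Def_ClSub2
import Groth.Prelude.Def_ModelsG

/-!
# `f_* O = O`: reformulations
-/

set_option autoImplicit false
set_option linter.style.haveILetI false
set_option linter.unusedSectionVars false

universe u

open CategoryTheory CategoryTheory.Limits AlgebraicGeometry Opposite TopologicalSpace

namespace Groth.Agent.LeadBC.GenBC

attribute [local instance 10000] H10Coh.hasSheafifyAb H10Coh.hasWeakSheafifyAb H10Coh.hasExtAb H10Coh.enoughInjAb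

theorem isIso_unitToPush_of_app {X S : Scheme.{u}} (f : X ⟶ S) (h : ∀ U : S.Opens, IsIso (f.app U)) :
    IsIso (ClSub.unitToPush f) :=
  Scheme.Modules.Hom.isIso_iff_isIso_app.2 fun U =>
    (ConcreteCategory.isIso_iff_bijective _).2
      (haveI := h U; ConcreteCategory.bijective_of_isIso (f.app U) :)

/-- One dimensional functions are constants. -/
theorem isIso_appTop_of_hRank {k : Type u} [Field k] {Y : Scheme.{u}} (g : Y ⟶ Spec (CommRingCat.of k))
    (h : Models.hRank k Y g (Coh.structureModule Y) 0 = 1) : IsIso g.appTop := by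
  letI : Y.Over (Spec (CommRingCat.of k)) := ⟨g⟩
  letI : Algebra k Γ(Y, ⊤) := (Coh.toGlobal g).toAlgebra
  let e : Coh.HH Y (Coh.structureModule Y) 0 ≃ₗ[k] Γ(Y, ⊤) :=
    { H10Coh.HH0Equiv (Coh.structureModule Y) with
      map_smul' := fun c x =>
        (H10Coh.HH0Equiv_smul (Coh.structureModule Y) (Coh.toGlobal g c) x).trans rfl }
  have h1 : Module.finrank k Γ(Y, ⊤) = 1 := e.finrank_eq.symm.trans h
  haveI : Nontrivial Γ(Y, ⊤) := Module.nontrivial_of_finrank_eq_succ h1
  have hb : Function.Bijective (algebraMap k Γ(Y, ⊤)) :=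
    ⟨(algebraMap k Γ(Y, ⊤)).injective, fun b => by
      obtain ⟨c, hc⟩ := (finrank_eq_one_iff_of_nonzero' (1 : Γ(Y, ⊤)) one_ne_zero).1 h1 b
      exact ⟨c, (Algebra.algebraMap_eq_smul_one c).trans hc⟩⟩
  exact (ConcreteCategory.isIso_iff_bijective _).2 ((Function.Bijective.of_comp_iff _
    (ConcreteCategory.bijective_of_isIso (Scheme.ΓSpecIso (CommRingCat.of k)).inv)).1
      (show Function.Bijective (g.appTop ∘ (Scheme.ΓSpecIso (CommRingCat.of k)).inv) from hb))

/-- `R^1 f_* O` is locally free if the fibres are curves with only constants. -/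
theorem isFinLocFree_rpush_one {X S : Scheme.{u}} (f : X ⟶ S) [IsProper f] [Flat f]
    [LocallyOfFinitePresentation f] [HasInjectiveResolutions X.Modules]
    (hdim : ∀ s : S, topologicalKrullDim ↥(f.fiber s) ≤ 1)
    (hK : ∀ s : S, IsIso (f.fiberToSpecResidueField s).appTop) :
    FlatMod.IsFinLocFree ((Coh.Rpush f 1).obj (Coh.structureModule X)) := by
  haveI : (Coh.structureModule X).IsQuasicoherent := H10Coh.isQuasicoherent_unit
  have hfp : CohB1.IsFP (Coh.structureModule X) := H06EGA9.isFP_structureModule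
  have hfl := isFlatOver_structure f
  refine isFinLocFree_of_exact_all f _ hfp hfl 1 fun y => ?_
  have hvan : Subsingleton (CohIII.fiberH f (Coh.structureModule X) y 2) := by
    haveI : IsProper (f.fiberToSpecResidueField y) :=
      MorphismProperty.of_isPullback (IsPullback.of_hasPullback f (S.fromSpecResidueField y)) ‹IsProper f›
    haveI : IsLocallyNoetherian (f.fiber y) :=
      LocallyOfFiniteType.isLocallyNoetherian (f.fiberToSpecResidueField y)
    haveI : CompactSpace (f.fiber y) :=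
      QuasiCompact.compactSpace_of_compactSpace (f.fiberToSpecResidueField y)
    haveI : IsNoetherian (f.fiber y) := ⟨⟩
    haveI : TopologicalSpace.NoetherianSpace ↥(f.fiber y).toPresheafedSpace := inferInstance
    exact LeadVan.subsingleton_H_of_dim_le (X := (f.fiber y).toPresheafedSpace.carrier) 1 (hdim y)
      (Coh.toAb (CohIII.fiberMod f (Coh.structureModule X) y)) 2 Nat.one_lt_two
  obtain ⟨V₂, hV₂, hy₂, -, hm₂, -⟩ := exists_vanishing_nhd f _ hfp hfl 2 hvan
  obtain ⟨V₀, hV₀, hy₀, he₀⟩ := exists_epiOn_of_fibres f hK y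
  obtain ⟨W, hW, hyW, hle⟩ := exists_isAffineOpen_mem_and_subset (U := V₂ ⊓ V₀) (x := y) ⟨hy₂, hy₀⟩
  exact ⟨W, hW, hyW,
    EpiOn.of_le f _ hV₂ hfp hfl ((monoOn_succ_iff f _ hV₂ hfp hfl 1).1 hm₂) hW fun z hz => (hle hz).1,
    (monoOn_succ_iff f _ hW hfp hfl 0).2 (EpiOn.of_le f _ hV₀ hfp hfl he₀ hW fun z hz => (hle hz).2)⟩

end Groth.Agent.LeadBC.GenBC
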