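import Groth.Agent.LeadBC.GenBC.Pull
import Groth.Agent.H10Coh.FiniteProjBC

/-!
# Pullback of cohomology classes of O-modules
-/

set_option autoImplicit false
set_option linter.style.haveILetI false
set_option linter.unusedSectionVars false

noncomputable section

universe u

open CategoryTheory CategoryTheory.Limits AlgebraicGeometry Opposite TopologicalSpace Abelian

namespace Groth.Agent.LeadBC.GenBC

open Groth.Agent.H10Coh

section scheme

attribute [local instance 10000] hasSheafifyAb hasWeakSheafifyAb hasExtAb enoughInjAb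

open Scheme.Modules (pushforward pullbackPushforwardAdjunction pullbackComp pushforwardComp pullbackCongr conjugateEquiv_pullbackComp_inv)

instance shF_pzm (X : Scheme.{u}) : (shF X).PreservesZeroMorphisms :=
  @Functor.preservesZeroMorphisms_of_additive _ _ _ _ _ _ _ (inferInstanceAs (SheafOfModules.toSheaf X.ringCatSheaf).Additive)

variable {X Y Z : Scheme.{u}} (f : X ⟶ Y) (g : Y ⟶ Z)

theorem mapH_comp {M N P : X.Modules} (φ : M ⟶ N) (ψ : N ⟶ P) (p : ℕ) (x : Coh.HH X M p) :
    CohPull.mapH (φ ≫ ψ) p x = CohPull.mapH ψ p (CohPull.mapH φ p x) :=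
  FPBC.post_comp φ ψ p x |>.symm

theorem mapH_id {M : X.Modules} (p : ℕ) (x : Coh.HH X M p) : CohPull.mapH (𝟙 M) p x = x := FPBC.post_id p x

theorem theta_natural {M N : Y.Modules} (φ : M ⟶ N) :
    (CohPull.inv f.base).map ((shF Y).map φ) ≫ CohPull.theta f N =
      CohPull.theta f M ≫ (shF X).map ((Scheme.Modules.pullback f).map φ) := by
  apply ((CohPull.invPushAdj f.base).homEquiv _ _).injective
  refine ((CohPull.invPushAdj f.base).homEquiv_naturality_left _ _).trans ?_
  refine Eq.trans ?_ ((CohPull.invPushAdj f.base).homEquiv_naturality_right _ _).symm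
  refine (congrArg (_ ≫ ·) (Equiv.apply_symm_apply ((CohPull.invPushAdj f.base).homEquiv _ _) _)).trans ?_
  refine Eq.trans ?_ (congrArg (· ≫ _) (Equiv.apply_symm_apply ((CohPull.invPushAdj f.base).homEquiv _ _) _)).symm
  exact ((shF Y).map_comp _ _).symm.trans ((congrArg (shF Y).map
    ((pullbackPushforwardAdjunction f).unit.naturality φ)).trans ((shF Y).map_comp _ _))

theorem pullMod_natural {M N : Y.Modules} (φ : M ⟶ N) (p : ℕ) (x : Coh.HH Y M p) :
    CohPull.pullMod f N p (CohPull.mapH φ p x) =
      CohPull.mapH ((Scheme.Modules.pullback f).map φ) p (CohPull.pullMod f M p x) := by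
  show Sheaf.H.map (CohPull.theta f N) p (CohPull.pullAb f.base _ p (Sheaf.H.map ((shF Y).map φ) p x)) =
    Sheaf.H.map ((shF X).map ((Scheme.Modules.pullback f).map φ)) p (Sheaf.H.map (CohPull.theta f M) p (CohPull.pullAb f.base _ p x))
  rw [pullAb_natural, ← Sheaf.H.map_comp_apply, ← Sheaf.H.map_comp_apply, theta_natural]

theorem pullMod_extClass {S : ShortComplex Y.Modules} (hA : (S.map (shF Y)).ShortExact)
    (hA' : ((S.map (Scheme.Modules.pullback f)).map (shF X)).ShortExact) (p : ℕ) (x : Coh.HH Y S.X₃ p) :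
    CohPull.pullMod f S.X₁ (p + 1) (Ext.comp x hA.extClass rfl) =
      Ext.comp (CohPull.pullMod f S.X₃ p x) hA'.extClass rfl := by
  let G := CohPull.inv f.base
  haveI := shF_pzm X
  let φ : (S.map (shF Y)).map G ⟶ (S.map (Scheme.Modules.pullback f)).map (shF X) :=
    { τ₁ := CohPull.theta f S.X₁, τ₂ := CohPull.theta f S.X₂, τ₃ := CohPull.theta f S.X₃
      comm₁₂ := (theta_natural f S.f).symm
      comm₂₃ := (theta_natural f S.g).symm }
  have h := ShortComplex.ShortExact.extClass_naturality (hA.map_of_exact G) hA' φ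
  refine Eq.trans (congrArg (fun z => Ext.comp z (Ext.mk₀ φ.τ₁) (add_zero (p + 1)))
    (extMap_extClass G (CohPull.oneTo f.base) hA p x)) ?_
  refine (Ext.comp_assoc _ _ _ rfl (add_zero 1) (show p + 1 + 0 = p + 1 by omega)).trans ?_
  refine (congrArg (fun z => Ext.comp (extMap G (CohPull.oneTo f.base) (S.map (shF Y)).X₃ p x) z
    (rfl : p + 1 = p + 1)) h).trans ?_
  exact (Ext.comp_assoc _ _ _ (add_zero p) (zero_add 1) (show p + 0 + 1 = p + 1 by omega)).symm

theorem unit_pullbackComp (M : Z.Modules) :
    (pullbackPushforwardAdjunction g).unit.app M ≫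
        (pushforward g).map ((pullbackPushforwardAdjunction f).unit.app _) ≫
          (pushforwardComp f g).hom.app _ ≫ (pushforward (f ≫ g)).map ((pullbackComp f g).hom.app M) =
      (pullbackPushforwardAdjunction (f ≫ g)).unit.app M := by
  have h := unit_conjugateEquiv ((pullbackPushforwardAdjunction g).comp (pullbackPushforwardAdjunction f))
    (pullbackPushforwardAdjunction (f ≫ g)) (pullbackComp f g).inv M
  rw [conjugateEquiv_pullbackComp_inv, Adjunction.comp_unit_app] at h
  simp only [Category.assoc] at h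
  refine ((congrArg (_ ≫ ·) (Category.assoc _ _ _).symm).trans (Category.assoc _ _ _).symm).trans ?_
  refine (congrArg (· ≫ (pushforward (f ≫ g)).map ((pullbackComp f g).hom.app M)) h).trans ?_
  rw [Category.assoc, ← Functor.map_comp, Iso.inv_hom_id_app, CategoryTheory.Functor.map_id]
  exact Category.comp_id _

theorem theta_comp (M : Z.Modules) :
    (CohPull.inv f.base).map (CohPull.theta g M) ≫ CohPull.theta f ((Scheme.Modules.pullback g).obj M) ≫
        (shF X).map ((pullbackComp f g).hom.app M) =
      (invComp f.base g.base).hom.app (sh M) ≫ CohPull.theta (f ≫ g) M := by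
  let a := CohPull.invPushAdj f.base
  let b := CohPull.invPushAdj g.base
  let c := CohPull.invPushAdj (f ≫ g).base
  let ι := (invComp f.base g.base).hom.app (sh M)
  let t := CohPull.theta (f ≫ g) M
  apply (a.homEquiv _ _).injective
  apply (b.homEquiv _ _).injective
  have l1 : b.homEquiv _ _ (a.homEquiv _ _ ((CohPull.inv f.base).map (CohPull.theta g M) ≫
      CohPull.theta f ((Scheme.Modules.pullback g).obj M) ≫ (shF X).map ((pullbackComp f g).hom.app M))) =
      (shF Z).map ((pullbackPushforwardAdjunction g).unit.app M) ≫ (CohTop.push g.base).map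
        ((shF Y).map ((pullbackPushforwardAdjunction f).unit.app ((Scheme.Modules.pullback g).obj M)) ≫
          (CohTop.push f.base).map ((shF X).map ((pullbackComp f g).hom.app M))) := by
    refine (congrArg (b.homEquiv _ _) ((a.homEquiv_naturality_left _ _).trans (congrArg (CohPull.theta g M ≫ ·)
      ((a.homEquiv_naturality_right _ _).trans (congrArg (· ≫ _) (Equiv.apply_symm_apply (a.homEquiv _ _) _)))))).trans ?_
    exact (b.homEquiv_naturality_right _ _).trans (congrArg (· ≫ _) (Equiv.apply_symm_apply (b.homEquiv _ _) _))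
  have hι : b.homEquiv _ _ (a.homEquiv _ _ ι) = (CohPull.invPushAdj (f.base ≫ g.base)).unit.app (sh M) := by
    refine Eq.trans ?_ (unit_invComp f.base g.base (sh M))
    refine (congrArg (b.homEquiv _ _) (a.homEquiv_unit _ _ _)).trans ((b.homEquiv_unit _ _ _).trans ?_)
    exact congrArg (b.unit.app (sh M) ≫ ·) ((CohTop.push g.base).map_comp _ _)
  have r1 : b.homEquiv _ _ (a.homEquiv _ _ (ι ≫ t)) =
      b.homEquiv _ _ (a.homEquiv _ _ ι) ≫ (CohTop.push g.base).map ((CohTop.push f.base).map t) :=
    (congrArg (b.homEquiv _ _) (a.homEquiv_naturality_right ι t)).trans (b.homEquiv_naturality_right _ _)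
  refine l1.trans (Eq.trans ?_ r1.symm)
  refine Eq.trans ?_ (congrArg (· ≫ (CohTop.push g.base).map ((CohTop.push f.base).map t)) hι).symm
  have hc : c.unit.app (sh M) ≫ (CohTop.push (f ≫ g).base).map t =
      (shF Z).map ((pullbackPushforwardAdjunction (f ≫ g)).unit.app M) :=
    (c.homEquiv_unit _ _ _).symm.trans (Equiv.apply_symm_apply (c.homEquiv _ _) _)
  refine Eq.trans ?_ hc.symm
  refine Eq.trans ?_ (congrArg (shF Z).map (unit_pullbackComp f g M))
  rw [Functor.map_comp, Functor.map_comp, Functor.map_comp]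
  refine congrArg ((shF Z).map ((pullbackPushforwardAdjunction g).unit.app M) ≫ ·) ?_
  refine congrArg (_ ≫ ·) ?_
  exact (Category.id_comp _).symm

theorem pullMod_comp (M : Z.Modules) (p : ℕ) (x : Coh.HH Z M p) :
    CohPull.mapH ((pullbackComp f g).hom.app M) p
        (CohPull.pullMod f ((Scheme.Modules.pullback g).obj M) p (CohPull.pullMod g M p x)) =
      CohPull.pullMod (f ≫ g) M p x := by
  show Sheaf.H.map ((shF X).map ((pullbackComp f g).hom.app M)) p (Sheaf.H.map (CohPull.theta f _) p
    (CohPull.pullAb f.base _ p (Sheaf.H.map (CohPull.theta g M) p (CohPull.pullAb g.base _ p x)))) =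
      Sheaf.H.map (CohPull.theta (f ≫ g) M) p (CohPull.pullAb (f.base ≫ g.base) _ p x)
  rw [pullAb_natural, ← pullAb_comp, ← Sheaf.H.map_comp_apply, ← Sheaf.H.map_comp_apply]
  exact (congrArg (fun k => Sheaf.H.map k p _) ((Category.assoc _ _ _).trans (theta_comp f g M))).trans
    (Sheaf.H.map_comp_apply _ _ _)

theorem pullMod_congr {f₁ f₂ : X ⟶ Y} (h : f₁ = f₂) (M : Y.Modules) (p : ℕ) (x : Coh.HH Y M p) :
    CohPull.mapH ((pullbackCongr h).hom.app M) p (CohPull.pullMod f₁ M p x) = CohPull.pullMod f₂ M p x := by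
  subst h
  have e : (pullbackCongr (rfl : f₁ = f₁)).hom.app M = 𝟙 _ := by simp [pullbackCongr]
  rw [e, mapH_id]

end scheme

end Groth.Agent.LeadBC.GenBC
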