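import Groth.Agent.LeadBC.BaseChange
import Groth.Agent.LeadBC.GenBC.PullMod

/-!
# The model computes the pullback of classes along a base change
-/

set_option autoImplicit false
set_option linter.style.haveILetI false
set_option linter.unusedSectionVars false

universe u

open AlgebraicGeometry CategoryTheory CategoryTheory.Limits TopologicalSpace Opposite MonoidalCategory
open scoped TensorProduct

namespace Groth.Agent.LeadBC.GenBC

open Groth.Agent.LeadFF Groth.Agent.H15Site Groth.Agent.LeadBC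

variable {A : Type u} [CommRing A] {X : Scheme.{u}} [X.Over (Spec (CommRingCat.of A))]
  {ι : Type u} (U : ι → X.Opens) (F : X.Modules)

theorem rid_rTensor {M N : Type u} [AddCommGroup M] [Module A M] [AddCommGroup N] [Module A N] (g : M →ₗ[A] N)
    (z : M ⊗[A] A) : TensorProduct.rid A N (g.rTensor A z) = g (TensorProduct.rid A M z) := by
  induction z using TensorProduct.induction_on with
  | zero => simp
  | add a b ha hb => simp only [map_add, ha, hb]
  | tmul x a => simp

/-- `m ⊗ a ↦ a m` on Čech terms. -/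
noncomputable def γ₁ (p : ℕ) : Kp A U F p ⊗[A] A →ₗ[A] Kp A U F p :=
  (TensorProduct.rid A (Kp A U F p)).toLinearMap

/-- `KC ⊗ A ≅ KC`. -/
noncomputable def γC₁ : CohIII.tensorObj (KC A U F) (ModuleCat.of A A) ≅ KC A U F :=
  HomologicalComplex.Hom.isoOfComponents (fun p => (TensorProduct.rid A (Kp A U F p)).toModuleIso) fun i j h => by
    obtain rfl : i + 1 = j := h
    refine ModuleCat.hom_ext (LinearMap.ext fun z => ?_)
    show ((KC A U F).d i (i + 1)).hom (TensorProduct.rid A (Kp A U F i) z) =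
      TensorProduct.rid A (Kp A U F (i + 1)) (((CohIII.tensorObj (KC A U F) (ModuleCat.of A A)).d i (i + 1)).hom z)
    rw [H06FlatCx.tensorObj_d_hom, KC_d]
    exact (rid_rTensor (dK A U F i) z).symm

variable {S : Type u} [CommRing S] [Algebra A S] {X' : Scheme.{u}} [X'.Over (Spec (CommRingCat.of S))] {q : X' ⟶ X}
  (hsq : IsPullback q (X' ↘ Spec (CommRingCat.of S)) (X ↘ Spec (CommRingCat.of A))
    (Spec.map (CommRingCat.ofHom (algebraMap A S))))

/-- `q_* q^* F`. -/
noncomputable abbrev PF (q : X' ⟶ X) (F : X.Modules) : X.Modules := (Scheme.Modules.pushforward q).obj (qF q F)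

include hsq in
theorem sc_push (V : X.Opens) (a : A) :
    q.app V (sc A V a) = sc S (q ⁻¹ᵁ V) (algebraMap A S a) := app_scal hsq V a

include hsq in
/-- Sections of `q_* q^* F`. -/
noncomputable def β' (V : X.Opens) : sec A F V ⊗[A] S →ₗ[A] sec A (PF q F) V where
  toFun z := (β S hsq F (le_rfl : q ⁻¹ᵁ V ≤ q ⁻¹ᵁ V) z : Γ(qF q F, q ⁻¹ᵁ V))
  map_add' z z' := map_add (β S hsq F (le_rfl : q ⁻¹ᵁ V ≤ q ⁻¹ᵁ V)) z z'
  map_smul' a z := by
    refine (map_smul (β S hsq F (le_rfl : q ⁻¹ᵁ V ≤ q ⁻¹ᵁ V)) a z).trans ?_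
    show sc S (q ⁻¹ᵁ V) (algebraMap A S a) • (show Γ(qF q F, q ⁻¹ᵁ V) from β S hsq F le_rfl z) =
      q.app V (sc A V a) • (show Γ(qF q F, q ⁻¹ᵁ V) from β S hsq F le_rfl z)
    rw [sc_push hsq]

include hsq in
/-- The comparison on Čech terms. -/
noncomputable def γp (p : ℕ) : Kp A U F p ⊗[A] S →ₗ[A] Kp A U (PF q F) p :=
  LinearMap.pi fun a => (β' F hsq (CechTop.cap U a)).comp ((LinearMap.proj a).rTensor S)

theorem γp_tmul (p : ℕ) (x : Kp A U F p) (s : S) (a : Fin (p + 1) → ι) :
    γp U F hsq p (x ⊗ₜ s) a = β' F hsq (CechTop.cap U a) (x a ⊗ₜ s) := rfl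

theorem β'_res {V W : X.Opens} (h : W ≤ V) (z : sec A F V ⊗[A] S) :
    resL A (PF q F) h (β' F hsq V z) = β' F hsq W ((resL A F h).rTensor S z) :=
  β_res S hsq F le_rfl le_rfl h (Scheme.Hom.preimage_mono q h) z

theorem γp_d (p : ℕ) (z : Kp A U F p ⊗[A] S) :
    dK A U (PF q F) p (γp U F hsq p z) = γp U F hsq (p + 1) ((dK A U F p).rTensor S z) := by
  induction z using TensorProduct.induction_on with
  | zero => simp
  | add a b ha hb => rw [map_add, map_add, ha, hb, map_add, map_add]
  | tmul x s =>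
    funext c
    rw [LinearMap.rTensor_tmul, γp_tmul, dK_apply, dK_apply, TensorProduct.sum_tmul, map_sum]
    refine Finset.sum_congr rfl fun j _ => ?_
    rw [← TensorProduct.smul_tmul', map_zsmul, γp_tmul, β'_res, LinearMap.rTensor_tmul]

theorem γp_mul (p : ℕ) (s : S) (z : Kp A U F p ⊗[A] S) (a : Fin (p + 1) → ι) :
    (show Γ(qF q F, q ⁻¹ᵁ CechTop.cap U a) from γp U F hsq p ((LinearMap.mulLeft A s).lTensor _ z) a) =
      sc S (q ⁻¹ᵁ CechTop.cap U a) s • (show Γ(qF q F, q ⁻¹ᵁ CechTop.cap U a) from γp U F hsq p z a) := by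
  show (show Γ(qF q F, q ⁻¹ᵁ CechTop.cap U a) from
    β S hsq F le_rfl ((LinearMap.proj a).rTensor S ((LinearMap.mulLeft A s).lTensor _ z))) = _
  rw [← H06FlatCx.lTensor_rTensor_apply]
  exact β_mul S hsq F le_rfl s _

variable [F.IsQuasicoherent] [Finite ι] {U} (hU : GoodCover U)

include hU in
theorem bijective_γp (p : ℕ) : Function.Bijective (γp U F hsq p) := by
  classical
  haveI := Fintype.ofFinite ι
  let e : Kp A U F p ⊗[A] S ≃ₗ[A] ∀ a : Fin (p + 1) → ι, sec A F (CechTop.cap U a) ⊗[A] S :=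
    TensorProduct.piLeft ..
  let g : (∀ a : Fin (p + 1) → ι, sec A F (CechTop.cap U a) ⊗[A] S) →ₗ[A] Kp A U (PF q F) p :=
    LinearMap.pi fun a => (β' F hsq (CechTop.cap U a)).comp (LinearMap.proj a)
  have hg : Function.Bijective g := by
    have hb : ∀ a : Fin (p + 1) → ι, Function.Bijective (β' F hsq (CechTop.cap U a)) := fun a =>
      bijective_β S hsq F (hU.affine p a) rfl le_rfl
    constructor
    · exact fun v w h => funext fun a => (hb a).1 (congrFun h a)
    · intro w
      choose v hv using fun a => (hb a).2 (w a)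
      exact ⟨v, funext hv⟩
  have key : γp U F hsq p = g ∘ₗ e.toLinearMap := by
    refine TensorProduct.ext' fun x s => funext fun a => ?_
    have : e (x ⊗ₜ s) a = x a ⊗ₜ s := by simp [e]
    rw [γp_tmul]
    exact (congrArg (β' F hsq (CechTop.cap U a)) this).symm
  rw [key]
  exact hg.comp e.bijective

include hsq hU in
/-- `KC ⊗ S ≅ KC(q_* q^* F)`. -/
noncomputable def γC : CohIII.tensorObj (KC A U F) (ModuleCat.of A S) ≅ KC A U (PF q F) :=
  HomologicalComplex.Hom.isoOfComponents
    (fun p => (LinearEquiv.ofBijective (γp U F hsq p) (bijective_γp F hsq hU p)).toModuleIso) fun i j h => by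
    obtain rfl : i + 1 = j := h
    refine ModuleCat.hom_ext (LinearMap.ext fun z => ?_)
    show ((KC A U (PF q F)).d i (i + 1)).hom (γp U F hsq i z) =
      γp U F hsq (i + 1) (((CohIII.tensorObj (KC A U F) (ModuleCat.of A S)).d i (i + 1)).hom z)
    rw [H06FlatCx.tensorObj_d_hom, KC_d, KC_d]
    exact γp_d U F hsq i z

/-- Multiplication by `s` on `q_* q^* F`. -/
noncomputable abbrev σs (q : X' ⟶ X) (F : X.Modules) (s : S) : PF q F ⟶ PF q F :=
  (Scheme.Modules.pushforward q).map (Formal.smulMod S (qF q F) s)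

theorem γC_mul (s : S) :
    CohIII.tensorMap (KC A U F) (mulS S A s) ≫ (γC F hsq hU).hom = (γC F hsq hU).hom ≫ (KCF A U).map (σs q F s) :=
  HomologicalComplex.hom_ext _ _ fun p => ModuleCat.hom_ext (LinearMap.ext fun z => funext fun a => by
    show γp U F hsq p (((CohIII.tensorMap (KC A U F) (mulS S A s)).f p).hom z) a =
      mapK A U (σs q F s) p (γp U F hsq p z) a
    rw [H06FlatCx.tensorMap_f_hom]
    exact γp_mul U F hsq p s z a)

theorem γp_alg (p : ℕ) (z : Kp A U F p ⊗[A] A) :
    γp U F hsq p ((Algebra.linearMap A S).lTensor _ z) =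
      mapK A U ((Scheme.Modules.pullbackPushforwardAdjunction q).unit.app F) p (TensorProduct.rid A (Kp A U F p) z) := by
  induction z using TensorProduct.induction_on with
  | zero => simp
  | add a b ha hb => simp only [map_add, ha, hb]
  | tmul x a =>
    funext b
    rw [LinearMap.lTensor_tmul, γp_tmul, TensorProduct.rid_tmul, map_smul]
    show β' F hsq _ (x b ⊗ₜ (algebraMap A S a)) = a • mapK A U _ p x b
    rw [show algebraMap A S a = a • (1 : S) from Algebra.algebraMap_eq_smul_one a, TensorProduct.tmul_smul, map_smul]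
    refine congrArg (a • ·) ?_
    show sc S (q ⁻¹ᵁ CechTop.cap U b) (1 : S) • pullRes F q (le_rfl : q ⁻¹ᵁ CechTop.cap U b ≤ _) _ = _
    rw [map_one, one_smul, pullRes]
    exact congr($((qF q F).presheaf.map_id _) _)

theorem γC_alg :
    CohIII.tensorMap (KC A U F) (ModuleCat.ofHom (Algebra.linearMap A S)) ≫ (γC F hsq hU).hom =
      (γC₁ U F).hom ≫ (KCF A U).map ((Scheme.Modules.pullbackPushforwardAdjunction q).unit.app F) :=
  HomologicalComplex.hom_ext _ _ fun p => ModuleCat.hom_ext (LinearMap.ext fun z => by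
    show γp U F hsq p (((CohIII.tensorMap (KC A U F) (ModuleCat.ofHom (Algebra.linearMap A S))).f p).hom z) =
      mapK A U ((Scheme.Modules.pullbackPushforwardAdjunction q).unit.app F) p (TensorProduct.rid A (Kp A U F p) z)
    rw [H06FlatCx.tensorMap_f_hom]
    exact γp_alg F hsq p z)

theorem pushEdge_natural {G G' : X'.Modules} (φ : G ⟶ G') (p : ℕ)
    (y : Coh.HH X ((Scheme.Modules.pushforward q).obj G) p) :
    CohPull.pushEdge q G' p (CohPull.mapH ((Scheme.Modules.pushforward q).map φ) p y) =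
      CohPull.mapH φ p (CohPull.pushEdge q G p y) := by
  refine (congrArg (CohPull.mapH _ p) (pullMod_natural q _ p y)).trans ?_
  refine (mapH_comp _ _ p _).symm.trans ?_
  refine Eq.trans ?_ (mapH_comp _ _ p _)
  exact congrArg (fun k => CohPull.mapH k p _) ((Scheme.Modules.pullbackPushforwardAdjunction q).counit.naturality φ)

theorem pullMod_eq_pushEdge (p : ℕ) (x : Coh.HH X F p) :
    CohPull.pullMod q F p x =
      CohPull.pushEdge q (qF q F) p (CohPull.mapH ((Scheme.Modules.pullbackPushforwardAdjunction q).unit.app F) p x) := by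
  refine Eq.symm ?_
  refine (congrArg (CohPull.mapH _ p) (pullMod_natural q _ p x)).trans ?_
  refine (mapH_comp _ _ p _).symm.trans ?_
  exact (congrArg (fun k => CohPull.mapH k p _)
    ((Scheme.Modules.pullbackPushforwardAdjunction q).left_triangle_components F)).trans (mapH_id p _)

include hsq in
theorem bijective_pushEdge_qF (p : ℕ) : Function.Bijective (CohPull.pushEdge q (qF q F) p) := by
  haveI := isAffineHom_fst hsq
  haveI := H10Coh.enoughInjMod X'
  exact H10Coh.bijective_pushEdge q (qF q F) (H10Coh.isAcyclic_push_of_isAffineHom q (qF q F)) p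

include hsq in
theorem isQCoh_PF : (PF q F).IsQuasicoherent := by
  haveI := isAffineHom_fst hsq
  exact H10Coh.isQuasicoherent_pushforward_of_isAffineHom q (qF q F)

variable {F}

/-- `H_j(KD ⊗ M) ≅ H^p(KC ⊗ M)`. -/
noncomputable def extH (M : ModuleCat.{u} A) (N p : ℕ) {j : ℤ} (hj : (embN N).f p = j) :
    CohIII.T (KD U F N) j M ≅ (CohIII.tensorObj (KC A U F) M).homology p :=
  HomologicalComplex.homologyMapIso (mapExtend (tensorRight M) (KC A U F) (embN N)) j ≪≫
    HomologicalComplex.extendHomologyIso _ (embN N) hj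

theorem extH_natural {M M' : ModuleCat.{u} A} (g : M ⟶ M') (N p : ℕ) {j : ℤ} (hj : (embN N).f p = j) :
    HomologicalComplex.homologyMap (CohIII.tensorMap (KD U F N) g) j ≫ (extH (U := U) (F := F) M' N p hj).hom =
      (extH (U := U) (F := F) M N p hj).hom ≫ HomologicalComplex.homologyMap (CohIII.tensorMap (KC A U F) g) p := by
  have h1 := mapExtend_natural ((tensoringRight (ModuleCat.{u} A)).map g) (KC A U F) (embN N)
  simp only [extH, Iso.trans_hom, HomologicalComplex.homologyMapIso_hom, Category.assoc]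
  rw [← Category.assoc, ← HomologicalComplex.homologyMap_comp]
  erw [h1]
  rw [HomologicalComplex.homologyMap_comp, Category.assoc]
  exact congrArg (_ ≫ ·) (HomologicalComplex.extendHomologyIso_hom_naturality _ (embN N) hj)

/-- The value of the model at `M`, in terms of the Čech complex. -/
noncomputable def Model.tIso (m : Model (A := A) X F U) (M : ModuleCat.{u} A) (p : ℕ) :
    CohIII.T m.P ((m.N : ℤ) - p) M ≅ (CohIII.tensorObj (KC A U F) M).homology p :=
  haveI : IsIso (HomologicalComplex.homologyMap (tensorφ A m.φ M) ((m.N : ℤ) - p)) :=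
    (ConcreteCategory.isIso_iff_bijective _).2 (m.qis _ _)
  asIso (HomologicalComplex.homologyMap (tensorφ A m.φ M) ((m.N : ℤ) - p)) ≪≫ extH M m.N p rfl

theorem Model.tIso_natural (m : Model (A := A) X F U) {M M' : ModuleCat.{u} A} (g : M ⟶ M') (p : ℕ) :
    (CohIII.TFun m.P ((m.N : ℤ) - p)).map g ≫ (Model.tIso m M' p).hom =
      (Model.tIso m M p).hom ≫ HomologicalComplex.homologyMap (CohIII.tensorMap (KC A U F) g) p := by
  haveI : ∀ N : ModuleCat.{u} A, IsIso (HomologicalComplex.homologyMap (tensorφ A m.φ N) ((m.N : ℤ) - p)) :=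
    fun N => (ConcreteCategory.isIso_iff_bijective _).2 (m.qis _ _)
  have hφ : (CohIII.TFun m.P ((m.N : ℤ) - p)).map g ≫ HomologicalComplex.homologyMap (tensorφ A m.φ M') ((m.N : ℤ) - p) =
      HomologicalComplex.homologyMap (tensorφ A m.φ M) ((m.N : ℤ) - p) ≫
        HomologicalComplex.homologyMap (CohIII.tensorMap (KD U F m.N) g) ((m.N : ℤ) - p) := by
    show HomologicalComplex.homologyMap (CohIII.tensorMap m.P g) _ ≫ _ = _
    rw [← HomologicalComplex.homologyMap_comp, tensorφ_natural, HomologicalComplex.homologyMap_comp]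
  simp only [Model.tIso, Iso.trans_hom, asIso_hom]
  exact (Category.assoc _ _ _).symm.trans ((congrArg (· ≫ _) hφ).trans ((Category.assoc _ _ _).trans
    ((congrArg (_ ≫ ·) (extH_natural g m.N p rfl)).trans (Category.assoc _ _ _).symm)))

include hU in
/-- The value at the ring. -/
noncomputable def Model.eA (m : Model (A := A) X F U) (p : ℕ) :
    CohIII.T m.P ((m.N : ℤ) - p) (ModuleCat.of A A) ≃ₗ[A] Coh.HH X F p :=
  (Model.tIso m (ModuleCat.of A A) p ≪≫
    HomologicalComplex.homologyMapIso (γC₁ U F) p).toLinearEquiv ≪≫ₗ eHH A hU F p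

theorem chain {C : Type*} [Category C] {a b c d e x : C} {g : a ⟶ b} {t' : b ⟶ c} {γ : c ⟶ d} {t : a ⟶ e}
    {k : e ⟶ c} {v : e ⟶ x} {σ : x ⟶ d} (h1 : g ≫ t' = t ≫ k) (h2 : k ≫ γ = v ≫ σ) :
    g ≫ t' ≫ γ = (t ≫ v) ≫ σ := by
  rw [← Category.assoc, h1, Category.assoc, h2, Category.assoc]

include hsq hU in
/-- The value at a base, compatibly with the pullback of classes. -/
theorem Model.exists_pullEquiv (m : Model (A := A) X F U) (p : ℕ) :
    ∃ e : CohIII.T m.P ((m.N : ℤ) - p) (ModuleCat.of A S) ≃+ Coh.HH X' (qF q F) p,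
      (∀ (s : S) (t : CohIII.T m.P ((m.N : ℤ) - p) (ModuleCat.of A S)),
        e (((CohIII.TFun m.P ((m.N : ℤ) - p)).map (mulS S A s)).hom t) = s • e t) ∧
      ∀ t : CohIII.T m.P ((m.N : ℤ) - p) (ModuleCat.of A A),
        e (((CohIII.TFun m.P ((m.N : ℤ) - p)).map (ModuleCat.ofHom (Algebra.linearMap A S))).hom t) =
          CohPull.pullMod q F p (Model.eA hU m p t) := by
  haveI := isQCoh_PF F hsq
  let E : CohIII.T m.P ((m.N : ℤ) - p) (ModuleCat.of A S) ≅ (KC A U (PF q F)).homology p :=
    Model.tIso m (ModuleCat.of A S) p ≪≫ HomologicalComplex.homologyMapIso (γC F hsq hU) p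
  let edge : Coh.HH X (PF q F) p ≃+ Coh.HH X' (qF q F) p :=
    AddEquiv.ofBijective (CohPull.pushEdge q (qF q F) p) (bijective_pushEdge_qF F hsq p)
  refine ⟨(E.toLinearEquiv.toAddEquiv.trans (eHH A hU (PF q F) p).toAddEquiv).trans edge, fun s t => ?_, fun t => ?_⟩
  · have h : (CohIII.TFun m.P ((m.N : ℤ) - p)).map (mulS S A s) ≫ E.hom =
        E.hom ≫ HomologicalComplex.homologyMap ((KCF A U).map (σs q F s)) p := by
      exact chain (Model.tIso_natural m _ p) ((HomologicalComplex.homologyMap_comp _ _ p).symm.trans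
        ((congrArg (fun φ => HomologicalComplex.homologyMap φ p) (γC_mul F hsq hU s)).trans
          (HomologicalComplex.homologyMap_comp _ _ p)))
    refine (congrArg (fun z => edge (eHH A hU (PF q F) p z)) (ConcreteCategory.congr_hom h t)).trans ?_
    refine (congrArg edge (eHH_natural A hU (σs q F s) p _)).trans ?_
    exact (pushEdge_natural (Formal.smulMod S (qF q F) s) p _).trans (Hm_smulMod (qF q F) p s _)
  · have h : (CohIII.TFun m.P ((m.N : ℤ) - p)).map (ModuleCat.ofHom (Algebra.linearMap A S)) ≫ E.hom =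
        ((Model.tIso m (ModuleCat.of A A) p).hom ≫ HomologicalComplex.homologyMap (γC₁ U F).hom p) ≫
          HomologicalComplex.homologyMap
            ((KCF A U).map ((Scheme.Modules.pullbackPushforwardAdjunction q).unit.app F)) p := by
      exact chain (Model.tIso_natural m _ p) ((HomologicalComplex.homologyMap_comp _ _ p).symm.trans
        ((congrArg (fun φ => HomologicalComplex.homologyMap φ p) (γC_alg F hsq hU)).trans
          (HomologicalComplex.homologyMap_comp _ _ p)))
    refine (congrArg (fun z => edge (eHH A hU (PF q F) p z)) (ConcreteCategory.congr_hom h t)).trans ?_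
    haveI : ((𝟭 X.Modules).obj F).IsQuasicoherent := ‹F.IsQuasicoherent›
    refine (congrArg edge (eHH_natural A hU _ p _)).trans ?_
    exact (pullMod_eq_pushEdge F p _).symm

end Groth.Agent.LeadBC.GenBC
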