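import Groth.Agent.LeadBC.GenBC.Bij
import Groth.Agent.LeadBC.GenBC.PullEquiv
import Groth.Agent.LeadBC.SectRpush
import Groth.Agent.H10Coh.FlatBC.Transpose

/-!
# The base change map in terms of models over affine charts
-/

set_option autoImplicit false
set_option linter.style.haveILetI false
set_option linter.unusedSectionVars false

universe u

open CategoryTheory CategoryTheory.Limits AlgebraicGeometry Opposite TopologicalSpace
open scoped TensorProduct

namespace Groth.Agent.LeadBC.GenBC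

open Groth.Agent.H10Coh Groth.Agent.LeadBC

attribute [local instance 10000] hasSheafifyAb hasWeakSheafifyAb hasExtAb enoughInjAb

section geometry

variable {X S : Scheme.{u}} (f : X ⟶ S) {V : S.Opens} (hV : IsAffineOpen V)

theorem isPullback_preOver :
    letI := preOver f hV
    IsPullback (f ⁻¹ᵁ V).ι ((f ⁻¹ᵁ V).toScheme ↘ Spec (CommRingCat.of Γ(S, V))) f hV.fromSpec :=
  letI := preOver f hV
  (isPullback_morphismRestrict f V).flip.of_iso (Iso.refl _) (Iso.refl _) hV.isoSpec (Iso.refl _)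
    (by simp) rfl (by simp) (by simp)

variable {X' S' : Scheme.{u}} {g : S' ⟶ S} {g' : X' ⟶ X} {f' : X' ⟶ S'} (h : IsPullback g' f' f g)
  {W : S'.Opens} (hW : IsAffineOpen W) (hle : W ≤ g ⁻¹ᵁ V)

/-- The map between the two charts. -/
noncomputable def qMap : (f' ⁻¹ᵁ W).toScheme ⟶ (f ⁻¹ᵁ V).toScheme :=
  X'.homOfLE (f'.preimage_mono hle) ≫ g'.resLE (f ⁻¹ᵁ V) (f' ⁻¹ᵁ (g ⁻¹ᵁ V)) (CohCmp.sqLE f g f' g' h.w V)

theorem qMap_ι : qMap f h hle ≫ (f ⁻¹ᵁ V).ι = (f' ⁻¹ᵁ W).ι ≫ g' := by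
  simp only [qMap, Category.assoc, Scheme.Hom.resLE_comp_ι]
  rw [← Category.assoc, Scheme.homOfLE_ι]

theorem isPullback_qMap :
    letI := preOver f hV
    letI := preOver f' hW
    letI := (g.appLE V W hle).hom.toAlgebra
    IsPullback (qMap f h hle) ((f' ⁻¹ᵁ W).toScheme ↘ Spec (CommRingCat.of Γ(S', W)))
      ((f ⁻¹ᵁ V).toScheme ↘ Spec (CommRingCat.of Γ(S, V)))
      (Spec.map (CommRingCat.ofHom (algebraMap Γ(S, V) Γ(S', W)))) := by
  letI := preOver f hV
  letI := preOver f' hW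
  letI := (g.appLE V W hle).hom.toAlgebra
  have hb : Spec.map (CommRingCat.ofHom (algebraMap Γ(S, V) Γ(S', W))) ≫ hV.fromSpec = hW.fromSpec ≫ g :=
    hV.SpecMap_appLE_fromSpec g hW hle
  refine IsPullback.of_right (h₁₂ := (f ⁻¹ᵁ V).ι) (v₁₃ := f) (h₂₂ := hV.fromSpec) ?_ ?_ (isPullback_preOver f hV)
  · rw [qMap_ι f h hle, hb]
    exact (isPullback_preOver f' hW).paste_horiz h
  · rw [← cancel_mono hV.fromSpec, Category.assoc, Category.assoc, hb,
      ← (isPullback_preOver f hV).w, ← Category.assoc, qMap_ι f h hle, Category.assoc, h.w, ← Category.assoc,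
      (isPullback_preOver f' hW).w, Category.assoc]

set_option maxRecDepth 4000 in
/-- Pullback and restriction of classes is one pullback. -/
theorem exists_rH_pullOn (F : X.Modules) :
    ∃ Ψ : (Scheme.Modules.pullback (qMap f h hle)).obj (F.restrict (f ⁻¹ᵁ V).ι) ≅
        ((Scheme.Modules.pullback g').obj F).restrict (f' ⁻¹ᵁ W).ι,
      ∀ (p : ℕ) (x : Coh.HHon X F (f ⁻¹ᵁ V) p),
        rH (f'.preimage_mono hle) ((Scheme.Modules.pullback g').obj F) p
            (CohPull.pullOn g' (f ⁻¹ᵁ V) (f' ⁻¹ᵁ (g ⁻¹ᵁ V)) (CohCmp.sqLE f g f' g' h.w V) F p x) =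
          CohPull.mapH Ψ.hom p (CohPull.pullMod (qMap f h hle) (F.restrict (f ⁻¹ᵁ V).ι) p x) := by
  let hU := f'.preimage_mono hle
  let hs := CohCmp.sqLE f g f' g' h.w V
  let q₁ := g'.resLE (f ⁻¹ᵁ V) (f' ⁻¹ᵁ (g ⁻¹ᵁ V)) hs
  let j := X'.homOfLE hU
  let G := F.restrict (f ⁻¹ᵁ V).ι
  let P := CohPull.pullOnIso g' (f ⁻¹ᵁ V) (f' ⁻¹ᵁ (g ⁻¹ᵁ V)) hs F
  refine ⟨((Scheme.Modules.pullbackComp j q₁).app G).symm ≪≫ (Scheme.Modules.pullback j).mapIso P ≪≫
    (κ hU).app ((Scheme.Modules.pullback g').obj F), fun p x => ?_⟩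
  show CohPull.mapH ((κ hU).hom.app ((Scheme.Modules.pullback g').obj F)) p
      (CohPull.pullMod j (((Scheme.Modules.pullback g').obj F).restrict (f' ⁻¹ᵁ (g ⁻¹ᵁ V)).ι) p
        (CohPull.mapH P.hom p (CohPull.pullMod q₁ G p x))) =
    CohPull.mapH ((Scheme.Modules.pullbackComp j q₁).inv.app G ≫ (Scheme.Modules.pullback j).map P.hom ≫
      (κ hU).hom.app ((Scheme.Modules.pullback g').obj F)) p (CohPull.pullMod (j ≫ q₁) G p x)
  rw [← pullMod_comp j q₁ G p x, ← mapH_comp, ← Category.assoc ((Scheme.Modules.pullbackComp j q₁).hom.app G),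
    Iso.hom_inv_id_app, Category.id_comp, mapH_comp]
  exact congrArg _ (pullMod_natural j P.hom p _)

end geometry

variable {X S X' S' : Scheme.{u}} (f : X ⟶ S) [QuasiCompact f] [QuasiSeparated f]
  {g : S' ⟶ S} {g' : X' ⟶ X} {f' : X' ⟶ S'} (h : IsPullback g' f' f g) [QuasiCompact f'] [QuasiSeparated f']
  [HasInjectiveResolutions X.Modules] [HasInjectiveResolutions X'.Modules]
  {Δ : RDer.DerivedLES (Scheme.Modules.pushforward f)} {Δ' : RDer.DerivedLES (Scheme.Modules.pushforward f')}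
  (E : CohCmp.SectCmp f Δ) (E' : CohCmp.SectCmp f' Δ') (B : CohCmp.GenBC f g f' g' h.w E E')
  (F : X.Modules) [F.IsQuasicoherent]
  {V : S.Opens} (hV : IsAffineOpen V) {W : S'.Opens} (hW : IsAffineOpen W) (hle : W ≤ g ⁻¹ᵁ V)

/-- Sections of a higher direct image over an affine open through `ε`, linearly. -/
noncomputable def εLin (p : ℕ) :
    letI := preOver f hV
    Coh.HH (f ⁻¹ᵁ V).toScheme (F.restrict (f ⁻¹ᵁ V).ι) p ≃ₗ[Γ(S, V)] Γ((Coh.Rpush f p).obj F, V) :=
  letI := preOver f hV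
  { AddEquiv.ofBijective (E.ε V F p) (ε_bijective f E hV F p) with
    map_smul' := fun a x => by
      show E.ε V F p (Sheaf.H.map (Coh.smulAb (F.restrict (f ⁻¹ᵁ V).ι)
        (Coh.toGlobal (A := Γ(S, V)) ((f ⁻¹ᵁ V).toScheme ↘ Spec (CommRingCat.of Γ(S, V))) a)) p x) = a • E.ε V F p x
      rw [toGlobal_preOver f hV]
      exact ε_smul f E V a p F x }

variable {ι : Type u} [Finite ι] {U : ι → (f ⁻¹ᵁ V).toScheme.Opens}

include hW

/-- A morphism to a direct image, on an affine pair, in terms of a model. -/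
theorem exists_locLin_square {N : S.Modules} {N' : S'.Modules} (τ : N ⟶ (Scheme.Modules.pushforward g).obj N') (p : ℕ)
    (hU : letI := preOver f hV; GoodCover U)
    (m : letI := preOver f hV; Model (A := Γ(S, V)) (f ⁻¹ᵁ V).toScheme (F.restrict (f ⁻¹ᵁ V).ι) U)
    (eV : letI := preOver f hV; Coh.HH (f ⁻¹ᵁ V).toScheme (F.restrict (f ⁻¹ᵁ V).ι) p ≃ₗ[Γ(S, V)] Γ(N, V))
    (eW : letI := preOver f' hW; Coh.HH (f' ⁻¹ᵁ W).toScheme (((Scheme.Modules.pullback g').obj F).restrict (f' ⁻¹ᵁ W).ι) p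
      ≃ₗ[Γ(S', W)] Γ(N', W))
    (hcomp : letI := preOver f hV; letI := preOver f' hW; ∀ x, rs N' hle (τ.app V (eV x)) =
      eW (rH (f'.preimage_mono hle) ((Scheme.Modules.pullback g').obj F) p
        (CohPull.pullOn g' (f ⁻¹ᵁ V) (f' ⁻¹ᵁ (g ⁻¹ᵁ V)) (CohCmp.sqLE f g f' g' h.w V) F p x))) :
    letI := preOver f hV
    letI := (g.appLE V W hle).hom.toAlgebra
    letI := Module.compHom Γ(N', W) (g.appLE V W hle).hom
    haveI : IsScalarTower Γ(S, V) Γ(S', W) Γ(N', W) :=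
      .of_algebraMap_smul fun _ _ => rfl
    ∃ (c : H06FlatCx.H0 m.P (((m.N : ℤ) - p) + 1) ((m.N : ℤ) - p) (((m.N : ℤ) - p) - 1) ⊗[Γ(S, V)] Γ(S', W) →
        Γ(S', W) ⊗[Γ(S, V)] Γ(N, V))
      (e' : CohIII.T m.P ((m.N : ℤ) - p) (ModuleCat.of Γ(S, V) Γ(S', W)) → Γ(N', W)),
      Function.Bijective c ∧ Function.Bijective e' ∧
        (LinearMap.liftBaseChange Γ(S', W) (FBC.locLin g τ hle) : _ → _) ∘ c =
          e' ∘ H06FlatCx.compMap m.P (H06FlatCx.down_prev ((m.N : ℤ) - p)) (H06FlatCx.down_next _)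
            (ModuleCat.of Γ(S, V) Γ(S', W)) := by
  letI := preOver f hV
  letI := preOver f' hW
  letI := (g.appLE V W hle).hom.toAlgebra
  let F' := (Scheme.Modules.pullback g').obj F
  letI := Module.compHom Γ(N', W) (g.appLE V W hle).hom
  haveI : IsScalarTower Γ(S, V) Γ(S', W) Γ(N', W) := .of_algebraMap_smul fun _ _ => rfl
  haveI : (F.restrict (f ⁻¹ᵁ V).ι).IsQuasicoherent :=
    Scheme.Modules.isQuasicoherent_restrictFunctor (f ⁻¹ᵁ V).ι F
  haveI : F'.IsQuasicoherent := H29Fitt.isQCoh_pullback g' F ‹_›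
  have hi := H06FlatCx.down_prev ((m.N : ℤ) - p)
  have hk := H06FlatCx.down_next ((m.N : ℤ) - p)
  obtain ⟨Ψ, hΨ⟩ := exists_rH_pullOn f h hle F
  obtain ⟨eS, hsem, hcompat⟩ := Model.exists_pullEquiv (isPullback_qMap f hV h hW hle) hU m p
  let L : H06FlatCx.H0 m.P (((m.N : ℤ) - p) + 1) ((m.N : ℤ) - p) (((m.N : ℤ) - p) - 1) ≃ₗ[Γ(S, V)] Γ(N, V) :=
    H06FlatCx.tSelfEquiv m.P hi hk ≪≫ₗ Model.eA hU m p ≪≫ₗ eV
  let K' : Coh.HH (f' ⁻¹ᵁ W).toScheme (qF (qMap f h hle) (F.restrict (f ⁻¹ᵁ V).ι)) p ≃ₗ[Γ(S', W)]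
      Γ(N', W) := ((HMod Γ(S', W) p).mapIso Ψ).toLinearEquiv ≪≫ₗ eW
  let e' : CohIII.T m.P ((m.N : ℤ) - p) (ModuleCat.of Γ(S, V) Γ(S', W)) ≃+ Γ(N', W) :=
    eS.trans K'.toAddEquiv
  let c : H06FlatCx.H0 m.P (((m.N : ℤ) - p) + 1) ((m.N : ℤ) - p) (((m.N : ℤ) - p) - 1) ⊗[Γ(S, V)] Γ(S', W) ≃ₗ[Γ(S, V)] Γ(S', W) ⊗[Γ(S, V)] Γ(N, V) :=
    TensorProduct.comm Γ(S, V) _ _ ≪≫ₗ TensorProduct.congr (LinearEquiv.refl Γ(S, V) Γ(S', W)) L
  have key : ∀ z, LinearMap.liftBaseChange Γ(S', W) (FBC.locLin g τ hle) (c z) =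
      e' (H06FlatCx.compMap m.P hi hk (ModuleCat.of Γ(S, V) Γ(S', W)) z) := by
    intro z
    induction z using TensorProduct.induction_on with
    | zero => simp only [map_zero]; exact (map_zero e').symm
    | add a b ha hb => simp only [map_add, ha, hb]; exact (map_add e' _ _).symm
    | tmul t s =>
      show LinearMap.liftBaseChange Γ(S', W) (FBC.locLin g τ hle) (s ⊗ₜ L t) = _
      rw [LinearMap.liftBaseChange_tmul]
      have hts : H06FlatCx.compMap m.P hi hk (ModuleCat.of Γ(S, V) Γ(S', W)) (t ⊗ₜ s) =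
          ((CohIII.TFun m.P ((m.N : ℤ) - p)).map (mulS Γ(S', W) Γ(S, V) s)).hom (((CohIII.TFun m.P ((m.N : ℤ) - p)).map
            (ModuleCat.ofHom (Algebra.linearMap Γ(S, V) Γ(S', W)))).hom (H06FlatCx.tSelfEquiv m.P hi hk t)) := by
        have h1 := H06FlatCx.compMap_natural m.P hi hk (N := ModuleCat.of Γ(S, V) Γ(S', W))
          (ModuleCat.ofHom (Algebra.linearMap Γ(S, V) Γ(S', W)) ≫ mulS Γ(S', W) Γ(S, V) s) (t ⊗ₜ[Γ(S, V)] (1 : Γ(S, V)))
        rw [LinearMap.lTensor_tmul] at h1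
        have h2 : (ModuleCat.ofHom (Algebra.linearMap Γ(S, V) Γ(S', W)) ≫ mulS Γ(S', W) Γ(S, V) s).hom (1 : Γ(S, V)) = s := by
          show s * algebraMap Γ(S, V) Γ(S', W) 1 = s
          rw [map_one, mul_one]
        rw [h2, Functor.map_comp] at h1
        exact h1
      rw [hts]
      show s • _ = K' (eS _)
      refine Eq.trans ?_ ((congrArg K' (hsem s _)).trans (K'.map_smul s _)).symm
      refine congrArg (s • ·) ?_
      refine Eq.trans ?_ (congrArg K' (hcompat _)).symm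
      let x := Model.eA hU m p (H06FlatCx.tSelfEquiv m.P hi hk t)
      show rs N' hle (τ.app V (eV x)) = eW (CohPull.mapH Ψ.hom p (CohPull.pullMod _ _ p x))
      rw [← hΨ]
      exact hcomp x
  have hfun : (LinearMap.liftBaseChange Γ(S', W) (FBC.locLin g τ hle) : _ → _) ∘ c =
      e' ∘ H06FlatCx.compMap m.P hi hk (ModuleCat.of Γ(S, V) Γ(S', W)) := funext key
  exact ⟨c, e', c.bijective, e'.bijective, hfun⟩

/-- The base change map on an affine pair is the comparison map of the model. -/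
theorem exists_locLin_compMap
    (hU : letI := preOver f hV; GoodCover U)
    (m : letI := preOver f hV; Model (A := Γ(S, V)) (f ⁻¹ᵁ V).toScheme (F.restrict (f ⁻¹ᵁ V).ι) U) (p : ℕ) :
    letI := preOver f hV
    letI := (g.appLE V W hle).hom.toAlgebra
    letI := Module.compHom Γ((Coh.Rpush f' p).obj ((Scheme.Modules.pullback g').obj F), W) (g.appLE V W hle).hom
    haveI : IsScalarTower Γ(S, V) Γ(S', W) Γ((Coh.Rpush f' p).obj ((Scheme.Modules.pullback g').obj F), W) :=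
      .of_algebraMap_smul fun _ _ => rfl
    ∃ (c : H06FlatCx.H0 m.P (((m.N : ℤ) - p) + 1) ((m.N : ℤ) - p) (((m.N : ℤ) - p) - 1) ⊗[Γ(S, V)] Γ(S', W) →
        Γ(S', W) ⊗[Γ(S, V)] Γ((Coh.Rpush f p).obj F, V))
      (e' : CohIII.T m.P ((m.N : ℤ) - p) (ModuleCat.of Γ(S, V) Γ(S', W)) →
        Γ((Coh.Rpush f' p).obj ((Scheme.Modules.pullback g').obj F), W)),
      Function.Bijective c ∧ Function.Bijective e' ∧
        (LinearMap.liftBaseChange Γ(S', W) (FBC.locLin g (B.φ p F) hle) : _ → _) ∘ c =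
          e' ∘ H06FlatCx.compMap m.P (H06FlatCx.down_prev ((m.N : ℤ) - p)) (H06FlatCx.down_next _)
            (ModuleCat.of Γ(S, V) Γ(S', W)) := by
  haveI : ((Scheme.Modules.pullback g').obj F).IsQuasicoherent := H29Fitt.isQCoh_pullback g' F ‹_›
  exact exists_locLin_square f h F hV hW hle (B.φ p F) p hU m (εLin f E F hV p)
    (εLin f' E' ((Scheme.Modules.pullback g').obj F) hW p) fun x => by
      show rs _ hle ((B.φ p F).app V (E.ε V F p x)) = E'.ε W _ p _
      rw [B.compat V F p x]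
      exact ε_res f' E' hle p _ _

/-- The base change map on an affine pair is the comparison map of the model (bijective). -/
theorem bijective_locLin_iff
    (hU : letI := preOver f hV; GoodCover U)
    (m : letI := preOver f hV; Model (A := Γ(S, V)) (f ⁻¹ᵁ V).toScheme (F.restrict (f ⁻¹ᵁ V).ι) U) (p : ℕ) :
    letI := preOver f hV
    letI := (g.appLE V W hle).hom.toAlgebra
    letI := Module.compHom Γ((Coh.Rpush f' p).obj ((Scheme.Modules.pullback g').obj F), W) (g.appLE V W hle).hom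
    haveI : IsScalarTower Γ(S, V) Γ(S', W) Γ((Coh.Rpush f' p).obj ((Scheme.Modules.pullback g').obj F), W) :=
      .of_algebraMap_smul fun _ _ => rfl
    Function.Bijective (LinearMap.liftBaseChange Γ(S', W) (FBC.locLin g (B.φ p F) hle)) ↔
      Function.Bijective (H06FlatCx.compMap m.P (H06FlatCx.down_prev ((m.N : ℤ) - p)) (H06FlatCx.down_next _)
        (ModuleCat.of Γ(S, V) Γ(S', W))) := by
  obtain ⟨c, e', hc, he, hfun⟩ := exists_locLin_compMap f h E E' B F hV hW hle hU m p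
  constructor
  · intro hb
    have := hb.comp hc
    rw [hfun] at this
    exact (Function.Bijective.of_comp_iff' he _).1 this
  · intro hb
    have := he.comp hb
    rw [← hfun] at this
    exact (Function.Bijective.of_comp_iff _ hc).1 this

/-- The base change map on an affine pair is the comparison map of the model (surjective). -/
theorem surjective_locLin_iff
    (hU : letI := preOver f hV; GoodCover U)
    (m : letI := preOver f hV; Model (A := Γ(S, V)) (f ⁻¹ᵁ V).toScheme (F.restrict (f ⁻¹ᵁ V).ι) U) (p : ℕ) :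
    letI := preOver f hV
    letI := (g.appLE V W hle).hom.toAlgebra
    letI := Module.compHom Γ((Coh.Rpush f' p).obj ((Scheme.Modules.pullback g').obj F), W) (g.appLE V W hle).hom
    haveI : IsScalarTower Γ(S, V) Γ(S', W) Γ((Coh.Rpush f' p).obj ((Scheme.Modules.pullback g').obj F), W) :=
      .of_algebraMap_smul fun _ _ => rfl
    Function.Surjective (LinearMap.liftBaseChange Γ(S', W) (FBC.locLin g (B.φ p F) hle)) ↔
      Function.Surjective (H06FlatCx.compMap m.P (H06FlatCx.down_prev ((m.N : ℤ) - p)) (H06FlatCx.down_next _)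
        (ModuleCat.of Γ(S, V) Γ(S', W))) := by
  obtain ⟨c, e', hc, he, hfun⟩ := exists_locLin_compMap f h E E' B F hV hW hle hU m p
  constructor
  · intro hb
    have := hb.comp hc.surjective
    rw [hfun] at this
    exact (Function.Surjective.of_comp_iff' he _).1 this
  · intro hb
    have := he.surjective.comp hb
    rw [← hfun] at this
    exact (Function.Surjective.of_comp_iff _ hc.surjective).1 this

end Groth.Agent.LeadBC.GenBC
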