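import Groth.Agent.LeadBC.GenBC.Eps
import Groth.Agent.H17.PullSectLocal

/-!
# The pullback of classes on sections
-/

set_option autoImplicit false
set_option linter.style.haveILetI false
set_option linter.unusedSectionVars false

noncomputable section

universe u

open CategoryTheory CategoryTheory.Limits AlgebraicGeometry Opposite TopologicalSpace Abelian

namespace Groth.Agent.LeadBC.GenBC

open Groth.Agent.H10Coh

attribute [local instance 10000] hasSheafifyAb hasWeakSheafifyAb hasExtAb enoughInjAb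
attribute [local instance] enoughInjMod

variable {X Y Z : Scheme.{u}}

/-- The pulled back section over an open inside the preimage. -/
def ps (j : X ⟶ Y) (M : Y.Modules) (W : Y.Opens) (y : Γ(M, W)) (O : X.Opens) (h : O ≤ j ⁻¹ᵁ W) :
    Γ((Scheme.Modules.pullback j).obj M, O) :=
  rs _ h (OmegaSh.pullSect j M W y)

theorem ps_natural (j : X ⟶ Y) {M N : Y.Modules} (φ : M ⟶ N) (W : Y.Opens) (y : Γ(M, W)) (O : X.Opens)
    (h : O ≤ j ⁻¹ᵁ W) :
    ((Scheme.Modules.pullback j).map φ).app O (ps j M W y O h) = ps j N W (φ.app W y) O h := by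
  refine (app_rs _ h _).trans (congrArg (rs _ h) ?_)
  exact congr($(congrArg (fun k => Scheme.Modules.Hom.app k W)
    ((Scheme.Modules.pullbackPushforwardAdjunction j).unit.naturality φ)) y).symm

theorem ps_rs (j : X ⟶ Y) (M : Y.Modules) {W W' : Y.Opens} (e : W' ≤ W) (y : Γ(M, W)) (O : X.Opens)
    (h : O ≤ j ⁻¹ᵁ W') : ps j M W' (rs M e y) O h = ps j M W y O (h.trans (j.preimage_mono e)) := by
  show rs _ h (OmegaSh.pullSect j M W' (M.presheaf.map (homOfLE e).op y)) = _
  rw [OmegaSh.pullSect_map]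
  exact rs_rs _ _ _ _

theorem ps_comp (g : X ⟶ Y) (h : Y ⟶ Z) (M : Z.Modules) (W : Z.Opens) (y : Γ(M, W)) (W₁ : Y.Opens)
    (hW₁ : W₁ ≤ h ⁻¹ᵁ W) (O : X.Opens) (hO : O ≤ g ⁻¹ᵁ W₁) :
    ((Scheme.Modules.pullbackComp g h).hom.app M).app O (ps g _ W₁ (ps h M W y W₁ hW₁) O hO) =
      ps (g ≫ h) M W y O (hO.trans (g.preimage_mono hW₁)) := by
  rw [show ps h M W y W₁ hW₁ = rs _ hW₁ (OmegaSh.pullSect h M W y) from rfl, ps_rs]
  show _ = rs _ _ (OmegaSh.pullSect (g ≫ h) M W y)
  refine (app_rs _ (hO.trans (g.preimage_mono hW₁)) _).trans (congrArg (rs _ _) ?_)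
  rw [← H17.PullSect.pullSect_comp g h M W y]
  exact congr($(congrArg (fun k => Scheme.Modules.Hom.app k ((g ≫ h) ⁻¹ᵁ W))
    ((Scheme.Modules.pullbackComp g h).inv_hom_id_app M)) _)

theorem ps_congr {j j' : X ⟶ Y} (e : j = j') (M : Y.Modules) (W : Y.Opens) (y : Γ(M, W)) (O : X.Opens)
    (h : O ≤ j ⁻¹ᵁ W) :
    ((Scheme.Modules.pullbackCongr e).hom.app M).app O (ps j M W y O h) = ps j' M W y O (e ▸ h) := by
  subst e
  have e' : (Scheme.Modules.pullbackCongr (rfl : j = j)).hom.app M = 𝟙 _ := by simp [Scheme.Modules.pullbackCongr]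
  rw [e']
  rfl

theorem iso_ps (j : X ⟶ Y) [IsOpenImmersion j] (M : Y.Modules) (W : Y.Opens) (y : Γ(M, W)) (O : X.Opens)
    (h : O ≤ j ⁻¹ᵁ W) :
    ((Scheme.Modules.restrictFunctorIsoPullback j).inv.app M).app O (ps j M W y O h) =
      (show Γ(M.restrict j, O) from rs M ((j.image_mono h).trans (j.image_preimage_le W)) y) := by
  have hu := Adjunction.unit_leftAdjointUniq_hom_app (Scheme.Modules.restrictAdjunction j)
    (Scheme.Modules.pullbackPushforwardAdjunction j) M
  have h1 : (Scheme.Modules.pullbackPushforwardAdjunction j).unit.app M ≫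
      (Scheme.Modules.pushforward j).map ((Scheme.Modules.restrictFunctorIsoPullback j).inv.app M) =
      (Scheme.Modules.restrictAdjunction j).unit.app M := by
    rw [← hu, Category.assoc, ← Functor.map_comp]
    exact (congrArg (_ ≫ ·) ((congrArg (Scheme.Modules.pushforward j).map
      ((Scheme.Modules.restrictFunctorIsoPullback j).hom_inv_id_app _)).trans
        (CategoryTheory.Functor.map_id _ _))).trans (Category.comp_id _)
  refine (app_rs _ h _).trans ((congrArg (rs _ h) congr($(congrArg (fun k => Scheme.Modules.Hom.app k W) h1) y)).trans ?_)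
  exact rs_rs M (j.image_preimage_le W) (j.image_mono h) y

set_option maxRecDepth 4000 in
theorem pullOn_sectH0 (g : X ⟶ Y) (U : Y.Opens) (U' : X.Opens) (h : U' ≤ g ⁻¹ᵁ U) (F : Y.Modules)
    (s : Γ(F, U)) :
    CohPull.pullOn g U U' h F 0 (CohPull.sectH0 F U s) =
      CohPull.sectH0 ((Scheme.Modules.pullback g).obj F) U' (ps g F U s U' h) := by
  apply (Sheaf.H.equiv₀ (sh (((Scheme.Modules.pullback g).obj F).restrict U'.ι))
    (isTerminalTop : IsTerminal (⊤ : U'.toScheme.Opens))).injective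
  refine Eq.trans ?_ (AddEquiv.apply_symm_apply _ _).symm
  refine (Sheaf.H.equiv₀_naturality (isTerminalTop : IsTerminal (⊤ : U'.toScheme.Opens)) _ _).symm.trans ?_
  refine (congrArg _ (equiv₀_pullMod _ _ _)).trans ?_
  refine (congrArg (fun z => (CohPull.pullOnIso g U U' h F).hom.app ⊤ (OmegaSh.pullSect _ (F.restrict U.ι) ⊤ z))
    (AddEquiv.apply_symm_apply _ _)).trans ?_
  let r := g.resLE U U' h
  have hU : (⊤ : U.toScheme.Opens) ≤ U.ι ⁻¹ᵁ U := fun z _ => z.2
  have hU' : (⊤ : U'.toScheme.Opens) ≤ r ⁻¹ᵁ ⊤ := fun _ _ => trivial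
  let y : Γ(F.restrict U.ι, ⊤) := rs F (U.ι_image_top).le s
  have hy : ((Scheme.Modules.restrictFunctorIsoPullback U.ι).hom.app F).app ⊤ y = ps U.ι F U s ⊤ hU := by
    have hi : ((Scheme.Modules.restrictFunctorIsoPullback U.ι).inv.app F).app ⊤ (ps U.ι F U s ⊤ hU) = y :=
      iso_ps U.ι F U s ⊤ hU
    rw [← hi]
    exact congr($(congrArg (fun k => Scheme.Modules.Hom.app k ⊤)
      ((Scheme.Modules.restrictFunctorIsoPullback U.ι).inv_hom_id_app F)) _)
  have h0 : OmegaSh.pullSect r (F.restrict U.ι) ⊤ y = ps r (F.restrict U.ι) ⊤ y ⊤ hU' := (rs_self _ _ _).symm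
  show (CohPull.pullOnIso g U U' h F).hom.app ⊤ (OmegaSh.pullSect r (F.restrict U.ι) ⊤ y) = _
  rw [h0]
  simp only [CohPull.pullOnIso, Iso.trans_hom, Functor.mapIso_hom, Iso.app_hom, Iso.symm_hom, Iso.app_inv,
    Scheme.Modules.Hom.comp_app]
  show ((Scheme.Modules.restrictFunctorIsoPullback U'.ι).inv.app ((Scheme.Modules.pullback g).obj F)).app ⊤
      (((Scheme.Modules.pullbackComp U'.ι g).inv.app F).app ⊤
        (((Scheme.Modules.pullbackCongr (Scheme.Hom.resLE_comp_ι g h)).hom.app F).app ⊤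
          (((Scheme.Modules.pullbackComp r U.ι).hom.app F).app ⊤
            (((Scheme.Modules.pullback r).map ((Scheme.Modules.restrictFunctorIsoPullback U.ι).hom.app F)).app ⊤
              (ps r (F.restrict U.ι) ⊤ y ⊤ hU'))))) = _
  rw [ps_natural, hy, ps_comp r U.ι F U s ⊤ hU ⊤ hU', ps_congr]
  have hV : (⊤ : U'.toScheme.Opens) ≤ U'.ι ⁻¹ᵁ U' := fun z _ => z.2
  have e2 : ((Scheme.Modules.pullbackComp U'.ι g).inv.app F).app ⊤ (ps (U'.ι ≫ g) F U s ⊤
      (hV.trans (U'.ι.preimage_mono h))) = ps U'.ι _ U' (ps g F U s U' h) ⊤ hV := by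
    rw [← ps_comp U'.ι g F U s U' h ⊤ hV]
    exact congr($(congrArg (fun k => Scheme.Modules.Hom.app k ⊤)
      ((Scheme.Modules.pullbackComp U'.ι g).hom_inv_id_app F)) _)
  refine (congrArg _ e2).trans ?_
  exact iso_ps U'.ι _ U' (ps g F U s U' h) ⊤ hV

end Groth.Agent.LeadBC.GenBC
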