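import Groth.Agent.LeadBC.GenBC.PullEquiv
import Groth.Agent.LeadBC.FlatBC

/-!
# Pullback of classes when the cohomology is flat
-/

set_option autoImplicit false
set_option linter.style.haveILetI false
set_option linter.unusedSectionVars false

universe u

open AlgebraicGeometry CategoryTheory CategoryTheory.Limits TopologicalSpace Opposite MonoidalCategory
open scoped TensorProduct

namespace Groth.Agent.LeadBC.GenBC

open Groth.Agent.LeadFF Groth.Agent.H15Site Groth.Agent.LeadBC Groth.Agent.H06FlatCx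

variable {A : Type u} [CommRing A] {X : Scheme.{u}} [X.Over (Spec (CommRingCat.of A))]
  (F : X.Modules) [F.IsQuasicoherent]
variable {S : Type u} [CommRing S] [Algebra A S] {X' : Scheme.{u}} [X'.Over (Spec (CommRingCat.of S))] {q : X' ⟶ X}
  (hsq : IsPullback q (X' ↘ Spec (CommRingCat.of S)) (X ↘ Spec (CommRingCat.of A))
    (Spec.map (CommRingCat.ofHom (algebraMap A S))))

set_option maxRecDepth 4000 in
include hsq in
/-- When the cohomology is flat, classes of the base change are pullbacks: given a good cover. -/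
theorem exists_bijective_pullMod_of_cover {ι : Type u} [Finite ι] {U : ι → X.Opens} (hU : GoodCover U) {N : ℕ}
    (hN : HBound X N) (hfl : FlatMod.IsFlatOver (X ↘ Spec (CommRingCat.of A)) F)
    (hH : ∀ p : ℕ, Module.Flat A (Coh.HH X F p)) (p : ℕ) :
    ∃ G : S ⊗[A] Coh.HH X F p →+ Coh.HH X' (qF q F) p, Function.Bijective G ∧
      ∀ (s : S) (x : Coh.HH X F p), G (s ⊗ₜ x) = s • (show Coh.HH X' (qF q F) p from CohPull.pullMod q F p x) := by
  haveI := isQCoh_PF F hsq
  let j : ℤ := (N : ℤ) - p
  have hi := down_prev j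
  have hk := down_next j
  have hc := flat_cok_KD hU hfl hN hH (j - 1)
  unfold Cok at hc
  rw [sub_add_cancel] at hc
  haveI := flat_KD F hU hfl N (j - 1) (A := A)
  have hE := (preservesEpi_iff_epiLift _ hi hk).1 ((preservesEpi_iff_flat _ hi hk).2 hc)
  let e₁ := LinearEquiv.ofBijective _
    (compMap_bijective_of_epi (KD U F N (A := A)) hi hk hE (ModuleCat.of A S))
  let tA : CohIII.T (KD U F N (A := A)) j (ModuleCat.of A A) ≅ (CohIII.tensorObj (KC A U F) (ModuleCat.of A A)).homology p :=
    extH (ModuleCat.of A A) N p rfl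
  let E : CohIII.T (KD U F N (A := A)) j (ModuleCat.of A S) ≅ (KC A U (PF q F)).homology p :=
    extH (ModuleCat.of A S) N p rfl ≪≫ HomologicalComplex.homologyMapIso (γC F hsq hU) p
  let eA : CohIII.T (KD U F N (A := A)) j (ModuleCat.of A A) ≃ₗ[A] Coh.HH X F p :=
    (tA ≪≫ HomologicalComplex.homologyMapIso (γC₁ U F) p).toLinearEquiv ≪≫ₗ eHH A hU F p
  let edge : Coh.HH X (PF q F) p ≃+ Coh.HH X' (qF q F) p :=
    AddEquiv.ofBijective (CohPull.pushEdge q (qF q F) p) (bijective_pushEdge_qF F hsq p)
  let e : CohIII.T (KD U F N (A := A)) j (ModuleCat.of A S) ≃+ Coh.HH X' (qF q F) p :=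
    (E.toLinearEquiv.toAddEquiv.trans (eHH A hU (PF q F) p).toAddEquiv).trans edge
  have hsem : ∀ (s : S) (t : CohIII.T (KD U F N (A := A)) j (ModuleCat.of A S)),
      e (((CohIII.TFun (KD U F N (A := A)) j).map (mulS S A s)).hom t) = s • e t := fun s t => by
    have h : (CohIII.TFun (KD U F N (A := A)) j).map (mulS S A s) ≫ E.hom =
        E.hom ≫ HomologicalComplex.homologyMap ((KCF A U).map (σs q F s)) p :=
      chain (extH_natural _ N p rfl) ((HomologicalComplex.homologyMap_comp _ _ p).symm.trans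
        ((congrArg (fun φ => HomologicalComplex.homologyMap φ p) (γC_mul F hsq hU s)).trans
          (HomologicalComplex.homologyMap_comp _ _ p)))
    refine (congrArg (fun z => edge (eHH A hU (PF q F) p z)) (ConcreteCategory.congr_hom h t)).trans ?_
    refine (congrArg edge (eHH_natural A hU (σs q F s) p _)).trans ?_
    exact (pushEdge_natural (Formal.smulMod S (qF q F) s) p _).trans (Hm_smulMod (qF q F) p s _)
  have halg : ∀ t : CohIII.T (KD U F N (A := A)) j (ModuleCat.of A A),
      e (((CohIII.TFun (KD U F N (A := A)) j).map (ModuleCat.ofHom (Algebra.linearMap A S))).hom t) =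
        CohPull.pullMod q F p (eA t) := fun t => by
    have h : (CohIII.TFun (KD U F N (A := A)) j).map (ModuleCat.ofHom (Algebra.linearMap A S)) ≫ E.hom =
        (tA.hom ≫ HomologicalComplex.homologyMap (γC₁ U F).hom p) ≫
          HomologicalComplex.homologyMap
            ((KCF A U).map ((Scheme.Modules.pullbackPushforwardAdjunction q).unit.app F)) p :=
      chain (extH_natural _ N p rfl) ((HomologicalComplex.homologyMap_comp _ _ p).symm.trans
        ((congrArg (fun φ => HomologicalComplex.homologyMap φ p) (γC_alg F hsq hU)).trans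
          (HomologicalComplex.homologyMap_comp _ _ p)))
    refine (congrArg (fun z => edge (eHH A hU (PF q F) p z)) (ConcreteCategory.congr_hom h t)).trans ?_
    haveI : ((𝟭 X.Modules).obj F).IsQuasicoherent := ‹F.IsQuasicoherent›
    refine (congrArg edge (eHH_natural A hU _ p _)).trans ?_
    exact (pullMod_eq_pushEdge F p _).symm
  let L : H0 (KD U F N (A := A)) (j + 1) j (j - 1) ≃ₗ[A] Coh.HH X F p := tSelfEquiv _ hi hk ≪≫ₗ eA
  let c : S ⊗[A] Coh.HH X F p ≃ₗ[A] H0 (KD U F N (A := A)) (j + 1) j (j - 1) ⊗[A] S :=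
    TensorProduct.comm A _ _ ≪≫ₗ TensorProduct.congr L.symm (LinearEquiv.refl A S)
  refine ⟨((c.toAddEquiv.trans e₁.toAddEquiv).trans e).toAddMonoidHom,
    ((c.toAddEquiv.trans e₁.toAddEquiv).trans e).bijective, fun s x => ?_⟩
  obtain ⟨t, rfl⟩ := L.surjective x
  show e (compMap (KD U F N (A := A)) hi hk (ModuleCat.of A S) (L.symm (L t) ⊗ₜ s)) = _
  have h1 := compMap_natural (KD U F N (A := A)) hi hk (N := ModuleCat.of A S)
    (ModuleCat.ofHom (Algebra.linearMap A S) ≫ mulS S A s) (t ⊗ₜ[A] (1 : A))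
  rw [LinearMap.lTensor_tmul] at h1
  have h2 : (ModuleCat.ofHom (Algebra.linearMap A S) ≫ mulS S A s).hom (1 : A) = s := by
    show s * algebraMap A S 1 = s
    rw [map_one, mul_one]
  rw [h2, Functor.map_comp] at h1
  rw [L.symm_apply_apply, h1]
  exact (hsem s _).trans (congrArg (s • ·) (halg _))

include hsq in
/-- When the cohomology is flat, classes of the base change are pullbacks. -/
theorem exists_bijective_pullMod [QuasiCompact (X ↘ Spec (CommRingCat.of A))]
    [IsSeparated (X ↘ Spec (CommRingCat.of A))] (hfl : FlatMod.IsFlatOver (X ↘ Spec (CommRingCat.of A)) F)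
    (hH : ∀ p : ℕ, Module.Flat A (Coh.HH X F p)) (p : ℕ) :
    ∃ G : S ⊗[A] Coh.HH X F p →+ Coh.HH X' (qF q F) p, Function.Bijective G ∧
      ∀ (s : S) (x : Coh.HH X F p), G (s ⊗ₜ x) = s • (show Coh.HH X' (qF q F) p from CohPull.pullMod q F p x) := by
  obtain ⟨ι, hι, U, hU⟩ := exists_goodCover A (X := X)
  obtain ⟨N, hN⟩ := exists_bound_HH A X
  exact exists_bijective_pullMod_of_cover F hsq hU hN hfl hH p

end Groth.Agent.LeadBC.GenBC
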