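import Groth.Agent.LeadBC.GenBC.Apply

/-!
# A module zero near every point is zero
-/

set_option autoImplicit false

universe u

open CategoryTheory CategoryTheory.Limits AlgebraicGeometry Opposite TopologicalSpace

namespace Groth.Agent.LeadBC.GenBC

theorem isZero_of_isZero_restrict {X : Scheme.{u}} (M : X.Modules)
    (h : ∀ y : X, ∃ W : X.Opens, y ∈ W ∧ IsZero (M.restrict W.ι)) : IsZero M := by
  refine LeadDev.isZero_of_sections fun O s => H17.PrinFactor.germ_ext fun y hy => ?_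
  rw [map_zero]
  obtain ⟨W, hyW, hW⟩ := h y
  let Q : X.Opens := W.ι ''ᵁ (W.ι ⁻¹ᵁ O)
  have hQ : Q = W ⊓ O := by
    rw [show Q = W.ι ''ᵁ (W.ι ⁻¹ᵁ O) from rfl, Scheme.Hom.image_preimage_eq_opensRange_inf,
      Scheme.Opens.opensRange_ι]
  have hQO : Q ≤ O := hQ.le.trans inf_le_right
  have hzero : ∀ t : Γ(M.restrict W.ι, W.ι ⁻¹ᵁ O), t = 0 := fun t =>
    congr($(congrArg (fun k => Scheme.Modules.Hom.app k (W.ι ⁻¹ᵁ O)) ((IsZero.iff_id_eq_zero _).1 hW)) t)
  have h0 : M.presheaf.map (homOfLE hQO).op s = (0 : Γ(M, Q)) := hzero _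
  rw [← TopCat.Presheaf.germ_res_apply M.presheaf (homOfLE hQO) y (hQ.ge ⟨hyW, hy⟩) s, h0, map_zero]

end Groth.Agent.LeadBC.GenBC
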