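import Groth.Agent.LeadBC.GenBC.Zero
import Groth.Agent.H8Props.FinLocFree.Sheaf
import Groth.Agent.LeadBC.GenBC.Glob

/-!
# Degree zero: applications
-/

set_option autoImplicit false
set_option linter.style.haveILetI false
set_option linter.unusedSectionVars false

universe u

open CategoryTheory CategoryTheory.Limits AlgebraicGeometry Opposite TopologicalSpace

namespace Groth.Agent.LeadBC.GenBC

open Groth.Agent.H10Coh

attribute [local instance 10000] hasSheafifyAb hasWeakSheafifyAb hasExtAb enoughInjAb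

variable {X S : Scheme.{u}} (f : X ⟶ S) (F : X.Modules)
  {X' S' : Scheme.{u}} {g : S' ⟶ S} {g' : X' ⟶ X} {f' : X' ⟶ S'} (h : IsPullback g' f' f g)

theorem τ₀_eq :
    τ₀ f F h = (Scheme.Modules.pushforward f).map ((Scheme.Modules.pullbackPushforwardAdjunction g').unit.app F) ≫
      (Scheme.Modules.pushforwardComp g' f).hom.app ((Scheme.Modules.pullback g').obj F) ≫
      (Scheme.Modules.pushforwardCongr h.w).hom.app ((Scheme.Modules.pullback g').obj F) ≫
      (Scheme.Modules.pushforwardComp f' g).inv.app ((Scheme.Modules.pullback g').obj F) := by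
  show FBC.τPush h _ = _
  rw [FBC.τPush]
  refine congrArg (_ ≫ ·) ?_
  rw [Iso.trans_hom, Iso.trans_hom, NatTrans.comp_app, NatTrans.comp_app, Iso.symm_hom]

variable [IsProper f] [LocallyOfFinitePresentation f] [F.IsQuasicoherent]
  (hfp : CohB1.IsFP F) (hfl : FlatMod.IsFlatOver f F)

include hfp hfl in
/-- The direct image is finite locally free over the locus of right exactness. -/
theorem isFinLocFree_push_restrict [HasInjectiveResolutions X.Modules] (O : S.Opens)
    (hO : ∀ y ∈ O, ∃ (W : S.Opens) (hW : IsAffineOpen W), y ∈ W ∧ EpiOn f F hW 0) :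
    FlatMod.IsFinLocFree (((Scheme.Modules.pushforward f).obj F).restrict O.ι) := by
  haveI := isIso_toR0 f F
  refine H16Derived.KFlat.Stalk.isFinLocFree_of_iso
    ((Scheme.Modules.restrictFunctor O.ι).mapIso
      (asIso ((Scheme.Modules.pushforward f).toRightDerivedZero.app F))).symm
    (isFinLocFree_of_exact f F hfp hfl 0 O fun y hy => ?_)
  obtain ⟨W, hW, hyW, he⟩ := hO y hy
  exact ⟨W, hW, hyW, he, monoOn_zero f F hW hfp hfl⟩

include hfp hfl in
theorem isFinLocFree_push [HasInjectiveResolutions X.Modules]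
    (h : ∀ y : S, ∃ (W : S.Opens) (hW : IsAffineOpen W), y ∈ W ∧ EpiOn f F hW 0) :
    FlatMod.IsFinLocFree ((Scheme.Modules.pushforward f).obj F) := by
  haveI := isIso_toR0 f F
  refine H16Derived.KFlat.Stalk.isFinLocFree_of_iso
    (asIso ((Scheme.Modules.pushforward f).toRightDerivedZero.app F)).symm
    (isFinLocFree_of_exact_all f F hfp hfl 0 fun y => ?_)
  obtain ⟨W, hW, hyW, he⟩ := h y
  exact ⟨W, hW, hyW, he, monoOn_zero f F hW hfp hfl⟩

end Groth.Agent.LeadBC.GenBC
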