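import Groth.Agent.LeadBC.CxBaseChange
import Groth.Agent.LeadBC.ExchangeBC

/-!
# Models pass to base changes
-/

set_option autoImplicit false
set_option linter.style.haveILetI false
set_option linter.unusedSectionVars false

universe u

open AlgebraicGeometry CategoryTheory CategoryTheory.Limits TopologicalSpace Opposite MonoidalCategory
open scoped TensorProduct

namespace Groth.Agent.LeadBC.GenBC

open Groth.Agent.LeadFF Groth.Agent.H15Site Groth.Agent.LeadBC

section algebra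

variable {A₀ : Type u} [CommRing A₀] {A : Type u} [CommRing A] [Algebra A₀ A]
  (M : Type u) [AddCommGroup M] [Module A M] [Module A₀ M] [IsScalarTower A₀ A M]

/-- `(A ⊗ X) ⊗_A M = X ⊗ M`. -/
noncomputable def cancelE (X : Type u) [AddCommGroup X] [Module A₀ X] :
    (A ⊗[A₀] X) ⊗[A] M ≃+ X ⊗[A₀] M :=
  (TensorProduct.comm A (A ⊗[A₀] X) M).toAddEquiv.trans
    ((TensorProduct.AlgebraTensorModule.cancelBaseChange A₀ A A M X).toAddEquiv.trans
      (TensorProduct.comm A₀ M X).toAddEquiv)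

theorem cancelE_natural {X Y : Type u} [AddCommGroup X] [Module A₀ X] [AddCommGroup Y] [Module A₀ Y]
    (g : X →ₗ[A₀] Y) (z : (A ⊗[A₀] X) ⊗[A] M) :
    cancelE (A := A) M Y ((g.baseChange A).rTensor M z) = g.rTensor M (cancelE (A := A) M X z) := by
  induction z using TensorProduct.induction_on with
  | zero => simp
  | add a b ha hb => simp only [map_add, ha, hb]
  | tmul y m =>
    induction y using TensorProduct.induction_on with
    | zero => simp [cancelE]
    | tmul a x => simp [cancelE]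
    | add a b ha hb => simp only [TensorProduct.add_tmul, map_add, ha, hb]

theorem mem_range_iff {X Y : Type u} [AddCommGroup X] [Module A₀ X] [AddCommGroup Y] [Module A₀ Y]
    (g : X →ₗ[A₀] Y) (z : (A ⊗[A₀] Y) ⊗[A] M) :
    z ∈ LinearMap.range ((g.baseChange A).rTensor M) ↔ cancelE (A := A) M Y z ∈ LinearMap.range (g.rTensor M) := by
  constructor
  · rintro ⟨x, rfl⟩
    exact ⟨cancelE (A := A) M X x, (cancelE_natural M g x).symm⟩
  · rintro ⟨x, hx⟩
    obtain ⟨x', rfl⟩ := (cancelE (A := A) M X).surjective x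
    exact ⟨x', (cancelE (A := A) M Y).injective ((cancelE_natural M g x').trans hx)⟩

theorem ker_iff {X Y : Type u} [AddCommGroup X] [Module A₀ X] [AddCommGroup Y] [Module A₀ Y]
    (g : X →ₗ[A₀] Y) (z : (A ⊗[A₀] X) ⊗[A] M) :
    (g.baseChange A).rTensor M z = 0 ↔ g.rTensor M (cancelE (A := A) M X z) = 0 := by
  rw [← cancelE_natural, map_eq_zero_iff _ (cancelE (A := A) M Y).injective]

variable {Pi Pj Pk Ki Kj Kk : Type u} [AddCommGroup Pi] [Module A₀ Pi] [AddCommGroup Pj] [Module A₀ Pj]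
  [AddCommGroup Pk] [Module A₀ Pk] [AddCommGroup Ki] [Module A₀ Ki] [AddCommGroup Kj] [Module A₀ Kj]
  [AddCommGroup Kk] [Module A₀ Kk]
  (pi : Pi →ₗ[A₀] Pj) (pj : Pj →ₗ[A₀] Pk) (ki : Ki →ₗ[A₀] Kj) (kj : Kj →ₗ[A₀] Kk) (φj : Pj →ₗ[A₀] Kj)

theorem qSurj_baseChange (h : QSurj pj ki kj φj M) :
    QSurj (pj.baseChange A) (ki.baseChange A) (kj.baseChange A) (φj.baseChange A) M := by
  intro z hz
  obtain ⟨w, hw, hr⟩ := h (cancelE (A := A) M Kj z) ((ker_iff M kj z).1 hz)
  obtain ⟨w', rfl⟩ := (cancelE (A := A) M Pj).surjective w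
  refine ⟨w', (ker_iff M pj w').2 hw, (mem_range_iff M ki _).2 ?_⟩
  rwa [map_sub, cancelE_natural]

theorem qInj_baseChange (h : QInj pi pj ki φj M) :
    QInj (pi.baseChange A) (pj.baseChange A) (ki.baseChange A) (φj.baseChange A) M := by
  intro w hw hr
  have hr' := (mem_range_iff M ki _).1 hr
  rw [cancelE_natural] at hr'
  exact (mem_range_iff M pi w).2 (h _ ((ker_iff M pj w).1 hw) hr')

end algebra

variable {A₀ : Type u} [CommRing A₀]

theorem qSurj_qInj_of_bijective {P K : ChainComplex (ModuleCat.{u} A₀) ℤ} (φ : P ⟶ K) (j : ℤ)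
    (M : ModuleCat.{u} A₀)
    (h : Function.Bijective (HomologicalComplex.homologyMap (tensorφ A₀ φ M) j).hom) :
    QSurj (P.d j (j - 1)).hom (K.d (j + 1) j).hom (K.d j (j - 1)).hom (φ.f j).hom M ∧
      QInj (P.d (j + 1) j).hom (P.d j (j - 1)).hom (K.d (j + 1) j).hom (φ.f j).hom M := by
  have hk := H06FlatCx.down_next j
  have hi := H06FlatCx.down_prev j
  have hmap : ∀ w : LinearMap.ker ((P.d j (j - 1)).hom.rTensor M),
      ∃ hw, (HomologicalComplex.homologyMap (tensorφ A₀ φ M) j).hom (H06FlatCx.tcls P hk M w) =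
        H06FlatCx.tcls K hk M ⟨(φ.f j).hom.rTensor M w, hw⟩ := fun w =>
    ⟨_, H06FlatCx.homologyMap_cls (tensorφ A₀ φ M) hk w⟩
  refine ⟨fun z hz => ?_, fun w hw hr => ?_⟩
  · obtain ⟨t, ht⟩ := h.2 (H06FlatCx.tcls K hk M ⟨z, hz⟩)
    obtain ⟨w, rfl⟩ := H06FlatCx.tcls_surjective P hk M t
    obtain ⟨hw, e⟩ := hmap w
    refine ⟨w, w.2, ?_⟩
    exact (H06FlatCx.tcls_eq_zero_iff K hi hk M (⟨z, hz⟩ - ⟨(φ.f j).hom.rTensor M w, hw⟩)).1
      ((map_sub (H06FlatCx.tcls K hk M) _ _).trans (sub_eq_zero.2 (e.symm.trans ht).symm))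
  · obtain ⟨hw', e⟩ := hmap ⟨w, hw⟩
    exact (H06FlatCx.tcls_eq_zero_iff P hi hk M ⟨w, hw⟩).1 (h.1 ((e.trans
      ((H06FlatCx.tcls_eq_zero_iff K hi hk M _).2 hr)).trans (map_zero _).symm))

theorem bijective_bc_homologyMap {A : Type u} [CommRing A] (ρ : A₀ →+* A)
    {P K : ChainComplex (ModuleCat.{u} A₀) ℤ} (φ : P ⟶ K) (j : ℤ)
    (h : ∀ M : ModuleCat.{u} A₀, Function.Bijective (HomologicalComplex.homologyMap (tensorφ A₀ φ M) j).hom)
    (M : ModuleCat.{u} A) :
    Function.Bijective (HomologicalComplex.homologyMap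
      (tensorφ A (((ModuleCat.extendScalars ρ).mapHomologicalComplex (ComplexShape.down ℤ)).map φ) M) j).hom := by
  letI := ρ.toAlgebra
  letI : Module A₀ M := Module.compHom M ρ
  haveI : IsScalarTower A₀ A M := .of_algebraMap_smul fun _ _ => rfl
  obtain ⟨hS, hI⟩ := qSurj_qInj_of_bijective φ j (ModuleCat.of A₀ M) (h _)
  exact bijective_homologyMap_tensor A _ (rfl : j + 1 = j + 1) (sub_add_cancel j 1) M
    (qSurj_baseChange M _ _ _ _ hS) (qInj_baseChange M _ _ _ _ hI)

variable {X₀ : Scheme.{u}} [X₀.Over (Spec (CommRingCat.of A₀))] {A : Type u} [CommRing A] (ρ : A₀ →+* A)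
  {X : Scheme.{u}} [X.Over (Spec (CommRingCat.of A))] {q : X ⟶ X₀}
  (hsq : IsPullback q (X ↘ Spec (CommRingCat.of A)) (X₀ ↘ Spec (CommRingCat.of A₀))
    (Spec.map (CommRingCat.ofHom ρ)))
  {F₀ : X₀.Modules} [F₀.IsQuasicoherent] {ι : Type u} [Finite ι] {U₀ : ι → X₀.Opens} (hU : GoodCover U₀)

include hsq hU in
/-- The base change of a model. -/
theorem exists_model_bc (m : Model (A := A₀) X₀ F₀ U₀) {N : ℕ} (hN : m.N = N) (hbd : HBound X N)
    (G : X.Modules) [G.IsQuasicoherent] (i : qF q F₀ ≅ G) :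
    ∃ m' : Model (A := A) X G (preU q U₀), m'.N = N ∧ m'.P = CohIII.bcCx ρ m.P := by
  subst hN
  let Φ := ((ModuleCat.extendScalars ρ).mapHomologicalComplex (ComplexShape.down ℤ)).map m.φ
  let iso : CohIII.bcCx ρ (KD U₀ F₀ m.N (A := A₀)) ≅ KD (preU q U₀) G m.N (A := A) :=
    δDIso ρ hsq F₀ hU m.N ≪≫
      (ComplexShape.Embedding.extendFunctor (embN m.N) (ModuleCat.{u} A)).mapIso
        ((KCF A (preU q U₀)).mapIso i)
  refine ⟨{ N := m.N, bound := hbd, P := CohIII.bcCx ρ m.P,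
            finite_free := fun k => ?_, isZero_neg := fun k hk => (ModuleCat.extendScalars ρ).map_isZero (m.isZero_neg k hk),
            φ := Φ ≫ iso.hom, qis := fun j M => ?_ }, rfl, rfl⟩
  · letI := ρ.toAlgebra
    haveI := (m.finite_free k).1
    haveI := (m.finite_free k).2
    exact ⟨Module.Finite.equiv (H06FlatCx.bcX m.P ρ k).symm, Module.Free.of_equiv (H06FlatCx.bcX m.P ρ k).symm⟩
  · have h1 := bijective_bc_homologyMap ρ m.φ j (fun M₀ => m.qis j M₀) M
    have h2 : tensorφ A (Φ ≫ iso.hom) M = tensorφ A Φ M ≫ tensorφ A iso.hom M :=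
      ((tensorRight M).mapHomologicalComplex (ComplexShape.down ℤ)).map_comp _ _
    rw [h2, HomologicalComplex.homologyMap_comp]
    haveI : IsIso (HomologicalComplex.homologyMap (tensorφ A iso.hom M) j) :=
      inferInstanceAs (IsIso (HomologicalComplex.homologyMapIso
        (((tensorRight M).mapHomologicalComplex (ComplexShape.down ℤ)).mapIso iso) j).hom)
    exact (ConcreteCategory.bijective_of_isIso (HomologicalComplex.homologyMap (tensorφ A iso.hom M) j)).comp h1

end Groth.Agent.LeadBC.GenBC
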