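import Groth.Agent.LeadBC.GenBC.Crit
import Groth.Agent.LeadBC.GenBC.ModelBC
import Groth.Agent.LeadBC.Chart
import Groth.Agent.LeadBC.Basic
import Groth.Agent.H7Lim.ProperFlatModel
import Groth.Agent.H06EGA9.FlatFibreBC
import Groth.Agent.H06EGA9.FlatConstructible

/-!
# Models over the affine opens of an arbitrary base
-/

set_option autoImplicit false
set_option linter.style.haveILetI false
set_option linter.unusedSectionVars false

universe u

open CategoryTheory CategoryTheory.Limits AlgebraicGeometry Opposite TopologicalSpace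
open scoped TensorProduct

namespace Groth.Agent.LeadBC.GenBC

open Groth.Agent.H10Coh Groth.Agent.LeadBC Groth.Agent.H06FlatCx

theorem hbound_of_isAffineHom {X X' : Scheme.{u}} (q : X' ⟶ X) [IsAffineHom q] {N : ℕ} (h : HBound X N) :
    HBound X' N := by
  intro G hG p hp
  haveI := hG
  haveI := H10Coh.enoughInjMod X'
  haveI := h ((Scheme.Modules.pushforward q).obj G) (H10Coh.isQuasicoherent_pushforward_of_isAffineHom q G) p hp
  exact (H10Coh.bijective_pushEdge q G (H10Coh.isAcyclic_push_of_isAffineHom q G) p).2.subsingleton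

variable {X S : Scheme.{u}} (f : X ⟶ S) {V : S.Opens} (hV : IsAffineOpen V)

/-- A model over an affine open of the base. -/
theorem exists_chart [IsProper f] [LocallyOfFinitePresentation f] (F : X.Modules) [F.IsQuasicoherent]
    (hfp : CohB1.IsFP F) (hfl : FlatMod.IsFlatOver f F) :
    letI := preOver f hV
    ∃ (ι : Type u) (_ : Finite ι) (U : ι → (f ⁻¹ᵁ V).toScheme.Opens), GoodCover U ∧
      Nonempty (Model (A := Γ(S, V)) (f ⁻¹ᵁ V).toScheme (F.restrict (f ⁻¹ᵁ V).ι) U) := by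
  letI := preOver f hV
  let r := (f ⁻¹ᵁ V).toScheme ↘ Spec (CommRingCat.of Γ(S, V))
  have hP := isPullback_preOver f hV
  haveI : IsProper r := MorphismProperty.of_isPullback hP ‹IsProper f›
  haveI : LocallyOfFinitePresentation r := MorphismProperty.of_isPullback hP ‹LocallyOfFinitePresentation f›
  let j := (f ⁻¹ᵁ V).ι
  let F' := (Scheme.Modules.pullback j).obj F
  haveI : Coh.IsQCoh F' := H29Fitt.isQCoh_pullback j F ‹_›
  obtain ⟨R₀, _, _, X₀, f₀, F₀, g, -, hN₀, hprop, -, hcoh, -, hfl₀, hsq, ⟨e⟩⟩ :=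
    Groth.Agent.H7Lim.exists_proper_flat_model r F' (H06EGA9.isFP_pullback j hfp)
      (fun x => H06EGA9.isFlatOverAt_of_isPullback hP F x (hfl _))
  letI : X₀.Over (Spec (CommRingCat.of R₀)) := ⟨f₀⟩
  haveI : IsProper (X₀ ↘ Spec (CommRingCat.of R₀)) := hprop
  haveI : IsNoetherianRing R₀ := hN₀
  haveI : F₀.IsQuasicoherent := hcoh.1
  obtain ⟨ι, hι, U₀, hU₀, ⟨m₀⟩⟩ := exists_model R₀ F₀ hcoh hfl₀
  haveI := LeadFF.isAffineHom_fst hsq
  haveI : (F.restrict j).IsQuasicoherent := Scheme.Modules.isQuasicoherent_restrictFunctor j F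
  obtain ⟨m, -, -⟩ := exists_model_bc (algebraMap R₀ Γ(S, V)) hsq hU₀ m₀ rfl (hbound_of_isAffineHom g m₀.bound)
    (F.restrict j) (e ≪≫ ((Scheme.Modules.restrictFunctorIsoPullback j).app F).symm)
  exact ⟨ι, hι, preU g U₀, goodCover_preU (A := R₀) (S := Γ(S, V)) (hsq := hsq) (hU := hU₀), ⟨m⟩⟩

variable [QuasiCompact f] [QuasiSeparated f] {F : X.Modules} [F.IsQuasicoherent]
  {ι : Type u} [Finite ι] {U : ι → (f ⁻¹ᵁ V).toScheme.Opens}

/-- A model restricts to a smaller affine open. -/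
theorem exists_chart_le (hU : letI := preOver f hV; GoodCover U)
    (m : letI := preOver f hV; Model (A := Γ(S, V)) (f ⁻¹ᵁ V).toScheme (F.restrict (f ⁻¹ᵁ V).ι) U)
    {W : S.Opens} (hW : IsAffineOpen W) (hle : W ≤ V) :
    letI := preOver f hV
    letI := preOver f hW
    ∃ (U' : ι → (f ⁻¹ᵁ W).toScheme.Opens), GoodCover U' ∧
      ∃ m' : Model (A := Γ(S, W)) (f ⁻¹ᵁ W).toScheme (F.restrict (f ⁻¹ᵁ W).ι) U', m'.N = m.N ∧
        m'.P = CohIII.bcCx (S.presheaf.map (homOfLE hle).op).hom m.P := by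
  letI := preOver f hV
  letI := preOver f hW
  have h : IsPullback (𝟙 X) f f (𝟙 S) := IsPullback.of_horiz_isIso ⟨by simp⟩
  have hle' : W ≤ (𝟙 S) ⁻¹ᵁ V := hle
  have hres : (𝟙 S : S ⟶ S).appLE V W hle' = S.presheaf.map (homOfLE hle).op := by
    simp [Scheme.Hom.appLE]; rfl
  letI := ((𝟙 S : S ⟶ S).appLE V W hle').hom.toAlgebra
  have hsq := isPullback_qMap f hV h hW hle'
  haveI := LeadFF.isAffineHom_fst hsq
  haveI : (F.restrict (f ⁻¹ᵁ V).ι).IsQuasicoherent := Scheme.Modules.isQuasicoherent_restrictFunctor _ F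
  haveI : (F.restrict (f ⁻¹ᵁ W).ι).IsQuasicoherent := Scheme.Modules.isQuasicoherent_restrictFunctor _ F
  obtain ⟨Ψ, -⟩ := exists_rH_pullOn f h hle' F
  obtain ⟨m', hN, hP⟩ := exists_model_bc (algebraMap Γ(S, V) Γ(S, W)) hsq hU m rfl
    (hbound_of_isAffineHom (qMap f h hle') m.bound) (F.restrict (f ⁻¹ᵁ W).ι)
    (Ψ ≪≫ (Scheme.Modules.restrictFunctor (f ⁻¹ᵁ W).ι).mapIso ((Scheme.Modules.pullbackId X).app F))
  refine ⟨preU (qMap f h hle') U, goodCover_preU (hsq := hsq) (hU := hU), m', hN, ?_⟩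
  rw [hP, ← hres]
  rfl

theorem subsingleton_homQuot_field_iff {A : Type u} [CommRing A] {K : Type u} [Field K] [Algebra A K]
    (P : ChainComplex (ModuleCat.{u} A) ℤ) (hP : ∀ i, Module.Finite A (P.X i)) (j : ℤ) :
    hqRank K P (j + 1) j (j - 1) = 0 ↔ Subsingleton (CohIII.T P j (ModuleCat.of A K)) := by
  obtain ⟨e, -⟩ := exists_homQuot_equiv (B := K) P (H06FlatCx.down_prev j) (H06FlatCx.down_next j)
  haveI := hP j
  exact Module.finrank_zero_iff.trans e.toEquiv.subsingleton_congr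

/-- Vanishing on the fibre through a model over an affine open. -/
theorem subsingleton_fiberH_iff (hU : letI := preOver f hV; GoodCover U)
    (m : letI := preOver f hV; Model (A := Γ(S, V)) (f ⁻¹ᵁ V).toScheme (F.restrict (f ⁻¹ᵁ V).ι) U)
    {y : S} (hy : y ∈ V) (p : ℕ) :
    letI := preOver f hV
    (Subsingleton (CohIII.fiberH f F y p) ↔
      Subsingleton (CohIII.T m.P ((m.N : ℤ) - p)
        (ModuleCat.of Γ(S, V) (hV.primeIdealOf ⟨y, hy⟩).asIdeal.ResidueField))) ∧
      CohIII.fiberRank f F p y = CohIII.dRank m.P ((m.N : ℤ) - p) (hV.primeIdealOf ⟨y, hy⟩) := by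
  letI := preOver f hV
  let x := hV.primeIdealOf ⟨y, hy⟩
  let K := S.residueField y
  let j := (m.N : ℤ) - p
  letI : (f.fiber y).Over (Spec (CommRingCat.of K)) := ⟨f.fiberToSpecResidueField y⟩
  obtain ⟨φ, hφ, hker⟩ := exists_chart_point hV (S.fromSpecResidueField y) y hy
    (fun s => Scheme.fromSpecResidueField_apply y s)
  letI : Algebra Γ(S, V) K := φ.toAlgebra
  have hP := isPullback_preOver f hV
  have hw : f.fiberι y ≫ f = ((f.fiber y) ↘ Spec (CommRingCat.of K)) ≫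
      Spec.map (CommRingCat.ofHom (algebraMap Γ(S, V) K)) ≫ hV.fromSpec :=
    (f.fiber_fac y).trans (congrArg _ hφ.symm)
  let q := hP.lift (f.fiberι y) (((f.fiber y) ↘ Spec (CommRingCat.of K)) ≫
    Spec.map (CommRingCat.ofHom (algebraMap Γ(S, V) K))) (hw.trans (Category.assoc _ _ _).symm)
  have hsq : IsPullback q ((f.fiber y) ↘ Spec (CommRingCat.of K))
      ((f ⁻¹ᵁ V).toScheme ↘ Spec (CommRingCat.of Γ(S, V)))
      (Spec.map (CommRingCat.ofHom (algebraMap Γ(S, V) K))) :=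
    IsPullback.of_right (h₁₂ := (f ⁻¹ᵁ V).ι) (v₁₃ := f) (h₂₂ := hV.fromSpec)
      (by rw [IsPullback.lift_fst, show Spec.map (CommRingCat.ofHom (algebraMap Γ(S, V) K)) ≫ hV.fromSpec =
            S.fromSpecResidueField y from hφ]
          exact IsPullback.of_hasPullback f (S.fromSpecResidueField y))
      (hP.lift_snd _ _ _) hP
  haveI : (F.restrict (f ⁻¹ᵁ V).ι).IsQuasicoherent := Scheme.Modules.isQuasicoherent_restrictFunctor _ F
  let G : CohIII.fiberMod f F y ≅ qF q (F.restrict (f ⁻¹ᵁ V).ι) :=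
    (Scheme.Modules.pullbackCongr (hP.lift_fst _ _ _).symm).app F ≪≫
      ((Scheme.Modules.pullbackComp q (f ⁻¹ᵁ V).ι).app F).symm ≪≫
      (Scheme.Modules.pullback q).mapIso ((Scheme.Modules.restrictFunctorIsoPullback (f ⁻¹ᵁ V).ι).app F).symm
  have hfin : ∀ i, Module.Finite Γ(S, V) (m.P.X i) := fun i => (m.finite_free i).1
  have hrank := m.finrank_bc hU (K := K) hsq x hker (CohIII.fiberMod f F y) G p
  refine ⟨?_, hrank⟩
  obtain ⟨E, -⟩ := Model.exists_bcEquiv K hsq hU m p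
  have h1 : Subsingleton (CohIII.fiberH f F y p) ↔ Subsingleton (CohIII.T m.P j (ModuleCat.of Γ(S, V) K)) :=
    (E.toEquiv.trans ((HMod K p).mapIso G.symm).toLinearEquiv.toEquiv).subsingleton_congr.symm
  rw [h1, ← subsingleton_homQuot_field_iff m.P hfin j, ← subsingleton_homQuot_field_iff m.P hfin j,
    hqRank_eq m.P (H06FlatCx.down_prev j) (H06FlatCx.down_next j),
    hqRank_eq m.P (H06FlatCx.down_prev j) (H06FlatCx.down_next j)]
  have hu : x.asIdeal.primeCompl ≤ (IsUnit.submonoid K).comap φ :=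
    fun a ha => show IsUnit (φ a) from isUnit_iff_ne_zero.2 fun h0 => ha (hker ▸ h0)
  let ψ : x.asIdeal.ResidueField →+* K := Ideal.ResidueField.lift x.asIdeal φ hker.ge hu
  have hψ : ψ.comp (algebraMap Γ(S, V) x.asIdeal.ResidueField) = φ :=
    RingHom.ext fun a => Ideal.ResidueField.lift_algebraMap x.asIdeal φ hker.ge hu a
  have hgen : ∀ (χ : Γ(S, V) →+* K), χ = ψ.comp (algebraMap Γ(S, V) x.asIdeal.ResidueField) →
      Module.finrank K ((CohIII.bcCx χ m.P).homology j) = CohIII.dRank m.P j x := by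
    rintro χ rfl
    exact bcCx_finrank_field_ext m.P (algebraMap Γ(S, V) x.asIdeal.ResidueField) ψ
      (H06FlatCx.down_prev j) (H06FlatCx.down_next j)
  rw [hgen (algebraMap Γ(S, V) K) hψ.symm]
  rfl

end Groth.Agent.LeadBC.GenBC
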