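import Groth.Agent.LeadBC.GenBC.Apply
import Groth.Agent.LeadBC.GenBC.PullSectOn
import Groth.Agent.H10Coh.FlatBC.Sheaf

/-!
# Degree zero, for the direct image
-/

set_option autoImplicit false
set_option linter.style.haveILetI false
set_option linter.unusedSectionVars false

noncomputable section

universe u

open CategoryTheory CategoryTheory.Limits AlgebraicGeometry Opposite TopologicalSpace
open scoped TensorProduct

namespace Groth.Agent.LeadBC.GenBC

open Groth.Agent.H10Coh Groth.Agent.H06FlatCx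

attribute [local instance 10000] hasSheafifyAb hasWeakSheafifyAb hasExtAb enoughInjAb

variable {X S : Scheme.{u}} (f : X ⟶ S) (F : X.Modules)

theorem sectH0_smul (V : S.Opens) (a : Γ(S, V)) (s : Γ(F, f ⁻¹ᵁ V)) :
    Sheaf.H.map (Coh.smulAb (F.restrict (f ⁻¹ᵁ V).ι) (preΓ f V a)) 0 (CohPull.sectH0 F (f ⁻¹ᵁ V) s) =
      CohPull.sectH0 F (f ⁻¹ᵁ V) (f.app V a • s) := by
  let U := f ⁻¹ᵁ V
  apply (Sheaf.H.equiv₀ (sh (F.restrict U.ι)) (isTerminalTop : IsTerminal (⊤ : U.toScheme.Opens))).injective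
  refine Eq.trans ?_ (AddEquiv.apply_symm_apply _ _).symm
  refine (Sheaf.H.equiv₀_naturality (isTerminalTop : IsTerminal (⊤ : U.toScheme.Opens)) _ _).symm.trans ?_
  refine (congrArg _ (AddEquiv.apply_symm_apply _ _)).trans ?_
  have htop : U.ι ''ᵁ ⊤ = U := U.ι_image_top
  have e := restrict_smul_pow U F (f.app V a) ⊤ htop.le 1 (rs F htop.le s)
  simp only [pow_one] at e
  exact e.trans (Scheme.Modules.map_smul F (homOfLE htop.le) _ _).symm

/-- Sections of the direct image as classes of degree zero. -/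
def pushLin {V : S.Opens} (hV : IsAffineOpen V) :
    letI := preOver f hV
    Coh.HH (f ⁻¹ᵁ V).toScheme (F.restrict (f ⁻¹ᵁ V).ι) 0 ≃ₗ[Γ(S, V)] Γ((Scheme.Modules.pushforward f).obj F, V) :=
  letI := preOver f hV
  { (CohPull.sectH0 F (f ⁻¹ᵁ V)).symm with
    map_smul' := fun a x => by
      obtain ⟨s, rfl⟩ := (CohPull.sectH0 F (f ⁻¹ᵁ V)).surjective x
      show (CohPull.sectH0 F (f ⁻¹ᵁ V)).symm (Sheaf.H.map (Coh.smulAb (F.restrict (f ⁻¹ᵁ V).ι)
        (Coh.toGlobal (A := Γ(S, V)) ((f ⁻¹ᵁ V).toScheme ↘ Spec (CommRingCat.of Γ(S, V))) a)) 0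
        (CohPull.sectH0 F (f ⁻¹ᵁ V) s)) = f.app V a • (CohPull.sectH0 F (f ⁻¹ᵁ V)).symm (CohPull.sectH0 F (f ⁻¹ᵁ V) s)
      rw [toGlobal_preOver f hV]
      exact (congrArg _ (sectH0_smul f F V a s)).trans ((AddEquiv.symm_apply_apply _ _).trans
        (congrArg (f.app V a • ·) (AddEquiv.symm_apply_apply _ s).symm)) }

variable {X' S' : Scheme.{u}} {g : S' ⟶ S} {g' : X' ⟶ X} {f' : X' ⟶ S'} (h : IsPullback g' f' f g)

/-- The base change map in degree zero, in adjoint form. -/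
abbrev τ₀ : (Scheme.Modules.pushforward f).obj F ⟶
    (Scheme.Modules.pushforward g).obj ((Scheme.Modules.pushforward f').obj ((Scheme.Modules.pullback g').obj F)) :=
  FBC.τPush h ((Scheme.Modules.pullbackPushforwardAdjunction g').unit.app F)

variable [IsProper f] [LocallyOfFinitePresentation f] [F.IsQuasicoherent]

set_option maxRecDepth 4000 in
theorem exists_locLin_zero {V : S.Opens} (hV : IsAffineOpen V) {W : S'.Opens} (hW : IsAffineOpen W)
    (hle : W ≤ g ⁻¹ᵁ V) {ι : Type u} [Finite ι] {U : ι → (f ⁻¹ᵁ V).toScheme.Opens}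
    (hU : letI := preOver f hV; GoodCover U)
    (m : letI := preOver f hV; Model (A := Γ(S, V)) (f ⁻¹ᵁ V).toScheme (F.restrict (f ⁻¹ᵁ V).ι) U) :
    letI := preOver f hV
    letI := (g.appLE V W hle).hom.toAlgebra
    letI := Module.compHom Γ((Scheme.Modules.pushforward f').obj ((Scheme.Modules.pullback g').obj F), W)
      (g.appLE V W hle).hom
    haveI : IsScalarTower Γ(S, V) Γ(S', W)
        Γ((Scheme.Modules.pushforward f').obj ((Scheme.Modules.pullback g').obj F), W) :=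
      .of_algebraMap_smul fun _ _ => rfl
    ∃ (c : H0 m.P (((m.N : ℤ) - (0 : ℕ)) + 1) ((m.N : ℤ) - (0 : ℕ)) (((m.N : ℤ) - (0 : ℕ)) - 1) ⊗[Γ(S, V)] Γ(S', W) →
        Γ(S', W) ⊗[Γ(S, V)] Γ((Scheme.Modules.pushforward f).obj F, V))
      (e' : CohIII.T m.P ((m.N : ℤ) - (0 : ℕ)) (ModuleCat.of Γ(S, V) Γ(S', W)) →
        Γ((Scheme.Modules.pushforward f').obj ((Scheme.Modules.pullback g').obj F), W)),
      Function.Bijective c ∧ Function.Bijective e' ∧
        (LinearMap.liftBaseChange Γ(S', W) (FBC.locLin g (τ₀ f F h) hle) : _ → _) ∘ c =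
          e' ∘ compMap m.P (down_prev ((m.N : ℤ) - (0 : ℕ))) (down_next _) (ModuleCat.of Γ(S, V) Γ(S', W)) := by
  haveI := enoughInjMod X
  haveI := enoughInjMod X'
  haveI : QuasiCompact f' := MorphismProperty.of_isPullback h (inferInstance : QuasiCompact f)
  haveI : QuasiSeparated f' := MorphismProperty.of_isPullback h (inferInstance : QuasiSeparated f)
  refine exists_locLin_square f h F hV hW hle (τ₀ f F h) 0 hU m (pushLin f F hV)
    (pushLin f' ((Scheme.Modules.pullback g').obj F) hW) fun x => ?_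
  obtain ⟨s, rfl⟩ := (CohPull.sectH0 F (f ⁻¹ᵁ V)).surjective x
  show rs ((Scheme.Modules.pushforward f').obj ((Scheme.Modules.pullback g').obj F)) hle
      ((τ₀ f F h).app V ((CohPull.sectH0 F (f ⁻¹ᵁ V)).symm (CohPull.sectH0 F (f ⁻¹ᵁ V) s))) =
    (CohPull.sectH0 _ (f' ⁻¹ᵁ W)).symm (rH _ _ 0 (CohPull.pullOn g' _ _ _ F 0 (CohPull.sectH0 F (f ⁻¹ᵁ V) s)))
  refine (congrArg (fun t => rs _ hle ((τ₀ f F h).app V t)) (AddEquiv.symm_apply_apply _ s)).trans
    ((congrArg (rs _ hle) (FBC.τPush_app h _ V s)).trans ((rs_rs _ _ _ _).trans ?_))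
  refine Eq.trans ?_ (congrArg (fun t => (CohPull.sectH0 _ (f' ⁻¹ᵁ W)).symm (rH _ _ 0 t))
    (pullOn_sectH0 g' _ _ _ F s)).symm
  refine Eq.trans ?_ ((congrArg _ (rH_sectH0 _ _ _)).trans (AddEquiv.symm_apply_apply _ _)).symm
  exact (rs_rs _ _ _ _).symm

variable (hfp : CohB1.IsFP F) (hfl : FlatMod.IsFlatOver f F)

include hfp hfl in
/-- The degree zero base change map is an isomorphism over the locus of right exactness. -/
theorem isIso_bc_zero (hT : ∀ z : S', ∃ (W : S.Opens) (hW : IsAffineOpen W), g z ∈ W ∧ EpiOn f F hW 0) :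
    IsIso (((Scheme.Modules.pullbackPushforwardAdjunction g).homEquiv _ _).symm (τ₀ f F h)) := by
  refine isIso_transpose_of g (H10Coh.isQuasicoherent_pushforward f F) (τ₀ f F h)
    (fun W => ∃ hW : IsAffineOpen W, EpiOn f F hW 0)
    (fun z => by obtain ⟨W, hW, hz, he⟩ := hT z; exact ⟨W, ⟨hW, he⟩, hW, hz⟩)
    fun V V' hTV hV hV' hle => ?_
  obtain ⟨hV, he⟩ := hTV
  letI := preOver f hV
  obtain ⟨ι, _, U, hU, ⟨m⟩⟩ := exists_chart f hV F hfp hfl
  haveI := flat_X m.P m.finite_free ((m.N : ℤ) - (0 : ℕ) - 1)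
  letI := (g.appLE V V' hle).hom.toAlgebra
  obtain ⟨c, e', hc, he', hfun⟩ := exists_locLin_zero f F h hV hV' hle hU m
  have hb := he'.comp (compMap_bijective_of_epi m.P (down_prev _) (down_next _)
    ((preservesEpi_iff_epiLift m.P (down_prev _) (down_next _)).1 ((epiOn_iff f F hV hU m 0).1 he))
    (ModuleCat.of Γ(S, V) Γ(S', V')))
  rw [← hfun] at hb
  exact (Function.Bijective.of_comp_iff _ hc).1 hb

include hfp hfl in
/-- An epimorphic degree zero base change map to a field valued point spreads out. -/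
theorem exists_epiOn_of_epi_zero {Y : Scheme.{u}} {K : Type u} [Field K] {t : Spec (CommRingCat.of K) ⟶ S}
    {t' : Y ⟶ X} {f₁ : Y ⟶ Spec (CommRingCat.of K)} (h : IsPullback t' f₁ f t)
    (s : S) (hg : ∀ z, t z = s)
    (he : Epi (((Scheme.Modules.pullbackPushforwardAdjunction t).homEquiv _ _).symm (τ₀ f F h))) :
    ∃ (W : S.Opens) (hW : IsAffineOpen W), s ∈ W ∧ EpiOn f F hW 0 := by
  obtain ⟨V, hV, hs, -⟩ := exists_isAffineOpen_mem_and_subset (U := (⊤ : S.Opens)) (x := s) trivial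
  letI := preOver f hV
  obtain ⟨ι, _, U, hU, ⟨m⟩⟩ := exists_chart f hV F hfp hfl
  have hle : (⊤ : (Spec (CommRingCat.of K)).Opens) ≤ t ⁻¹ᵁ V := fun z _ => by
    show t z ∈ V
    rw [hg]
    exact hs
  have hW : IsAffineOpen (⊤ : (Spec (CommRingCat.of K)).Opens) := isAffineOpen_top _
  letI := (t.appLE V ⊤ hle).hom.toAlgebra
  have hF : IsField Γ(Spec (CommRingCat.of K), ⊤) :=
    MulEquiv.isField (Field.toIsField K) (Scheme.ΓSpecIso (CommRingCat.of K)).commRingCatIsoToRingEquiv.toMulEquiv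
  letI : Field Γ(Spec (CommRingCat.of K), ⊤) := hF.toField
  have hker : RingHom.ker (algebraMap Γ(S, V) Γ(Spec (CommRingCat.of K), ⊤)) =
      (hV.primeIdealOf ⟨s, hs⟩).asIdeal := by
    let z₀ : Spec Γ(Spec (CommRingCat.of K), ⊤) := ⟨(⊥ : Ideal Γ(Spec (CommRingCat.of K), ⊤)), Ideal.isPrime_bot⟩
    have h1 : (Spec.map (t.appLE V ⊤ hle)) z₀ = hV.primeIdealOf ⟨s, hs⟩ := hV.fromSpec.isOpenEmbedding.injective (by
      rw [hV.fromSpec_primeIdealOf, ← Scheme.Hom.comp_apply, hV.SpecMap_appLE_fromSpec t hW hle,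
        Scheme.Hom.comp_apply]
      exact hg _)
    exact congrArg PrimeSpectrum.asIdeal h1
  haveI : Subsingleton (Spec (CommRingCat.of K)) := inferInstanceAs (Subsingleton (PrimeSpectrum K))
  haveI : Nonempty (Spec (CommRingCat.of K)) := inferInstanceAs (Nonempty (PrimeSpectrum K))
  obtain ⟨c₀, hc₀, hfun₀⟩ := exists_transpose_app t (H10Coh.isQuasicoherent_pushforward f F) (τ₀ f F h) hV hW hle
  obtain ⟨c, e', hc, he', hfun⟩ := exists_locLin_zero f F h hV hW hle hU m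
  have hsurj := (((epi_iff_surjective_top _).1 he).comp hc₀.surjective).comp hc.surjective
  rw [← hfun₀, hfun] at hsurj
  obtain ⟨W, hW', hsW, -, hE⟩ := exists_epiOn_nhd f F hV hfp hfl hU m hs 0
    (spannedAt_residueField_of_field _ _ _ hker ((compMap_surjective_iff m.P _ _ _).1
      ((Function.Surjective.of_comp_iff' he' _).1 hsurj)))
  exact ⟨W, hW', hsW, hE⟩

end Groth.Agent.LeadBC.GenBC
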