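import Groth.Agent.LeadBC.GenBC.Rank
import Groth.Agent.H06FlatCx.Criteria

/-!
# Semicontinuity of the fibre ranks
-/

set_option autoImplicit false
set_option linter.style.haveILetI false
set_option linter.unusedSectionVars false

universe u

open CategoryTheory CategoryTheory.Limits AlgebraicGeometry Opposite TopologicalSpace

namespace Groth.Agent.LeadBC.GenBC

open Groth.Agent.H10Coh Groth.Agent.H06FlatCx

attribute [local instance 10000] hasSheafifyAb hasWeakSheafifyAb hasExtAb enoughInjAb

/-- Upper semicontinuity of `dRank` over any ring, for free terms. -/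
theorem dRank_usc_of_free {A : Type u} [CommRing A] (P : ChainComplex (ModuleCat.{u} A) ℤ)
    (hP : ∀ i, Module.Finite A (P.X i) ∧ Module.Free A (P.X i)) (p : ℤ) : UpperSemicontinuous (CohIII.dRank P p) := by
  haveI := (hP p).1
  haveI := (hP (p - 1)).1
  haveI := (hP (p - 1)).2
  haveI : Module.FinitePresentation A (P.X (p - 1)) := Module.finitePresentation_of_projective A _
  intro x r hr
  have hX : IsLocallyConstant (fibDim (A := A) (P.X (p - 1))) := by
    rw [show fibDim (A := A) (P.X (p - 1)) = Module.rankAtStalk (R := A) (P.X (p - 1)) from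
      funext (fibDim_eq_rankAtStalk (P.X (p - 1)))]
    exact Module.isLocallyConstant_rankAtStalk
  let C₁ := P.X p ⧸ LinearMap.range (P.d (p + 1) p).hom
  let C₂ := P.X (p - 1) ⧸ LinearMap.range (P.d p (p - 1)).hom
  have h0 := (hX.isOpen_fiber (fibDim (P.X (p - 1)) x)).mem_nhds rfl
  have h1 := (isOpen_fibDim_le C₁ (fibDim (A := A) C₁ x)).mem_nhds (le_refl (fibDim (A := A) C₁ x))
  have h2 := (isOpen_fibDim_le C₂ (fibDim (A := A) C₂ x)).mem_nhds (le_refl (fibDim (A := A) C₂ x))
  filter_upwards [h0, h1, h2] with y e0 e1 e2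
  change fibDim (P.X (p - 1)) y = fibDim (P.X (p - 1)) x at e0
  change fibDim (A := A) C₁ y ≤ fibDim (A := A) C₁ x at e1
  change fibDim (A := A) C₂ y ≤ fibDim (A := A) C₂ x at e2
  have a1 : CohIII.dRank P p x + fibDim (P.X (p - 1)) x = fibDim (A := A) C₁ x + fibDim (A := A) C₂ x :=
    dRank_add P (down_prev p) (down_next p) x
  have a2 : CohIII.dRank P p y + fibDim (P.X (p - 1)) y = fibDim (A := A) C₁ y + fibDim (A := A) C₂ y :=
    dRank_add P (down_prev p) (down_next p) y
  omega

variable {X S : Scheme.{u}} (f : X ⟶ S) [IsProper f] [LocallyOfFinitePresentation f] (F : X.Modules)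
  [F.IsQuasicoherent] (hfp : CohB1.IsFP F) (hfl : FlatMod.IsFlatOver f F)

include hfp hfl in
/-- The rank of the fibrewise cohomology is upper semicontinuous. -/
theorem upperSemicontinuous_fiberRank (p : ℕ) : UpperSemicontinuous (CohIII.fiberRank f F p) := by
  intro s r hr
  obtain ⟨V, hV, hs, -⟩ := exists_isAffineOpen_mem_and_subset (U := (⊤ : S.Opens)) (x := s) trivial
  letI := preOver f hV
  obtain ⟨ι, _, U, hU, ⟨m⟩⟩ := exists_chart f hV F hfp hfl
  have hd : CohIII.dRank m.P ((m.N : ℤ) - p) = CohIII.fiberRank f F p ∘ hV.fromSpec := by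
    funext x
    have hy : hV.fromSpec x ∈ V := hV.range_fromSpec.le ⟨x, rfl⟩
    have hx : hV.primeIdealOf ⟨hV.fromSpec x, hy⟩ = x :=
      hV.fromSpec.isOpenEmbedding.injective (hV.fromSpec_primeIdealOf _)
    exact ((subsingleton_fiberH_iff f hV hU m hy p).2.trans (by rw [hx])).symm
  obtain ⟨x, rfl⟩ := hV.range_fromSpec.ge hs
  have h := dRank_usc_of_free m.P m.finite_free ((m.N : ℤ) - p) x r (by rw [hd]; exact hr)
  rw [hd] at h
  rw [← hV.fromSpec.isOpenEmbedding.map_nhds_eq x]
  exact Filter.eventually_map.2 h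

end Groth.Agent.LeadBC.GenBC
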