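import Groth.Agent.LeadBC.GenBC.ZeroApply
import Groth.Agent.H06EGA9.StructureStalk
import Groth.Agent.H11Ample.Ample
import Groth.Agent.H8Props.FinLocFree.Sheaf
import Groth.Agent.H10ZMT.Basic

/-!
# `f_* O = O` from the fibres, for flat proper morphisms
-/

set_option autoImplicit false
set_option linter.style.haveILetI false
set_option linter.unusedSectionVars false

universe u

open CategoryTheory CategoryTheory.Limits AlgebraicGeometry Opposite TopologicalSpace
open scoped TensorProduct

namespace Groth.Agent.LeadBC.GenBC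

open Groth.Agent.H10Coh

variable {X S : Scheme.{u}} (f : X ⟶ S) [IsProper f]

/-- `1`, as a section of the direct image of the structure module. -/
abbrev pushOne (V : S.Opens) : Γ((Scheme.Modules.pushforward f).obj (Coh.structureModule X), V) :=
  (1 : Γ(X, f ⁻¹ᵁ V))

theorem smul_pushOne {V : S.Opens} (a : Γ(S, V)) :
    a • pushOne f V = (show Γ((Scheme.Modules.pushforward f).obj (Coh.structureModule X), V) from f.app V a) :=
  mul_one (f.app V a)

variable {X' S' : Scheme.{u}} {g : S' ⟶ S} {g' : X' ⟶ X} {f' : X' ⟶ S'} (h : IsPullback g' f' f g)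

include h in
theorem preimage_le {V : S.Opens} {W : S'.Opens} (hle : W ≤ g ⁻¹ᵁ V) : f' ⁻¹ᵁ W ≤ g' ⁻¹ᵁ (f ⁻¹ᵁ V) :=
  ((Opens.map f'.base).monotone hle).trans (FBC.preimage_swap h V).le

/-- Degree zero base change of the structure module on `r ⊗ 1` is the map of functions. -/
theorem exists_lift_pushOne {V : S.Opens} {W : S'.Opens} (hle : W ≤ g ⁻¹ᵁ V) :
    letI := (g.appLE V W hle).hom.toAlgebra
    letI := Module.compHom Γ((Scheme.Modules.pushforward f').obj ((Scheme.Modules.pullback g').obj (Coh.structureModule X)), W)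
      (g.appLE V W hle).hom
    haveI : IsScalarTower Γ(S, V) Γ(S', W)
        Γ((Scheme.Modules.pushforward f').obj ((Scheme.Modules.pullback g').obj (Coh.structureModule X)), W) :=
      .of_algebraMap_smul fun _ _ => rfl
    ∃ E : Γ(X', f' ⁻¹ᵁ W) →
        Γ((Scheme.Modules.pushforward f').obj ((Scheme.Modules.pullback g').obj (Coh.structureModule X)), W),
      Function.Bijective E ∧ ∀ r : Γ(S', W),
        LinearMap.liftBaseChange Γ(S', W) (FBC.locLin g (τ₀ f (Coh.structureModule X) h) hle)
          (r ⊗ₜ[Γ(S, V)] pushOne f V) = E (f'.app W r) := by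
  letI := (g.appLE V W hle).hom.toAlgebra
  letI := Module.compHom Γ((Scheme.Modules.pushforward f').obj ((Scheme.Modules.pullback g').obj (Coh.structureModule X)), W)
    (g.appLE V W hle).hom
  haveI : IsScalarTower Γ(S, V) Γ(S', W)
      Γ((Scheme.Modules.pushforward f').obj ((Scheme.Modules.pullback g').obj (Coh.structureModule X)), W) :=
    .of_algebraMap_smul fun _ _ => rfl
  refine ⟨_, ((H11Ample.isGen_one (f ⁻¹ᵁ V)).pullSect g').bijective (preimage_le f h hle), fun r => ?_⟩
  rw [LinearMap.liftBaseChange_tmul]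
  refine congrArg (r • ·) ?_
  show rs _ hle ((τ₀ f (Coh.structureModule X) h).app V (pushOne f V)) = _
  rw [FBC.τPush_app]
  exact rs_rs _ _ _ _

variable [Flat f] [LocallyOfFinitePresentation f]

omit [IsProper f] [LocallyOfFinitePresentation f] in
theorem isFlatOver_structure : FlatMod.IsFlatOver f (Coh.structureModule X) := fun x =>
  (H06EGA9.isFlatOverAt_structureModule_iff f x).2 (Flat.stalkMap f x)

/-- If the fibre has only constants, the base change to a point spreads out. -/
theorem exists_epiOn_of_appTop {Y : Scheme.{u}} {K : Type u} [Field K] {t : Spec (CommRingCat.of K) ⟶ S}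
    {t' : Y ⟶ X} {f₁ : Y ⟶ Spec (CommRingCat.of K)} (hsq : IsPullback t' f₁ f t) (s : S) (hg : ∀ z, t z = s)
    (hK : Function.Surjective f₁.appTop) :
    ∃ (W : S.Opens) (hW : IsAffineOpen W), s ∈ W ∧ EpiOn f (Coh.structureModule X) hW 0 := by
  haveI : (Coh.structureModule X).IsQuasicoherent := isQuasicoherent_unit
  haveI : Subsingleton (Spec (CommRingCat.of K)) := inferInstanceAs (Subsingleton (PrimeSpectrum K))
  haveI : Nonempty (Spec (CommRingCat.of K)) := inferInstanceAs (Nonempty (PrimeSpectrum K))
  obtain ⟨V, hV, hs, -⟩ := exists_isAffineOpen_mem_and_subset (U := (⊤ : S.Opens)) (x := s) trivial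
  have hle : (⊤ : (Spec (CommRingCat.of K)).Opens) ≤ t ⁻¹ᵁ V := fun z _ => by
    show t z ∈ V
    rw [hg]
    exact hs
  refine exists_epiOn_of_epi_zero f _ H06EGA9.isFP_structureModule (isFlatOver_structure f) hsq s hg
    ((epi_iff_surjective_top _).2 ?_)
  obtain ⟨c, -, hc⟩ := exists_transpose_app t (H10Coh.isQuasicoherent_pushforward f (Coh.structureModule X))
    (τ₀ f (Coh.structureModule X) hsq) hV (isAffineOpen_top _) hle
  obtain ⟨E, hE, hEr⟩ := exists_lift_pushOne f hsq hle
  intro y
  obtain ⟨m, rfl⟩ := hE.2 y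
  obtain ⟨r, rfl⟩ := hK m
  exact ⟨_, (congrFun hc _).symm.trans (hEr r)⟩

omit [Flat f] [LocallyOfFinitePresentation f] in
theorem surjective_of_appTop (hK : ∀ s : S, IsIso (f.fiberToSpecResidueField s).appTop) :
    Function.Surjective f := fun s => by
  haveI := hK s
  haveI : Nontrivial Γ(f.fiber s, ⊤) :=
    (ConcreteCategory.bijective_of_isIso (f.fiberToSpecResidueField s).appTop).1.nontrivial
  obtain ⟨x⟩ : Nonempty (f.fiber s) := by
    by_contra hne
    rw [not_nonempty_iff] at hne
    exact false_of_nontrivial_of_subsingleton Γ(f.fiber s, ⊤)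
  exact ⟨f.fiberι s x, (f.range_fiberι s).le (Set.mem_range_self x)⟩

theorem exists_epiOn_of_fibres (hK : ∀ s : S, IsIso (f.fiberToSpecResidueField s).appTop) (s : S) :
    ∃ (W : S.Opens) (hW : IsAffineOpen W), s ∈ W ∧ EpiOn f (Coh.structureModule X) hW 0 :=
  haveI := hK s
  exists_epiOn_of_appTop f (IsPullback.of_hasPullback f (S.fromSpecResidueField s)) s
    (fun z => Scheme.fromSpecResidueField_apply s z)
    (ConcreteCategory.bijective_of_isIso (f.fiberToSpecResidueField s).appTop).2

/-- On affine opens `O_S = f_* O_X`, if the fibres have only constants. -/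
theorem bijective_app_of_fibres (hK : ∀ s : S, IsIso (f.fiberToSpecResidueField s).appTop)
    {V : S.Opens} (hV : IsAffineOpen V) : Function.Bijective (f.app V) := by
  haveI : (Coh.structureModule X).IsQuasicoherent := isQuasicoherent_unit
  haveI := H10Coh.enoughInjMod X
  have hsq : ∀ s : S, IsPullback (f.fiberι s) (f.fiberToSpecResidueField s) f (S.fromSpecResidueField s) :=
    fun s => IsPullback.of_hasPullback f (S.fromSpecResidueField s)
  have hE := exists_epiOn_of_fibres f hK
  let M := (Scheme.Modules.pushforward f).obj (Coh.structureModule X)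
  obtain ⟨_, _⟩ := H8Props.FinLocFree.finite_projective_sections M
    (isFinLocFree_push f _ H06EGA9.isFP_structureModule (isFlatOver_structure f) hE) hV
  let φ : Γ(S, V) →ₗ[Γ(S, V)] Γ(M, V) := LinearMap.toSpanSingleton Γ(S, V) _ (pushOne f V)
  have hsurj : Function.Surjective φ := by
    rw [← LinearMap.range_eq_top]
    rw [← Submodule.Quotient.subsingleton_iff, ← Module.support_eq_empty_iff (R := Γ(S, V))]
    refine Set.eq_empty_of_forall_notMem fun p hp => ?_
    let Q := Γ(M, V) ⧸ LinearMap.range φ
    haveI : Nontrivial (p.asIdeal.ResidueField ⊗[Γ(S, V)] Q) :=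
      (Module.mem_support_iff_nontrivial_residueField_tensorProduct p).1 hp
    let s : S := hV.fromSpec p
    have hs : s ∈ V := hV.range_fromSpec.le ⟨p, rfl⟩
    let K := S.residueField s
    haveI : Subsingleton (Spec K) := inferInstanceAs (Subsingleton (PrimeSpectrum K))
    have hle : (⊤ : (Spec K).Opens) ≤ S.fromSpecResidueField s ⁻¹ᵁ V := fun z _ => by
      show S.fromSpecResidueField s z ∈ V
      rw [Scheme.fromSpecResidueField_apply]
      exact hs
    letI := ((S.fromSpecResidueField s).appLE V ⊤ hle).hom.toAlgebra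
    have hF : IsField Γ(Spec K, ⊤) :=
      MulEquiv.isField (Field.toIsField K) (Scheme.ΓSpecIso K).commRingCatIsoToRingEquiv.toMulEquiv
    letI : Field Γ(Spec K, ⊤) := hF.toField
    have hker : RingHom.ker (algebraMap Γ(S, V) Γ(Spec K, ⊤)) = p.asIdeal := by
      let z₀ : Spec Γ(Spec K, ⊤) := ⟨(⊥ : Ideal Γ(Spec K, ⊤)), Ideal.isPrime_bot⟩
      have h1 : (Spec.map ((S.fromSpecResidueField s).appLE V ⊤ hle)) z₀ = p :=
        hV.fromSpec.isOpenEmbedding.injective (by
          rw [← Scheme.Hom.comp_apply, hV.SpecMap_appLE_fromSpec _ (isAffineOpen_top _) hle,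
            Scheme.Hom.comp_apply]
          exact Scheme.fromSpecResidueField_apply s _)
      exact congrArg PrimeSpectrum.asIdeal h1
    let ι : p.asIdeal.ResidueField →ₐ[Γ(S, V)] Γ(Spec K, ⊤) :=
      Ideal.ResidueField.liftₐ p.asIdeal (Algebra.ofId Γ(S, V) Γ(Spec K, ⊤)) hker.ge fun a ha =>
        isUnit_iff_ne_zero.2 fun h0 => ha (hker.le h0)
    letI := ι.toRingHom.toAlgebra
    haveI : IsScalarTower Γ(S, V) p.asIdeal.ResidueField Γ(Spec K, ⊤) := .of_algHom ι
    haveI : Nontrivial (Γ(Spec K, ⊤) ⊗[Γ(S, V)] Q) :=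
      (TensorProduct.AlgebraTensorModule.cancelBaseChange Γ(S, V) p.asIdeal.ResidueField
        Γ(Spec K, ⊤) Γ(Spec K, ⊤) Q).symm.toEquiv.nontrivial
    -- but `K ⊗ M` is spanned by `1`
    obtain ⟨c, hc, hcf⟩ := exists_transpose_app (S.fromSpecResidueField s)
      (H10Coh.isQuasicoherent_pushforward f (Coh.structureModule X))
      (τ₀ f (Coh.structureModule X) (hsq s)) hV (isAffineOpen_top _) hle
    obtain ⟨E, hEb, hEr⟩ := exists_lift_pushOne f (hsq s) hle
    haveI := isIso_bc_zero f (Coh.structureModule X) (hsq s) H06EGA9.isFP_structureModule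
      (isFlatOver_structure f) fun z => hE _
    letI := Module.compHom Γ((Scheme.Modules.pushforward (f.fiberToSpecResidueField s)).obj
        ((Scheme.Modules.pullback (f.fiberι s)).obj (Coh.structureModule X)), ⊤)
      ((S.fromSpecResidueField s).appLE V ⊤ hle).hom
    haveI : IsScalarTower Γ(S, V) Γ(Spec K, ⊤) Γ((Scheme.Modules.pushforward (f.fiberToSpecResidueField s)).obj
        ((Scheme.Modules.pullback (f.fiberι s)).obj (Coh.structureModule X)), ⊤) :=
      .of_algebraMap_smul fun _ _ => rfl
    have hb : Function.Bijective (LinearMap.liftBaseChange Γ(Spec K, ⊤)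
        (FBC.locLin (S.fromSpecResidueField s) (τ₀ f (Coh.structureModule X) (hsq s)) hle)) := by
      rw [hcf]
      exact (ConcreteCategory.bijective_of_isIso _).comp hc
    haveI := hK s
    haveI : Subsingleton (Γ(Spec K, ⊤) ⊗[Γ(S, V)] Q) := subsingleton_of_forall_eq 0 fun z => by
      obtain ⟨z, rfl⟩ := LinearMap.baseChange_surjective Γ(Spec K, ⊤) (Submodule.mkQ_surjective (LinearMap.range φ)) z
      obtain ⟨m, hm⟩ := hEb.2 (LinearMap.liftBaseChange Γ(Spec K, ⊤)
        (FBC.locLin (S.fromSpecResidueField s) (τ₀ f (Coh.structureModule X) (hsq s)) hle) z)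
      obtain ⟨r, rfl⟩ := (ConcreteCategory.bijective_of_isIso (f.fiberToSpecResidueField s).appTop).2 m
      obtain rfl : z = r ⊗ₜ[Γ(S, V)] pushOne f V := hb.1 (hm.symm.trans (hEr r).symm)
      have : Submodule.mkQ (LinearMap.range φ) (pushOne f V) = 0 :=
        (Submodule.Quotient.mk_eq_zero _).2 ⟨1, one_smul _ _⟩
      rw [LinearMap.baseChange_tmul, this, TensorProduct.tmul_zero]
    exact false_of_nontrivial_of_subsingleton (Γ(Spec K, ⊤) ⊗[Γ(S, V)] Q)
  refine ⟨(injective_iff_map_eq_zero _).2 fun a ha => ?_, fun b => ?_⟩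
  · obtain ⟨σ, hσ⟩ := Module.projective_lifting_property φ LinearMap.id hsurj
    let e : Γ(S, V) := 1 - σ (pushOne f V)
    have he : f.app V e = 0 := by
      have h1 : φ (σ (pushOne f V)) = pushOne f V := LinearMap.congr_fun hσ _
      have h2 : φ e = 0 := by
        rw [map_sub, h1, show φ 1 = pushOne f V from one_smul _ _, sub_self]
      exact (smul_pushOne f e).symm.trans h2
    have hnil : IsNilpotent e := by
      refine (Scheme.isNilpotent_iff_basicOpen_eq_bot_of_isCompact hV.isCompact e).2 (eq_bot_iff.2 fun y hy => ?_)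
      obtain ⟨x, rfl⟩ := surjective_of_appTop f hK y
      have : x ∈ f ⁻¹ᵁ S.basicOpen e := hy
      rw [Scheme.preimage_basicOpen, he, Scheme.basicOpen_zero] at this
      exact this
    obtain ⟨n, hn⟩ := hnil
    have hae : a * e = a := by
      have h1 : a • pushOne f V = 0 := (smul_pushOne f a).trans ha
      have h2 : a * σ (pushOne f V) = 0 := by rw [← smul_eq_mul, ← map_smul, h1, map_zero]
      rw [mul_sub, mul_one, h2, sub_zero]
    have : ∀ n : ℕ, a * e ^ n = a := fun n => by
      induction n with
      | zero => rw [pow_zero, mul_one]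
      | succ n ih => rw [pow_succ, ← mul_assoc, ih, hae]
    rw [← this n, hn, mul_zero]
  · obtain ⟨a, ha⟩ := hsurj (show Γ(M, V) from b)
    exact ⟨a, (smul_pushOne f a).symm.trans ha⟩

/-- `O_S = f_* O_X`, if the fibres have only constants. -/
theorem isIso_app_of_fibres (hK : ∀ s : S, IsIso (f.fiberToSpecResidueField s).appTop) (V : S.Opens) :
    IsIso (f.app V) :=
  H10ZMT.isIso_app_of_affine f (fun _ hW => bijective_app_of_fibres f hK hW) V

include h in
/-- `f_* O = O` passes to affine pairs of a base change. -/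
theorem bijective_app_baseChange (hK : ∀ s : S, IsIso (f.fiberToSpecResidueField s).appTop)
    {V : S.Opens} (hV : IsAffineOpen V) {W : S'.Opens} (hW : IsAffineOpen W) (hle : W ≤ g ⁻¹ᵁ V) :
    Function.Bijective (f'.app W) := by
  haveI : (Coh.structureModule X).IsQuasicoherent := isQuasicoherent_unit
  letI := (g.appLE V W hle).hom.toAlgebra
  letI := Module.compHom Γ((Scheme.Modules.pushforward f').obj ((Scheme.Modules.pullback g').obj (Coh.structureModule X)), W)
    (g.appLE V W hle).hom
  haveI : IsScalarTower Γ(S, V) Γ(S', W)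
      Γ((Scheme.Modules.pushforward f').obj ((Scheme.Modules.pullback g').obj (Coh.structureModule X)), W) :=
    .of_algebraMap_smul fun _ _ => rfl
  obtain ⟨E, hE, hEr⟩ := exists_lift_pushOne f h hle
  obtain ⟨c, hc, hcf⟩ := exists_transpose_app g (H10Coh.isQuasicoherent_pushforward f (Coh.structureModule X))
    (τ₀ f (Coh.structureModule X) h) hV hW hle
  haveI := isIso_bc_zero f (Coh.structureModule X) h H06EGA9.isFP_structureModule (isFlatOver_structure f)
    fun z => exists_epiOn_of_fibres f hK _
  have hb : Function.Bijective (LinearMap.liftBaseChange Γ(S', W)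
      (FBC.locLin g (τ₀ f (Coh.structureModule X) h) hle)) := by
    rw [hcf]
    exact (ConcreteCategory.bijective_of_isIso _).comp hc
  have hφ : Function.Bijective (LinearMap.toSpanSingleton Γ(S, V)
      Γ((Scheme.Modules.pushforward f).obj (Coh.structureModule X), V) (pushOne f V)) := by
    have h0 := bijective_app_of_fibres f hK hV
    exact Eq.mpr (congrArg Function.Bijective (funext fun a => smul_pushOne f a)) h0
  let e := (TensorProduct.AlgebraTensorModule.rid Γ(S, V) Γ(S', W) Γ(S', W)).symm ≪≫ₗ
    TensorProduct.AlgebraTensorModule.congr (LinearEquiv.refl Γ(S', W) Γ(S', W)) (LinearEquiv.ofBijective _ hφ)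
  refine (Function.Bijective.of_comp_iff' hE _).1 ?_
  refine Eq.mpr (congrArg Function.Bijective (funext fun r => ?_)) (hb.comp e.bijective)
  refine (hEr r).symm.trans (congrArg _ ?_)
  show _ = r ⊗ₜ[Γ(S, V)] ((1 : Γ(S, V)) • pushOne f V)
  rw [one_smul]

include h in
/-- The fibres of a base change again have only constants. -/
theorem isIso_appTop_fibre_baseChange (hK : ∀ s : S, IsIso (f.fiberToSpecResidueField s).appTop) (t : S') :
    IsIso (f'.fiberToSpecResidueField t).appTop := by
  have hpb : IsPullback (f'.fiberι t ≫ g') (f'.fiberToSpecResidueField t) f (S'.fromSpecResidueField t ≫ g) :=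
    (IsPullback.of_hasPullback f' (S'.fromSpecResidueField t)).paste_horiz h
  obtain ⟨V, hV, hs, -⟩ := exists_isAffineOpen_mem_and_subset (U := (⊤ : S.Opens)) (x := g t) trivial
  exact (ConcreteCategory.isIso_iff_bijective _).2
    (bijective_app_baseChange f hpb hK hV (isAffineOpen_top _) fun z _ => by
      show g (S'.fromSpecResidueField t z) ∈ V
      rw [Scheme.fromSpecResidueField_apply]
      exact hs)

end Groth.Agent.LeadBC.GenBC
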