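import Groth.Agent.LeadBC.GenBC.Conseq

/-!
# Global forms
-/

set_option autoImplicit false
set_option linter.style.haveILetI false
set_option linter.unusedSectionVars false

universe u

open CategoryTheory CategoryTheory.Limits AlgebraicGeometry Opposite TopologicalSpace

namespace Groth.Agent.LeadBC.GenBC

open Groth.Agent.H10Coh Groth.Agent.H06FlatCx

attribute [local instance 10000] hasSheafifyAb hasWeakSheafifyAb hasExtAb enoughInjAb

/-- A module zero near every point of an open is zero there. -/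
theorem isZero_restrict_of_local {X : Scheme.{u}} (M : X.Modules) {O : X.Opens}
    (h : ∀ y ∈ O, ∃ W : X.Opens, y ∈ W ∧ IsZero (M.restrict W.ι)) : IsZero (M.restrict O.ι) := by
  refine H10Coh.restrict_subsingleton M fun y hy P hyP s => ?_
  obtain ⟨W, hyW, hW⟩ := h y hy
  let Q : X.Opens := W.ι ''ᵁ (W.ι ⁻¹ᵁ P)
  have hQ : Q = W ⊓ P := by
    rw [show Q = W.ι ''ᵁ (W.ι ⁻¹ᵁ P) from rfl, Scheme.Hom.image_preimage_eq_opensRange_inf, Scheme.Opens.opensRange_ι]
  have hQP : Q ≤ P := hQ.le.trans inf_le_right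
  have hzero : ∀ t : Γ(M.restrict W.ι, W.ι ⁻¹ᵁ P), t = 0 := fun t => by
    exact congr($(congrArg (fun k => Scheme.Modules.Hom.app k (W.ι ⁻¹ᵁ P)) ((IsZero.iff_id_eq_zero _).1 hW)) t)
  have h0 : M.presheaf.map (homOfLE hQP).op s = (0 : Γ(M, Q)) := hzero _
  rw [← TopCat.Presheaf.germ_res_apply M.presheaf (homOfLE hQP) y (hQ.ge ⟨hyW, hyP⟩) s, h0, map_zero]

variable {X S : Scheme.{u}} (f : X ⟶ S) [IsProper f] [LocallyOfFinitePresentation f] (F : X.Modules)
  [F.IsQuasicoherent] (hfp : CohB1.IsFP F) (hfl : FlatMod.IsFlatOver f F)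
  [HasInjectiveResolutions X.Modules] {Δ : RDer.DerivedLES (Scheme.Modules.pushforward f)}
  (E : CohCmp.SectCmp f Δ)

include hfp hfl in
/-- The base change map of a fibre is epi exactly where the functor is right exact nearby. -/
theorem epi_fibre_iff (s : S) [HasInjectiveResolutions (f.fiber s).Modules]
    {Δs : RDer.DerivedLES (Scheme.Modules.pushforward (f.fiberToSpecResidueField s))}
    {Es : CohCmp.SectCmp (f.fiberToSpecResidueField s) Δs}
    (Bs : CohCmp.GenBC f (S.fromSpecResidueField s) (f.fiberToSpecResidueField s) (f.fiberι s) (f.fiber_fac s) E Es)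
    (p : ℕ) :
    Epi (Bs.bc p F) ↔ ∃ (W : S.Opens) (hW : IsAffineOpen W), s ∈ W ∧ EpiOn f F hW p := by
  have h : IsPullback (f.fiberι s) (f.fiberToSpecResidueField s) f (S.fromSpecResidueField s) :=
    IsPullback.of_hasPullback f (S.fromSpecResidueField s)
  constructor
  · exact fun he => exists_epiOn_of_epi f F hfp hfl h Bs p s (fun z => Scheme.fromSpecResidueField_apply s z) he
  · rintro ⟨W, hW, hs, he⟩
    haveI := isIso_bc f F hfp hfl h Bs p fun z =>
      ⟨W, hW, by rw [Scheme.fromSpecResidueField_apply s z]; exact hs, he⟩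
    infer_instance

include hfp hfl in
/-- Right exactness in two adjacent degrees gives exactness in the upper one. -/
theorem exists_exact_nhd {s : S} {p : ℕ} {W₁ : S.Opens} {hW₁ : IsAffineOpen W₁} (h₁ : s ∈ W₁)
    (he₁ : EpiOn f F hW₁ (p + 1)) {W₂ : S.Opens} {hW₂ : IsAffineOpen W₂} (h₂ : s ∈ W₂)
    (he₂ : EpiOn f F hW₂ p) :
    ∃ (W : S.Opens) (hW : IsAffineOpen W), s ∈ W ∧ EpiOn f F hW (p + 1) ∧ MonoOn f F hW (p + 1) ∧ EpiOn f F hW p := by
  obtain ⟨W, hW, hs, hle⟩ := exists_isAffineOpen_mem_and_subset (U := W₁ ⊓ W₂) (x := s) ⟨h₁, h₂⟩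
  have e₁ := EpiOn.of_le f F hW₁ hfp hfl he₁ hW (fun y hy => (hle hy).1)
  have e₂ := EpiOn.of_le f F hW₂ hfp hfl he₂ hW (fun y hy => (hle hy).2)
  exact ⟨W, hW, hs, e₁, (monoOn_succ_iff f F hW hfp hfl p).2 e₂, e₂⟩

include hfp hfl in
/-- Flatness of the sections gives left exactness next to right exactness. -/
theorem monoOn_of_flat {p : ℕ} {W : S.Opens} (hW : IsAffineOpen W) (he : EpiOn f F hW p)
    (hflat : Module.Flat Γ(S, W) Γ((Coh.Rpush f p).obj F, W)) : MonoOn f F hW p := by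
  letI := preOver f hW
  obtain ⟨ι, _, U, hU, ⟨m⟩⟩ := exists_chart f hW F hfp hfl
  obtain ⟨e⟩ := exists_secEquiv f F hW hU m p
  haveI := flat_X m.P m.finite_free ((m.N : ℤ) - p - 1)
  exact (monoOn_iff f F hW hU m p).2 ((flat_h0_iff_mono m.P (down_prev _) (down_next _)
    ((epiOn_iff f F hW hU m p).1 he)).2 (Module.Flat.of_linearEquiv e))

include hfp hfl in
theorem isFinLocFree_of_exact_all (p : ℕ)
    (h : ∀ y : S, ∃ (W : S.Opens) (hW : IsAffineOpen W), y ∈ W ∧ EpiOn f F hW p ∧ MonoOn f F hW p) :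
    FlatMod.IsFinLocFree ((Coh.Rpush f p).obj F) :=
  H8Props.FinLocFree.isFinLocFree_of_sections _ (H10Coh.isQuasicoherent_rpush f F p) fun y => by
    obtain ⟨W, hW, hy, he, hm⟩ := h y
    obtain ⟨h1, h2, -⟩ := sections_of_exact f F hW hfp hfl he hm
    exact ⟨W, hW, hy, h1, h2⟩

end Groth.Agent.LeadBC.GenBC
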