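import Groth.Agent.LeadBC.GenBC.Rank
import Groth.Agent.H10Coh.FlatBC.Main
import Groth.Agent.LeadVan.Vanishing

/-!
# An affine base as its own chart
-/

set_option autoImplicit false
set_option linter.style.haveILetI false
set_option linter.unusedSectionVars false

universe u

open CategoryTheory CategoryTheory.Limits AlgebraicGeometry Opposite TopologicalSpace
open scoped TensorProduct

namespace Groth.Agent.LeadBC.GenBC

open Groth.Agent.H10Coh Groth.Agent.H06FlatCx

attribute [local instance 10000] hasSheafifyAb hasWeakSheafifyAb hasExtAb enoughInjAb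

variable {R : Type u} [CommRing R] (X : Scheme.{u}) [X.Over (Spec (CommRingCat.of R))] (F : X.Modules)
  [F.IsQuasicoherent]

set_option maxRecDepth 4000 in
/-- Flat cohomology is flat higher direct image over an affine base. -/
theorem flat_rpush_top_iff [QuasiCompact (X ↘ Spec (CommRingCat.of R))]
    [QuasiSeparated (X ↘ Spec (CommRingCat.of R))] [HasInjectiveResolutions X.Modules] (p : ℕ) :
    Module.Flat Γ(Spec (CommRingCat.of R), ⊤)
        Γ((Coh.Rpush (X ↘ Spec (CommRingCat.of R)) p).obj F, ⊤) ↔ Module.Flat R (Coh.HH X F p) := by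
  let f := X ↘ Spec (CommRingCat.of R)
  let B := Γ(Spec (CommRingCat.of R), ⊤)
  let hV := isAffineOpen_top (Spec (CommRingCat.of R))
  letI := preOver f hV
  letI : Algebra R B := (Scheme.ΓSpecIso (CommRingCat.of R)).inv.hom.toAlgebra
  have hbij : Function.Bijective (algebraMap R B) :=
    ConcreteCategory.bijective_of_isIso (Scheme.ΓSpecIso (CommRingCat.of R)).inv
  let eB : R ≃ₗ[R] B := LinearEquiv.ofBijective (Algebra.linearMap R B) hbij
  haveI : Module.Flat R B := Module.Flat.of_linearEquiv eB.symm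
  haveI : CompactSpace X := QuasiCompact.compactSpace_of_compactSpace f
  haveI : QuasiSeparatedSpace X := quasiSeparatedSpace_of_quasiSeparated f
  have hsq : IsPullback (f ⁻¹ᵁ ⊤).ι ((f ⁻¹ᵁ ⊤).toScheme ↘ Spec (CommRingCat.of B)) f
      (Spec.map (CommRingCat.ofHom (algebraMap R B))) := by
    have h := isPullback_preOver f hV
    rw [IsAffineOpen.fromSpec_top, Scheme.isoSpec_Spec_inv] at h
    exact h
  obtain ⟨e₁⟩ := H10Coh.FBC.nonempty_flat_base_change (A := R) (B := B) (q := (f ⁻¹ᵁ ⊤).ι) F hsq p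
  obtain ⟨e₂, he₂⟩ := exists_rpushEquiv f hV F p
  let e₃ : Coh.HH (f ⁻¹ᵁ ⊤).toScheme ((Scheme.Modules.pullback (f ⁻¹ᵁ ⊤).ι).obj F) p ≃ₗ[B]
      Coh.HH (f ⁻¹ᵁ ⊤).toScheme (F.restrict (f ⁻¹ᵁ ⊤).ι) p :=
    ((HMod B p).mapIso ((Scheme.Modules.restrictFunctorIsoPullback (f ⁻¹ᵁ ⊤).ι).app F).symm).toLinearEquiv
  let e : B ⊗[R] Coh.HH X F p ≃ₗ[B] Γ((Coh.Rpush f p).obj F, ⊤) := e₁ ≪≫ₗ e₃ ≪≫ₗ { e₂ with map_smul' := he₂ }
  constructor
  · intro h
    haveI : Module.Flat B (B ⊗[R] Coh.HH X F p) := Module.Flat.of_linearEquiv e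
    haveI : Module.Flat R (B ⊗[R] Coh.HH X F p) := Module.Flat.trans R B _
    exact Module.Flat.of_linearEquiv ((TensorProduct.lid R (Coh.HH X F p)).symm ≪≫ₗ
      TensorProduct.congr eB (LinearEquiv.refl R _))
  · intro h
    exact Module.Flat.of_linearEquiv e.symm

variable {A : Type u} [CommRing A] [IsDomain A]

/-- Over a domain, `H` is torsion free iff the cokernel is, the following term being torsion free. -/
theorem isTorsionFree_h0_iff {L P Q : ModuleCat.{u} A} (d₁ : L ⟶ P) (d₂ : P ⟶ Q) (h : d₂.hom ∘ₗ d₁.hom = 0)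
    [Module.IsTorsionFree A Q] :
    Module.IsTorsionFree A (LinearMap.ker d₂.hom ⧸ LinearMap.range (toKer h)) ↔
      Module.IsTorsionFree A (P ⧸ LinearMap.range d₁.hom) := by
  simp only [Module.isTorsionFree_iff_smul_eq_zero]
  constructor
  · intro H a x hax
    obtain ⟨y, rfl⟩ := Submodule.mkQ_surjective _ x
    by_cases ha : a = 0
    · exact Or.inl ha
    refine Or.inr ?_
    obtain ⟨l, hl⟩ : a • y ∈ LinearMap.range d₁.hom := (Submodule.Quotient.mk_eq_zero _).1 hax
    have hy : y ∈ LinearMap.ker d₂.hom := by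
      have h0 : a • d₂.hom y = 0 := by rw [← map_smul, ← hl]; exact LinearMap.congr_fun h l
      exact (Module.isTorsionFree_iff_smul_eq_zero.1 ‹_› _ _ h0).resolve_left ha
    have h1 : a • (LinearMap.range (toKer h)).mkQ ⟨y, hy⟩ = 0 :=
      (Submodule.Quotient.mk_eq_zero _).2 ⟨l, Subtype.ext hl⟩
    obtain ⟨l', hl'⟩ := (Submodule.Quotient.mk_eq_zero _).1 ((H _ _ h1).resolve_left ha)
    exact (Submodule.Quotient.mk_eq_zero _).2 ⟨l', congrArg Subtype.val hl'⟩
  · intro H a x hax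
    obtain ⟨⟨y, hy⟩, rfl⟩ := Submodule.mkQ_surjective _ x
    by_cases ha : a = 0
    · exact Or.inl ha
    refine Or.inr ?_
    obtain ⟨l, hl⟩ := (Submodule.Quotient.mk_eq_zero _).1 hax
    have h1 : a • (LinearMap.range d₁.hom).mkQ y = 0 :=
      (Submodule.Quotient.mk_eq_zero _).2 ⟨l, congrArg Subtype.val hl⟩
    obtain ⟨l', hl'⟩ := (Submodule.Quotient.mk_eq_zero _).1 ((H _ _ h1).resolve_left ha)
    exact (Submodule.Quotient.mk_eq_zero _).2 ⟨l', Subtype.ext hl'⟩

end Groth.Agent.LeadBC.GenBC
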