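import Groth.Agent.LeadBC.GenBC.Eps
import Groth.Agent.H10Coh.HigherDirect2

/-!
# `ε` is bijective over affine opens
-/

set_option autoImplicit false
set_option linter.style.haveILetI false
set_option linter.unusedSectionVars false

noncomputable section

universe u

open CategoryTheory CategoryTheory.Limits AlgebraicGeometry Opposite TopologicalSpace Abelian

namespace Groth.Agent.LeadBC.GenBC

open Groth.Agent.H10Coh

attribute [local instance 10000] hasSheafifyAb hasWeakSheafifyAb hasExtAb enoughInjAb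
attribute [local instance] enoughInjMod

variable {X Y : Scheme.{u}}

theorem app_bijective_of_isIso {M N : Y.Modules} (φ : M ⟶ N) [IsIso φ] (V : Y.Opens) :
    Function.Bijective (φ.app V) :=
  ⟨fun a b h => by
      have e := congr($(congrArg (fun k => Scheme.Modules.Hom.app k V) (IsIso.hom_inv_id φ)) a)
      have e' := congr($(congrArg (fun k => Scheme.Modules.Hom.app k V) (IsIso.hom_inv_id φ)) b)
      exact e.symm.trans ((congrArg ((inv φ).app V) h).trans e'),
    fun y => ⟨(inv φ).app V y, congr($(congrArg (fun k => Scheme.Modules.Hom.app k V) (IsIso.inv_hom_id φ)) y)⟩⟩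

variable (f : X ⟶ Y) [HasInjectiveResolutions X.Modules] {Δ : RDer.DerivedLES (Scheme.Modules.pushforward f)}
  (E : CohCmp.SectCmp f Δ)

theorem isIso_toR0 (M : X.Modules) : IsIso ((Scheme.Modules.pushforward f).toRightDerivedZero.app M) := by
  have : (Scheme.Modules.pushforward f).IsRightAdjoint :=
    (Scheme.Modules.pullbackPushforwardAdjunction f).isRightAdjoint
  have : PreservesFiniteLimits (Scheme.Modules.pushforward f) := inferInstance
  infer_instance

theorem ε_zero_bijective (V : Y.Opens) (F : X.Modules) : Function.Bijective (E.ε V F 0) := by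
  haveI := isIso_toR0 f F
  have e : ⇑(E.ε V F 0) = (((Scheme.Modules.pushforward f).toRightDerivedZero.app F).app V) ∘
      (CohPull.sectH0 F (f ⁻¹ᵁ V)).symm := funext fun x => by
    obtain ⟨s, rfl⟩ := (CohPull.sectH0 F (f ⁻¹ᵁ V)).surjective x
    rw [E.zero, Function.comp_apply, AddEquiv.symm_apply_apply]
  rw [e]
  exact (app_bijective_of_isIso _ V).comp (CohPull.sectH0 F (f ⁻¹ᵁ V)).symm.bijective

theorem isIso_δ_succ (F : X.Modules) (n : ℕ) :
    IsIso (Δ.δ (injSeq F) (injSeq_shortExact F) (n + 1) (n + 2) rfl) := by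
  have hz : ∀ m, IsZero (((Scheme.Modules.pushforward f).rightDerived (m + 1)).obj (injSeq F).X₂) :=
    fun m => Functor.isZero_rightDerived_obj_injective_succ (Scheme.Modules.pushforward f) m (injSeq F).X₂
  haveI := (Δ.exact₃ (injSeq F) (injSeq_shortExact F) (n + 1) (n + 2) rfl).mono_g ((hz n).eq_of_src _ _)
  haveI := (Δ.exact₁ (injSeq F) (injSeq_shortExact F) (n + 1) (n + 2) rfl).epi_f ((hz (n + 1)).eq_of_tgt _ _)
  exact isIso_of_mono_of_epi _

/-- The dimension shift. -/
theorem ε_bijective_succ (V : Y.Opens) (F : X.Modules) (n : ℕ)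
    (h : Function.Bijective (E.ε V (injSeq F).X₃ (n + 1))) : Function.Bijective (E.ε V F (n + 2)) := by
  have hS := injSeq_shortExact F
  let U := f ⁻¹ᵁ V
  have hA := shortExact_toAbOn hS U
  haveI := isIso_δ_succ f (Δ := Δ) F n
  let δ := Δ.δ (injSeq F) hS (n + 1) (n + 2) rfl
  have hc : ∀ q, E.ε V F (n + 2) (CohCmp.extδ hA (n + 1) q) = δ.app V (E.ε V (injSeq F).X₃ (n + 1) q) :=
    fun q => E.delta V (injSeq F) hS hA (n + 1) q
  refine ⟨(injective_iff_map_eq_zero _).2 fun x hx => ?_, fun y => ?_⟩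
  · obtain ⟨q, rfl⟩ := exists_lift F U (n + 1) x
    rw [hc] at hx
    have : E.ε V (injSeq F).X₃ (n + 1) q = 0 :=
      (app_bijective_of_isIso δ V).1 (hx.trans (map_zero _).symm)
    rw [h.1 (this.trans (map_zero _).symm)]
    exact map_zero _
  · obtain ⟨z, rfl⟩ := (app_bijective_of_isIso δ V).2 y
    obtain ⟨q, rfl⟩ := h.2 z
    exact ⟨_, hc q⟩

theorem exists_θ (M : X.Modules) (n : ℕ) :
    ∃ θ : hdir f (MRes.inj M) n ⟶ (Coh.Rpush f 1).obj (mZ M n), IsIso θ ∧
      ∀ (V : Y.Opens) (z : Γ((injSeq (mZ M n)).X₃, f ⁻¹ᵁ V)),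
        E.ε V (mZ M n) 1 (CohCmp.extδ (shortExact_toAbOn (injSeq_shortExact (mZ M n)) (f ⁻¹ᵁ V)) 0
          (CohPull.sectH0 (injSeq (mZ M n)).X₃ (f ⁻¹ᵁ V) z)) = θ.app V (piA f (MRes.inj M) n V z) := by
  let R := MRes.inj M
  let S := injSeq (mZ M n)
  have hS : S.ShortExact := injSeq_shortExact _
  let F := Scheme.Modules.pushforward f
  let η := F.toRightDerivedZero
  let δ := Δ.δ S hS 0 1 rfl
  let c : (Coh.push f).obj (R.Z (n + 1)) ⟶ (Coh.Rpush f 1).obj (mZ M n) := η.app S.X₃ ≫ δ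
  haveI : IsIso (η.app S.X₂) := isIso_toR0 f S.X₂
  haveI : IsIso (η.app S.X₃) := isIso_toR0 f S.X₃
  have hepiδ : Epi δ := (Δ.exact₁ S hS 0 1 rfl).epi_f
    ((Functor.isZero_rightDerived_obj_injective_succ F 0 S.X₂).eq_of_tgt _ _)
  have w : (Coh.push f).map (R.p n) ≫ c = 0 := by
    show F.map S.g ≫ η.app S.X₃ ≫ δ = 0
    rw [← Category.assoc, η.naturality S.g, Category.assoc, Δ.comp_δ S hS 0 1 rfl, comp_zero]
  have hex : (ShortComplex.mk ((Coh.push f).map (R.p n)) c w).Exact := by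
    refine (ShortComplex.exact_iff_of_iso ?_).2 (Δ.exact₃ S hS 0 1 rfl)
    exact ShortComplex.isoMk (@asIso _ _ _ _ (η.app S.X₂) (isIso_toR0 f S.X₂))
      (@asIso _ _ _ _ (η.app S.X₃) (isIso_toR0 f S.X₃)) (Iso.refl _)
      (η.naturality S.g).symm (Category.comp_id _).symm
  haveI : Epi c :=
    @epi_comp _ _ _ _ _ (η.app S.X₃) (@IsIso.epi_of_iso _ _ _ _ _ (isIso_toR0 f S.X₃)) δ hepiδ
  haveI : Epi (ShortComplex.mk ((Coh.push f).map (R.p n)) c w).g := inferInstanceAs (Epi c)
  let θ := cokernel.desc ((Coh.push f).map (R.p n)) c w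
  haveI hθ : IsIso θ := by
    have := (cokernelIsCokernel ((Coh.push f).map (R.p n))).coconePointUniqueUpToIso hex.gIsCokernel
    have e : θ = ((cokernelIsCokernel ((Coh.push f).map (R.p n))).coconePointUniqueUpToIso hex.gIsCokernel).hom := by
      refine coequalizer.hom_ext ?_
      rw [cokernel.π_desc]
      exact ((cokernelIsCokernel ((Coh.push f).map (R.p n))).comp_coconePointUniqueUpToIso_hom hex.gIsCokernel
        WalkingParallelPair.one).symm
    rw [e]
    infer_instance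
  refine ⟨θ, hθ, fun V z => ?_⟩
  refine Eq.trans ?_ congr($(congrArg (fun k => Scheme.Modules.Hom.app k V) (cokernel.π_desc _ c w)) z).symm
  exact (E.delta V S hS (shortExact_toAbOn hS _) 0 _).trans (congrArg _ (E.zero V S.X₃ z))

theorem extδ_sectH0_eq_zero (M : X.Modules) (n : ℕ) (U : X.Opens) (z : Γ((injSeq (mZ M n)).X₃, U))
    (h : Bd (MRes.inj M) (n + 1) (show Γ((MRes.inj M).Z (n + 1), U) from z)) :
    CohCmp.extδ (shortExact_toAbOn (injSeq_shortExact (mZ M n)) U) 0 (CohPull.sectH0 (injSeq (mZ M n)).X₃ U z) = 0 := by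
  obtain ⟨d, hd⟩ := h
  let S := injSeq (mZ M n)
  have hA := shortExact_toAbOn (injSeq_shortExact (mZ M n)) U
  have hq : CohPull.sectH0 S.X₃ U z = CohPull.mapH ((Scheme.Modules.restrictFunctor U.ι).map S.g) 0
      (CohPull.sectH0 S.X₂ U d) := by
    apply (Sheaf.H.equiv₀ (sh (S.X₃.restrict U.ι)) (isTerminalTop : IsTerminal (⊤ : U.toScheme.Opens))).injective
    refine ((AddEquiv.apply_symm_apply _ _).trans ?_)
    refine Eq.trans ?_ (Sheaf.H.equiv₀_naturality (isTerminalTop : IsTerminal (⊤ : U.toScheme.Opens)) _ _)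
    refine Eq.trans ?_ (congrArg _ (AddEquiv.apply_symm_apply _ _)).symm
    exact (congrArg _ hd.symm).trans (app_rs S.g _ d).symm
  rw [hq]
  refine (Ext.comp_assoc_of_second_deg_zero _ _ hA.extClass (rfl : 0 + 1 = 1)).trans ?_
  exact (congrArg (fun z => Ext.comp (CohPull.sectH0 S.X₂ U d) z (rfl : 0 + 1 = 1)) hA.comp_extClass).trans
    (Ext.comp_zero _ _ _ _ rfl)

variable [QuasiCompact f] [QuasiSeparated f]

/-- The case of degree one along the resolution. -/
theorem ε_bijective_one {V : Y.Opens} (hV : IsAffineOpen V) (M : X.Modules) [M.IsQuasicoherent] (n : ℕ) :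
    Function.Bijective (E.ε V (mZ M n) 1) := by
  haveI : ((MRes.inj M).Z 0).IsQuasicoherent := ‹M.IsQuasicoherent›
  obtain ⟨θ, hθ, hc⟩ := exists_θ f E M n
  haveI := hθ
  refine ⟨(injective_iff_map_eq_zero _).2 fun x hx => ?_, fun y => ?_⟩
  · obtain ⟨q, rfl⟩ := exists_lift (mZ M n) (f ⁻¹ᵁ V) 0 x
    obtain ⟨z, rfl⟩ := (CohPull.sectH0 _ (f ⁻¹ᵁ V)).surjective q
    have h0 : piA f (MRes.inj M) n V z = 0 :=
      (app_bijective_of_isIso θ V).1 (((hc V z).symm.trans hx).trans (map_zero _).symm)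
    exact extδ_sectH0_eq_zero M n _ z (Bd_of_piA_eq_zero f (MRes.inj M) n hV z h0)
  · obtain ⟨t, rfl⟩ := (app_bijective_of_isIso θ V).2 y
    obtain ⟨z, rfl⟩ := piA_surjective f (MRes.inj M) n hV t
    exact ⟨_, hc V z⟩

theorem ε_bijective {V : Y.Opens} (hV : IsAffineOpen V) (M : X.Modules) [M.IsQuasicoherent] (p : ℕ) :
    Function.Bijective (E.ε V M p) := by
  cases p with
  | zero => exact ε_zero_bijective f E V M
  | succ n =>
    suffices h : ∀ j k, Function.Bijective (E.ε V (mZ M k) (j + 1)) from h n 0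
    intro j
    induction j with
    | zero => exact fun k => ε_bijective_one f E hV M k
    | succ j ih => exact fun k => ε_bijective_succ f E V (mZ M k) j (ih (k + 1))

end Groth.Agent.LeadBC.GenBC
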