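import Groth.Agent.LeadBC.GenBC.PullMod
import Groth.Agent.H10Coh.HdirCoh
import Groth.Prelude.Def_CohCmp

/-!
# The comparison maps `ε`: restriction, linearity
-/

set_option autoImplicit false
set_option linter.style.haveILetI false
set_option linter.unusedSectionVars false

noncomputable section

universe u

open CategoryTheory CategoryTheory.Limits AlgebraicGeometry Opposite TopologicalSpace Abelian

namespace Groth.Agent.LeadBC.GenBC

open Groth.Agent.H10Coh

attribute [local instance 10000] hasSheafifyAb hasWeakSheafifyAb hasExtAb enoughInjAb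
attribute [local instance] enoughInjMod

variable {X Y : Scheme.{u}}

theorem equiv₀_pullMod (g : X ⟶ Y) (M : Y.Modules) (x : Coh.HH Y M 0) :
    Sheaf.H.equiv₀ (sh ((Scheme.Modules.pullback g).obj M)) isTerminalTop (CohPull.pullMod g M 0 x) =
      OmegaSh.pullSect g M ⊤ (Sheaf.H.equiv₀ (sh M) isTerminalTop x) := by
  refine (Sheaf.H.equiv₀_naturality (isTerminalTop : IsTerminal (⊤ : Opens X)) _ _).symm.trans ?_
  refine (congrArg _ (CohPull.equiv₀_pullAb g.base (Coh.toAb M) x)).trans ?_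
  have h : (CohPull.invPushAdj g.base).unit.app (sh M) ≫ (CohTop.push g.base).map (CohPull.theta g M) =
      (shF Y).map ((Scheme.Modules.pullbackPushforwardAdjunction g).unit.app M) :=
    ((CohPull.invPushAdj g.base).homEquiv_unit _ _ _).symm.trans
      (Equiv.apply_symm_apply ((CohPull.invPushAdj g.base).homEquiv _ _) _)
  exact congr($(congrArg (fun k : sh M ⟶ (CohTop.push g.base).obj _ => k.hom.app (op ⊤)) h) _)

theorem pmap₃ (P : (X.Opens)ᵒᵖ ⥤ Ab.{u}) {a b c d : (X.Opens)ᵒᵖ} (f : a ⟶ b) (g : b ⟶ c) (i : c ⟶ d) (k : a ⟶ d)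
    (y : P.obj a) : P.map i (P.map g (P.map f y)) = P.map k y := by
  rw [← ConcreteCategory.comp_apply, ← Functor.map_comp, ← ConcreteCategory.comp_apply, ← Functor.map_comp]
  exact congr(P.map $(Subsingleton.elim _ _) y)

theorem pmap₂ (P : (X.Opens)ᵒᵖ ⥤ Ab.{u}) {a b c : (X.Opens)ᵒᵖ} (f : a ⟶ b) (g : b ⟶ c) (k : a ⟶ c)
    (y : P.obj a) : P.map g (P.map f y) = P.map k y := by
  rw [← ConcreteCategory.comp_apply, ← Functor.map_comp]
  exact congr(P.map $(Subsingleton.elim _ _) y)

section open_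

variable {U U' : X.Opens} (h : U' ≤ U)

/-- `(F|U)` pulled back to `U'` is `F|U'`. -/
def κ : Scheme.Modules.restrictFunctor U.ι ⋙ Scheme.Modules.pullback (X.homOfLE h) ≅
    Scheme.Modules.restrictFunctor U'.ι :=
  Functor.isoWhiskerLeft _ (Scheme.Modules.restrictFunctorIsoPullback (X.homOfLE h)).symm ≪≫
    (Scheme.Modules.restrictFunctorComp (X.homOfLE h) U.ι).symm ≪≫
    Scheme.Modules.restrictFunctorCongr (X.homOfLE_ι h)

/-- Restriction of classes. -/
def rH (F : X.Modules) (p : ℕ) : Coh.HHon X F U p →+ Coh.HHon X F U' p :=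
  (CohPull.mapH ((κ h).hom.app F) p).comp (CohPull.pullMod (X.homOfLE h) (F.restrict U.ι) p)

theorem iso_pullSect {Z W : Scheme.{u}} (j : Z ⟶ W) [IsOpenImmersion j] (M : W.Modules) (y : Γ(M, ⊤)) :
    ((Scheme.Modules.restrictFunctorIsoPullback j).inv.app M).app ⊤ (OmegaSh.pullSect j M ⊤ y) =
      (show Γ(M.restrict j, j ⁻¹ᵁ ⊤) from M.presheaf.map (homOfLE (j.image_preimage_le ⊤)).op y) := by
  have hu := Adjunction.unit_leftAdjointUniq_hom_app (Scheme.Modules.restrictAdjunction j)
    (Scheme.Modules.pullbackPushforwardAdjunction j) M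
  have h1 : (Scheme.Modules.pullbackPushforwardAdjunction j).unit.app M ≫
      (Scheme.Modules.pushforward j).map ((Scheme.Modules.restrictFunctorIsoPullback j).inv.app M) =
      (Scheme.Modules.restrictAdjunction j).unit.app M := by
    rw [← hu, Category.assoc, ← Functor.map_comp]
    exact (congrArg (_ ≫ ·) ((congrArg (Scheme.Modules.pushforward j).map
      ((Scheme.Modules.restrictFunctorIsoPullback j).hom_inv_id_app _)).trans
        (CategoryTheory.Functor.map_id _ _))).trans (Category.comp_id _)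
  exact congr($(congrArg (fun k => Scheme.Modules.Hom.app k ⊤) h1) y)

theorem κ_tail (F : X.Modules) (h' : U'.ι ''ᵁ ⊤ ≤ U.ι ''ᵁ (X.homOfLE h ''ᵁ ⊤)) (z : Γ(F, U.ι ''ᵁ (X.homOfLE h ''ᵁ ⊤))) :
    ((Scheme.Modules.restrictFunctorCongr (X.homOfLE_ι h)).hom.app F).app ⊤
      (((Scheme.Modules.restrictFunctorComp (X.homOfLE h) U.ι).inv.app F).app ⊤ z) =
      F.presheaf.map (homOfLE h').op z := by
  rw [Scheme.Modules.restrictFunctorCongr_hom_app_app, Scheme.Modules.restrictFunctorComp_inv_app_app]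
  exact pmap₂ F.presheaf _ _ _ z

theorem κ_pullSect (F : X.Modules) (y : Γ(F, U.ι ''ᵁ ⊤)) :
    ((κ h).hom.app F).app ⊤
        (OmegaSh.pullSect (X.homOfLE h) (F.restrict U.ι) ⊤ (show Γ(F.restrict U.ι, ⊤) from y)) =
      (show Γ(F.restrict U'.ι, ⊤) from F.presheaf.map (homOfLE (by
        rw [Scheme.Opens.ι_image_top, Scheme.Opens.ι_image_top]; exact h : U'.ι ''ᵁ ⊤ ≤ U.ι ''ᵁ ⊤)).op y) := by
  refine (congrArg (fun z => ((Scheme.Modules.restrictFunctorCongr (X.homOfLE_ι h)).hom.app F).app ⊤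
    (((Scheme.Modules.restrictFunctorComp (X.homOfLE h) U.ι).inv.app F).app ⊤ z))
    (iso_pullSect (X.homOfLE h) (F.restrict U.ι) y)).trans ?_
  refine (κ_tail h F (by rw [Scheme.Opens.ι_image_top]; exact (Scheme.Hom.comp_image (X.homOfLE h) U.ι ⊤).symm ▸ (by simp [X.homOfLE_ι h])) _).trans ?_
  rw [Scheme.Modules.restrict_map]
  exact pmap₂ F.presheaf _ _ _ y

theorem rH_sectH0 (F : X.Modules) (s : Γ(F, U)) :
    rH h F 0 (CohPull.sectH0 F U s) = CohPull.sectH0 F U' (F.presheaf.map (homOfLE h).op s) := by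
  apply (Sheaf.H.equiv₀ (sh (F.restrict U'.ι)) (isTerminalTop : IsTerminal (⊤ : U'.toScheme.Opens))).injective
  refine Eq.trans ?_ (AddEquiv.apply_symm_apply _ _).symm
  refine (Sheaf.H.equiv₀_naturality (isTerminalTop : IsTerminal (⊤ : U'.toScheme.Opens)) _ _).symm.trans ?_
  refine (congrArg _ (equiv₀_pullMod (X.homOfLE h) (F.restrict U.ι) _)).trans ?_
  refine (congrArg (fun z => ((κ h).hom.app F).app ⊤ (OmegaSh.pullSect (X.homOfLE h) (F.restrict U.ι) ⊤ z))
    (AddEquiv.apply_symm_apply _ _)).trans ?_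
  refine (κ_pullSect h F _).trans ?_
  show F.presheaf.map _ (F.presheaf.map _ s) = F.presheaf.map _ (F.presheaf.map _ s)
  rw [← ConcreteCategory.comp_apply, ← Functor.map_comp, ← ConcreteCategory.comp_apply, ← Functor.map_comp]
  exact congr(F.presheaf.map $(Subsingleton.elim _ _) s)

theorem shortExact_toAbOn {S : ShortComplex X.Modules} (hS : S.ShortExact) (U : X.Opens) :
    (S.map (CohCmp.toAbOn X U)).ShortExact :=
  shortExact_sh (hS.map_of_exact (Scheme.Modules.restrictFunctor U.ι))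

theorem rH_extδ {S : ShortComplex X.Modules} (hS : S.ShortExact) (p : ℕ) (x : Coh.HHon X S.X₃ U p) :
    rH h S.X₁ (p + 1) (CohCmp.extδ (shortExact_toAbOn hS U) p x) =
      CohCmp.extδ (shortExact_toAbOn hS U') p (rH h S.X₃ p x) := by
  let T := S.map (Scheme.Modules.restrictFunctor U.ι)
  have e : T.map (Scheme.Modules.pullback (X.homOfLE h)) ≅ S.map (Scheme.Modules.restrictFunctor U'.ι) :=
    S.mapNatIso (κ h)
  have hA' : ((T.map (Scheme.Modules.pullback (X.homOfLE h))).map (shF U'.toScheme)).ShortExact :=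
    shortExact_sh (ShortComplex.shortExact_of_iso (S.mapNatIso (κ h)).symm
      (hS.map_of_exact (Scheme.Modules.restrictFunctor U'.ι)))
  have h1 := pullMod_extClass (X.homOfLE h) (S := T) (shortExact_toAbOn hS U) hA' p x
  let φ : (T.map (Scheme.Modules.pullback (X.homOfLE h))).map (shF U'.toScheme) ⟶ S.map (CohCmp.toAbOn X U') :=
    (shF U'.toScheme).mapShortComplex.map (S.mapNatTrans (κ h).hom)
  have hn := ShortComplex.ShortExact.extClass_naturality hA' (shortExact_toAbOn hS U') φ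
  refine (congrArg (CohPull.mapH ((κ h).hom.app S.X₁) (p + 1)) h1).trans ?_
  refine (Ext.comp_assoc _ _ _ rfl (add_zero 1) (show p + 1 + 0 = p + 1 by omega)).trans ?_
  refine (congrArg (fun z => Ext.comp (CohPull.pullMod (X.homOfLE h) (S.X₃.restrict U.ι) p x) z
    (rfl : p + 1 = p + 1)) hn).trans ?_
  exact (Ext.comp_assoc _ _ _ (add_zero p) (zero_add 1) (show p + 0 + 1 = p + 1 by omega)).symm

end open_

variable (f : X ⟶ Y) [HasInjectiveResolutions X.Modules] {Δ : RDer.DerivedLES (Scheme.Modules.pushforward f)}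
  (E : CohCmp.SectCmp f Δ)

theorem subsingleton_HHon_injective (J : X.Modules) [Injective J] (U : X.Opens) (p : ℕ) :
    Subsingleton (Coh.HHon X J U (p + 1)) :=
  subsingleton_H_of_flasque (F := sh (J.restrict U.ι))
    (flasque_Rf U.ι.isOpenEmbedding (flasque_sh_of_injective J)) p

theorem exists_lift (F : X.Modules) (U : X.Opens) (p : ℕ) (x : Coh.HHon X F U (p + 1)) :
    ∃ q : Coh.HHon X (injSeq F).X₃ U p, CohCmp.extδ (shortExact_toAbOn (injSeq_shortExact F) U) p q = x := by
  exact Ext.covariant_sequence_exact₁ _ (shortExact_toAbOn (injSeq_shortExact F) U) x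
    ((subsingleton_HHon_injective (injSeq F).X₂ U p).elim _ _) rfl

/-- `ε` commutes with restriction. -/
theorem ε_res {V W : Y.Opens} (hWV : W ≤ V) : ∀ (p : ℕ) (F : X.Modules) (x : Coh.HHon X F (f ⁻¹ᵁ V) p),
    ((Coh.Rpush f p).obj F).presheaf.map (homOfLE hWV).op (E.ε V F p x) =
      E.ε W F p (rH (f.preimage_mono hWV) F p x) := by
  intro p
  induction p with
  | zero =>
    intro F x
    obtain ⟨s, rfl⟩ := (CohPull.sectH0 F (f ⁻¹ᵁ V)).surjective x
    rw [rH_sectH0, E.zero, E.zero]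
    exact (app_rs ((Scheme.Modules.pushforward f).toRightDerivedZero.app F) hWV s).symm
  | succ n ih =>
    intro F x
    obtain ⟨q, rfl⟩ := exists_lift F (f ⁻¹ᵁ V) n x
    refine (congrArg _ (E.delta V (injSeq F) (injSeq_shortExact F) _ n q)).trans ?_
    refine Eq.trans ?_ (congrArg (E.ε W F (n + 1)) (rH_extδ (f.preimage_mono hWV) (injSeq_shortExact F) n q)).symm
    refine Eq.trans ?_ (E.delta W (injSeq F) (injSeq_shortExact F) _ n _).symm
    refine (app_rs (Δ.δ (injSeq F) (injSeq_shortExact F) n (n + 1) rfl) hWV _).symm.trans ?_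
    exact congrArg _ (ih _ q)

theorem smulAb_natural {M N : X.Modules} (φ : M ⟶ N) (r : Coh.Γtop X) :
    Coh.smulAb M r ≫ (shF X).map φ = (shF X).map φ ≫ Coh.smulAb N r := by
  ext U m
  exact φ.app_smul (Coh.resTop X U r) m

/-- `ε` is linear over the functions on the open of the base. -/
theorem ε_smul (V : Y.Opens) (a : Γ(Y, V)) : ∀ (p : ℕ) (F : X.Modules) (x : Coh.HHon X F (f ⁻¹ᵁ V) p),
    E.ε V F p (Sheaf.H.map (Coh.smulAb (F.restrict (f ⁻¹ᵁ V).ι) (preΓ f V a)) p x) = a • E.ε V F p x := by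
  intro p
  induction p with
  | zero =>
    intro F x
    let U := f ⁻¹ᵁ V
    obtain ⟨s, rfl⟩ := (CohPull.sectH0 F U).surjective x
    have key : Sheaf.H.map (Coh.smulAb (F.restrict U.ι) (preΓ f V a)) 0 (CohPull.sectH0 F U s) =
        CohPull.sectH0 F U (f.app V a • s) := by
      apply (Sheaf.H.equiv₀ (sh (F.restrict U.ι)) (isTerminalTop : IsTerminal (⊤ : U.toScheme.Opens))).injective
      refine Eq.trans ?_ (AddEquiv.apply_symm_apply _ _).symm
      refine (Sheaf.H.equiv₀_naturality (isTerminalTop : IsTerminal (⊤ : U.toScheme.Opens)) _ _).symm.trans ?_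
      refine (congrArg _ (AddEquiv.apply_symm_apply _ _)).trans ?_
      have htop : U.ι ''ᵁ ⊤ = U := U.ι_image_top
      have e := restrict_smul_pow U F (f.app V a) ⊤ htop.le 1 (rs F htop.le s)
      simp only [pow_one] at e
      exact e.trans (Scheme.Modules.map_smul F (homOfLE htop.le) _ _).symm
    rw [key, E.zero, E.zero]
    exact Scheme.Modules.Hom.app_smul ((Scheme.Modules.pushforward f).toRightDerivedZero.app F) a s
  | succ n ih =>
    intro F x
    let U := f ⁻¹ᵁ V
    obtain ⟨q, rfl⟩ := exists_lift F U n x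
    let r := preΓ f V a
    let φ : (injSeq F).map (CohCmp.toAbOn X U) ⟶ (injSeq F).map (CohCmp.toAbOn X U) :=
      { τ₁ := Coh.smulAb ((injSeq F).X₁.restrict U.ι) r
        τ₂ := Coh.smulAb ((injSeq F).X₂.restrict U.ι) r
        τ₃ := Coh.smulAb ((injSeq F).X₃.restrict U.ι) r
        comm₁₂ := smulAb_natural ((Scheme.Modules.restrictFunctor U.ι).map (injSeq F).f) r
        comm₂₃ := smulAb_natural ((Scheme.Modules.restrictFunctor U.ι).map (injSeq F).g) r }
    have hA := shortExact_toAbOn (injSeq_shortExact F) U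
    have hn := ShortComplex.ShortExact.extClass_naturality hA hA φ
    have key : Sheaf.H.map (Coh.smulAb (F.restrict U.ι) r) (n + 1) (CohCmp.extδ hA n q) =
        CohCmp.extδ hA n (Sheaf.H.map (Coh.smulAb ((injSeq F).X₃.restrict U.ι) r) n q) := by
      refine (Ext.comp_assoc _ _ _ rfl (add_zero 1) (show n + 1 + 0 = n + 1 by omega)).trans ?_
      refine (congrArg (fun z => Ext.comp q z (rfl : n + 1 = n + 1)) hn).trans ?_
      exact (Ext.comp_assoc _ _ _ (add_zero n) (zero_add 1) (show n + 0 + 1 = n + 1 by omega)).symm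
    refine (congrArg (E.ε V F (n + 1)) key).trans ?_
    refine (E.delta V (injSeq F) (injSeq_shortExact F) _ n _).trans ?_
    rw [ih]
    refine (Scheme.Modules.Hom.app_smul (Δ.δ (injSeq F) (injSeq_shortExact F) n (n + 1) rfl) a _).trans ?_
    exact congrArg (a • ·) (E.delta V (injSeq F) (injSeq_shortExact F) _ n _).symm

end Groth.Agent.LeadBC.GenBC
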