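import Groth.Agent.LeadBC.GenBC.Point
import Groth.Agent.LeadBC.GenBC.FlatPull
import Groth.Agent.H8Props.FlatLocus.Sections
import Groth.Agent.H06EGA9.FlatFibreBC
import Groth.Agent.H29Fitt.FP
import Groth.Agent.H29Blow.QCohLoc
import Groth.Agent.H10Coh.SheafHom.EndInvertible

/-!
# Base change of flat higher direct images
-/

set_option autoImplicit false
set_option linter.style.haveILetI false
set_option linter.unusedSectionVars false

universe u

open CategoryTheory CategoryTheory.Limits AlgebraicGeometry Opposite TopologicalSpace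
open scoped TensorProduct

namespace Groth.Agent.LeadBC.GenBC

open Groth.Agent.H10Coh Groth.Agent.LeadBC

attribute [local instance 10000] hasSheafifyAb hasWeakSheafifyAb hasExtAb enoughInjAb

/-- A morphism of quasi-coherent modules bijective over an affine cover is an isomorphism. -/
theorem isIso_of_bijective_affine_cover {X : Scheme.{u}} {M N : X.Modules} (ψ : M ⟶ N)
    (hM : Coh.IsQCoh M) (hN : Coh.IsQCoh N) (B : X.Opens → Prop)
    (hcov : ∀ x : X, ∃ U, B U ∧ IsAffineOpen U ∧ x ∈ U)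
    (h : ∀ U, B U → IsAffineOpen U → Function.Bijective (ψ.app U)) : IsIso ψ := by
  haveI : N.IsQuasicoherent := hN
  haveI : M.IsQuasicoherent := hM
  refine SheafHom.isIso_of_bijective_basis ψ
    (fun D => ∃ (U : X.Opens) (t : Γ(X, U)), B U ∧ IsAffineOpen U ∧ D = X.basicOpen t) (fun W x hx => ?_) ?_
  · obtain ⟨U, hBU, hU, hxU⟩ := hcov x
    obtain ⟨t, hle, hxt⟩ := hU.exists_basicOpen_le (V := W) ⟨x, hx⟩ hxU
    exact ⟨_, ⟨U, t, hBU, hU, rfl⟩, hxt, hle⟩
  rintro _ ⟨U, t, hBU, hU, rfl⟩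
  have hb := h U hBU hU
  have hunit : ∀ n : ℕ, IsUnit (X.presheaf.map (homOfLE (X.basicOpen_le t)).op (t ^ n)) := fun n => by
    rw [map_pow]
    exact (RingedSpace.isUnit_res_basicOpen _ t).pow n
  refine ⟨(injective_iff_map_eq_zero _).2 fun z hz => ?_, fun w => ?_⟩
  · obtain ⟨n, m, hm⟩ := exists_pow_smul_eq_res M hU t z
    have h1 : rs N (X.basicOpen_le t) (ψ.app U m) = 0 := by
      refine ((app_rs ψ (X.basicOpen_le t) m).symm.trans ?_)
      refine (congrArg (ψ.app _) hm).trans ((ψ.app_smul _ _).trans ?_)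
      rw [hz, smul_zero]
    obtain ⟨k, hk⟩ := H29Blow.exists_pow_smul_eq_zero N hN hU t _ h1
    have h2 : t ^ k • m = 0 := hb.1 ((ψ.app_smul _ _).trans (hk.trans (map_zero _).symm))
    have h3 := congrArg (M.presheaf.map (homOfLE (X.basicOpen_le t)).op) h2
    rw [Scheme.Modules.map_smul, map_zero, hm, smul_smul] at h3
    exact ((hunit k).mul (hunit n)).smul_eq_zero.1 h3
  · obtain ⟨n, s, hs⟩ := exists_pow_smul_eq_res N hU t w
    obtain ⟨m, rfl⟩ := hb.2 s
    obtain ⟨a, ha⟩ := (hunit n).exists_left_inv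
    refine ⟨a • rs M (X.basicOpen_le t) m, (ψ.app_smul _ _).trans ?_⟩
    refine (congrArg (a • ·) ((app_rs ψ (X.basicOpen_le t) m).trans hs)).trans ?_
    rw [smul_smul, ha, one_smul]

theorem toGlobal_comp {Z : Scheme.{u}} {A B : Type u} [CommRing A] [CommRing B] (q : Z ⟶ Spec (CommRingCat.of B))
    (φ : A →+* B) (a : A) :
    Coh.toGlobal (q ≫ Spec.map (CommRingCat.ofHom φ)) a = Coh.toGlobal q (φ a) := by
  show (q ≫ Spec.map (CommRingCat.ofHom φ)).appTop ((Scheme.ΓSpecIso (CommRingCat.of A)).inv a) = _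
  rw [Scheme.Hom.comp_appTop]
  exact congrArg q.appTop (ConcreteCategory.congr_hom (Scheme.ΓSpecIso_inv_naturality (CommRingCat.ofHom φ)) a).symm

variable {X Y S : Scheme.{u}} {a : X ⟶ S} {b : Y ⟶ S} {f : X ⟶ Y} (hf : f ≫ b = a)
  {T : S.Opens} (hT : IsAffineOpen T) {V : Y.Opens} (hV : IsAffineOpen V) (hVT : V ≤ b ⁻¹ᵁ T)

include hf hT in
theorem isFlatOver_chart (F : X.Modules) (hF : FlatMod.IsFlatOver a F) :
    letI := preOver f hV
    FlatMod.IsFlatOver (((f ⁻¹ᵁ V).toScheme ↘ Spec (CommRingCat.of Γ(Y, V))) ≫ Spec.map (b.appLE T V hVT))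
      (F.restrict (f ⁻¹ᵁ V).ι) := by
  letI := preOver f hV
  letI := preOver a hT
  let r := ((f ⁻¹ᵁ V).toScheme ↘ Spec (CommRingCat.of Γ(Y, V))) ≫ Spec.map (b.appLE T V hVT)
  let rT := (a ⁻¹ᵁ T).toScheme ↘ Spec (CommRingCat.of Γ(S, T))
  have hle : f ⁻¹ᵁ V ≤ a ⁻¹ᵁ T := by
    rw [← hf, Scheme.Hom.comp_preimage]
    exact f.preimage_mono hVT
  let j := X.homOfLE hle
  have e : j ≫ rT = r := by
    rw [← cancel_mono hT.fromSpec]
    simp only [j, r, rT, Category.assoc]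
    rw [← (isPullback_preOver a hT).w, ← Category.assoc, Scheme.homOfLE_ι,
      hT.SpecMap_appLE_fromSpec b hV hVT, ← Category.assoc _ hV.fromSpec, ← (isPullback_preOver f hV).w,
      Category.assoc, hf]
  intro x
  show FlatMod.IsFlatOverAt r _ x
  rw [← e]
  refine (H06EGA9.isFlatOverAt_congr_iso (j ≫ rT)
    ((Scheme.Modules.pullbackComp j (a ⁻¹ᵁ T).ι).app F ≪≫
      (Scheme.Modules.pullbackCongr (X.homOfLE_ι hle)).app F ≪≫
        ((Scheme.Modules.restrictFunctorIsoPullback (f ⁻¹ᵁ V).ι).app F).symm) x).1 ?_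
  exact (H06Mod.isFlatOverAt_pullback_iff j rT _ x).2
    (H06EGA9.isFlatOverAt_of_isPullback (isPullback_preOver a hT) F _ (hF _))

variable [IsSeparated f] [QuasiCompact f]
  {X' Y' S' : Scheme.{u}} {g : S' ⟶ S} {gY : Y' ⟶ Y} {b' : Y' ⟶ S'} (hY : IsPullback gY b' b g)
  {gX : X' ⟶ X} {f' : X' ⟶ Y'} (hX : IsPullback gX f' f gY)
  {T' : S'.Opens} (hT' : IsAffineOpen T') (hTT : T' ≤ g ⁻¹ᵁ T)
  {W : Y'.Opens} (hWe : W = gY ⁻¹ᵁ V ⊓ b' ⁻¹ᵁ T')

include hY hT hV hVT hT' hTT hWe in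
theorem isAffineOpen_box : IsAffineOpen W := by
  haveI : IsAffine _ := hT
  haveI : IsAffine _ := hT'
  haveI : IsAffine _ := hV
  exact .of_isIso (Scheme.Hom.isPullback_resLE hY hTT hVT hWe).isoPullback.hom

variable [HasInjectiveResolutions X.Modules] [HasInjectiveResolutions X'.Modules]
  [QuasiCompact f'] [QuasiSeparated f']
  {Δ : RDer.DerivedLES (Scheme.Modules.pushforward f)} {Δ' : RDer.DerivedLES (Scheme.Modules.pushforward f')}
  {E : CohCmp.SectCmp f Δ} {E' : CohCmp.SectCmp f' Δ'} (B : CohCmp.GenBC f gY f' gX hX.w E E')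
  (F : X.Modules) [F.IsQuasicoherent]

include hf hT hV hVT hY hT' hTT hWe in
set_option maxRecDepth 4000 in
/-- The base change map is bijective on a box. -/
theorem bijective_bc_box (hF : FlatMod.IsFlatOver a F)
    (hR : ∀ n : ℕ, FlatMod.IsFlatOver b ((Coh.Rpush f n).obj F)) (p : ℕ) :
    Function.Bijective ((B.bc p F).app W) := by
  have hW : IsAffineOpen W := isAffineOpen_box hT hV hVT hY hT' hTT hWe
  have hle : W ≤ gY ⁻¹ᵁ V := hWe.le.trans inf_le_left
  have hle' : W ≤ b' ⁻¹ᵁ T' := hWe.le.trans inf_le_right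
  haveI : IsAffine _ := hT
  haveI : IsAffine _ := hT'
  haveI : IsAffine _ := hV
  let A := Γ(S, T)
  let A' := Γ(S', T')
  letI iB := preOver f hV
  letI iB' := preOver f' hW
  letI := (g.appLE T T' hTT).hom.toAlgebra
  let Z := (f ⁻¹ᵁ V).toScheme
  let Z' := (f' ⁻¹ᵁ W).toScheme
  letI : Z.Over (Spec (CommRingCat.of A)) :=
    ⟨(Z ↘ Spec (CommRingCat.of Γ(Y, V))) ≫ Spec.map (b.appLE T V hVT)⟩
  letI : Z'.Over (Spec (CommRingCat.of A')) :=
    ⟨(Z' ↘ Spec (CommRingCat.of Γ(Y', W))) ≫ Spec.map (b'.appLE T' W hle')⟩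
  have hpo : IsPushout (b.appLE T V hVT) (g.appLE T T' hTT) (gY.appLE V W hle) (b'.appLE T' W hle') :=
    (isIso_pushoutSection_iff hY hTT hVT hWe).mp (isIso_pushoutSection_of_isAffineOpen hY hTT hVT hWe hT hT' hV)
  have hsq : IsPullback (qMap f hX hle) (Z' ↘ Spec (CommRingCat.of A')) (Z ↘ Spec (CommRingCat.of A))
      (Spec.map (CommRingCat.ofHom (algebraMap A A'))) :=
    (isPullback_qMap f hV hX hW hle).paste_vert (isPullback_SpecMap_of_isPushout _ _ _ _ hpo)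
  haveI : IsSeparated (Z ↘ Spec (CommRingCat.of Γ(Y, V))) :=
    MorphismProperty.of_isPullback (isPullback_preOver f hV) ‹IsSeparated f›
  haveI : QuasiCompact (Z ↘ Spec (CommRingCat.of Γ(Y, V))) :=
    MorphismProperty.of_isPullback (isPullback_preOver f hV) ‹QuasiCompact f›
  haveI : IsSeparated (Z ↘ Spec (CommRingCat.of A)) :=
    inferInstanceAs (IsSeparated ((Z ↘ Spec (CommRingCat.of Γ(Y, V))) ≫ Spec.map (b.appLE T V hVT)))
  haveI : QuasiCompact (Z ↘ Spec (CommRingCat.of A)) :=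
    inferInstanceAs (QuasiCompact ((Z ↘ Spec (CommRingCat.of Γ(Y, V))) ≫ Spec.map (b.appLE T V hVT)))
  haveI : (F.restrict (f ⁻¹ᵁ V).ι).IsQuasicoherent :=
    Scheme.Modules.isQuasicoherent_restrictFunctor (f ⁻¹ᵁ V).ι F
  let F' := (Scheme.Modules.pullback gX).obj F
  haveI : F'.IsQuasicoherent := H29Fitt.isQCoh_pullback gX F ‹_›
  have hflat := isFlatOver_chart hf hT hV hVT F hF
  have hHflat : ∀ n : ℕ, Module.Flat A (Coh.HH Z (F.restrict (f ⁻¹ᵁ V).ι) n) := fun n => by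
    letI := Module.compHom Γ((Coh.Rpush f n).obj F, V) (b.appLE T V hVT).hom
    haveI : Module.Flat A Γ((Coh.Rpush f n).obj F, V) :=
      (H8Props.FlatLocus.flat_sections_over_iff b _ (H10Coh.isQuasicoherent_rpush f F n) hT hV hVT).2
        fun y => hR n y.1
    let ε := εLin f E F hV n
    refine Module.Flat.of_linearEquiv
      ({ ε.toAddEquiv with map_smul' := fun r x => ?_ } :
        Coh.HH Z (F.restrict (f ⁻¹ᵁ V).ι) n ≃ₗ[A] Γ((Coh.Rpush f n).obj F, V))
    show ε (Sheaf.H.map (Coh.smulAb _ (Coh.toGlobal (A := A) (Z ↘ Spec (CommRingCat.of A)) r)) n x) =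
      (b.appLE T V hVT).hom r • ε x
    rw [← ε.map_smul]
    exact congrArg ε (congrArg (fun c => Sheaf.H.map (Coh.smulAb (F.restrict (f ⁻¹ᵁ V).ι) c) n x)
      (toGlobal_comp (Z ↘ Spec (CommRingCat.of Γ(Y, V))) (b.appLE T V hVT).hom r))
  obtain ⟨G, hG, hGs⟩ := exists_bijective_pullMod (F.restrict (f ⁻¹ᵁ V).ι) hsq hflat hHflat p
  obtain ⟨Ψ, hΨ⟩ := exists_rH_pullOn f hX hle F
  letI := (gY.appLE V W hle).hom.toAlgebra
  let N := (Coh.Rpush f p).obj F
  let N' := (Coh.Rpush f' p).obj F'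
  letI := Module.compHom Γ(N', W) (gY.appLE V W hle).hom
  haveI : IsScalarTower Γ(Y, V) Γ(Y', W) Γ(N', W) := .of_algebraMap_smul fun _ _ => rfl
  let εV := εLin f E F hV p
  let K : Coh.HH Z' (qF (qMap f hX hle) (F.restrict (f ⁻¹ᵁ V).ι)) p ≃ₗ[Γ(Y', W)] Γ(N', W) :=
    ((HMod Γ(Y', W) p).mapIso Ψ).toLinearEquiv ≪≫ₗ εLin f' E' F' hW p
  let ι' : A' →+* Γ(Y', W) := (b'.appLE T' W hle').hom
  let L := LinearMap.liftBaseChange Γ(Y', W) (FBC.locLin gY (B.φ p F) hle)
  -- generators of the tensor product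
  let u₀ : A' →+ Coh.HH Z (F.restrict (f ⁻¹ᵁ V).ι) p →+ Γ(Y', W) ⊗[Γ(Y, V)] Γ(N, V) :=
    AddMonoidHom.mk' (fun c => AddMonoidHom.mk' (fun x => ι' c ⊗ₜ[Γ(Y, V)] εV x)
      fun x y => by rw [map_add, TensorProduct.tmul_add]) fun c d => AddMonoidHom.ext fun x => by
        show ι' (c + d) ⊗ₜ[Γ(Y, V)] εV x = ι' c ⊗ₜ[Γ(Y, V)] εV x + ι' d ⊗ₜ[Γ(Y, V)] εV x
        rw [map_add, TensorProduct.add_tmul]
  have hsmul : ∀ (r : A) (x : Coh.HH Z (F.restrict (f ⁻¹ᵁ V).ι) p),
      εV (r • x) = (b.appLE T V hVT).hom r • εV x := fun r x => by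
    rw [← εV.map_smul]
    exact congrArg εV (congrArg (fun c => Sheaf.H.map (Coh.smulAb (F.restrict (f ⁻¹ᵁ V).ι) c) p x)
      (toGlobal_comp (Z ↘ Spec (CommRingCat.of Γ(Y, V))) (b.appLE T V hVT).hom r))
  let u : A' ⊗[A] Coh.HH Z (F.restrict (f ⁻¹ᵁ V).ι) p →+ Γ(Y', W) ⊗[Γ(Y, V)] Γ(N, V) :=
    TensorProduct.liftAddHom u₀ fun r c x => by
      show ι' (r • c) ⊗ₜ[Γ(Y, V)] εV x = ι' c ⊗ₜ[Γ(Y, V)] εV (r • x)
      rw [hsmul, ← TensorProduct.smul_tmul]
      refine congrArg (· ⊗ₜ[Γ(Y, V)] εV x) ?_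
      show ι' ((g.appLE T T' hTT).hom r * c) = (gY.appLE V W hle).hom ((b.appLE T V hVT).hom r) * ι' c
      rw [map_mul]
      exact congrArg (· * ι' c) (ConcreteCategory.congr_hom hpo.w r).symm
  have hLu : ∀ z, L (u z) = K (G z) := by
    intro z
    induction z using TensorProduct.induction_on with
    | zero => rw [map_zero, map_zero, map_zero, map_zero]
    | add z₁ z₂ h₁ h₂ => rw [map_add, map_add, map_add, map_add, h₁, h₂]
    | tmul c x =>
      show L (ι' c ⊗ₜ[Γ(Y, V)] εV x) = _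
      rw [hGs, LinearMap.liftBaseChange_tmul]
      have hK : ∀ y : Coh.HH Z' (qF (qMap f hX hle) (F.restrict (f ⁻¹ᵁ V).ι)) p, K (c • y) = ι' c • K y :=
        fun y => by
          rw [← K.map_smul]
          exact congrArg K (congrArg (fun d => Sheaf.H.map (Coh.smulAb (qF (qMap f hX hle) (F.restrict (f ⁻¹ᵁ V).ι)) d) p y)
            (toGlobal_comp (Z' ↘ Spec (CommRingCat.of Γ(Y', W))) (b'.appLE T' W hle').hom c))
      refine Eq.trans ?_ (hK _).symm
      refine congrArg (ι' c • ·) ?_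
      show rs N' hle ((B.φ p F).app V (E.ε V F p x)) =
        E'.ε W F' p (CohPull.mapH Ψ.hom p (CohPull.pullMod (qMap f hX hle) (F.restrict (f ⁻¹ᵁ V).ι) p x))
      rw [B.compat V F p x, ← hΨ]
      exact ε_res f' E' hle p _ _
  have hu : Function.Surjective u := by
    have hgen : ∀ d : Γ(Y', W), ∀ m : Γ(N, V), d ⊗ₜ[Γ(Y, V)] m ∈ AddMonoidHom.range u := by
      letI := (b.appLE T V hVT).hom.toAlgebra
      letI := (b'.appLE T' W hle').hom.toAlgebra
      letI : Algebra A Γ(Y', W) := ((algebraMap A' Γ(Y', W)).comp (algebraMap A A')).toAlgebra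
      haveI : IsScalarTower A A' Γ(Y', W) := .of_algebraMap_eq fun _ => rfl
      haveI : IsScalarTower A Γ(Y, V) Γ(Y', W) := .of_algebraMap_eq fun r =>
        (ConcreteCategory.congr_hom hpo.w r).symm
      haveI : Algebra.IsPushout A A' Γ(Y, V) Γ(Y', W) := CommRingCat.isPushout_iff_isPushout.mp hpo.flip
      intro d
      induction d using (Algebra.IsPushout.out (R := A) (S := A') (R' := Γ(Y, V)) (S' := Γ(Y', W))).inductionOn with
      | zero => intro m; rw [TensorProduct.zero_tmul]; exact zero_mem _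
      | tmul r =>
        intro m
        refine ⟨(1 : A') ⊗ₜ εV.symm (r • m), ?_⟩
        show ι' 1 ⊗ₜ[Γ(Y, V)] εV (εV.symm (r • m)) = _
        rw [εV.apply_symm_apply, map_one, ← TensorProduct.smul_tmul]
        exact congrArg (· ⊗ₜ[Γ(Y, V)] m) (mul_one _)
      | smul c d hd =>
        intro m
        have key : ∀ z, ι' c • u z ∈ AddMonoidHom.range u := by
          intro z
          induction z using TensorProduct.induction_on with
          | zero => rw [map_zero, smul_zero]; exact zero_mem _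
          | add z₁ z₂ h₁ h₂ => rw [map_add, smul_add]; exact add_mem h₁ h₂
          | tmul c' x =>
            refine ⟨(c * c') ⊗ₜ x, ?_⟩
            show ι' (c * c') ⊗ₜ[Γ(Y, V)] εV x = ι' c • (ι' c' ⊗ₜ[Γ(Y, V)] εV x)
            rw [map_mul]
            rfl
        obtain ⟨z, hz⟩ := hd m
        have := key z
        rw [hz] at this
        exact this
      | add d₁ d₂ h₁ h₂ => intro m; rw [TensorProduct.add_tmul]; exact add_mem (h₁ m) (h₂ m)
    intro z
    induction z using TensorProduct.induction_on with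
    | zero => exact ⟨0, map_zero u⟩
    | add z₁ z₂ h₁ h₂ =>
      obtain ⟨w₁, rfl⟩ := h₁; obtain ⟨w₂, rfl⟩ := h₂
      exact ⟨w₁ + w₂, map_add u _ _⟩
    | tmul d m => exact hgen d m
  have hL : Function.Bijective L := by
    have hb : Function.Bijective (L ∘ u) := by
      rw [show (L ∘ u) = K ∘ G from funext hLu]
      exact K.bijective.comp hG
    exact (Function.Bijective.of_comp_iff _ ⟨hb.1.of_comp, hu⟩).1 hb
  obtain ⟨c, hc, he⟩ := exists_transpose_app gY (H10Coh.isQuasicoherent_rpush f F p) (B.φ p F) hV hW hle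
  have h2 : Function.Bijective ((B.bc p F).app W ∘ c) := by
    show Function.Bijective ((((Scheme.Modules.pullbackPushforwardAdjunction gY).homEquiv _ _).symm (B.φ p F)).app W ∘ c)
    rw [← he]
    exact hL
  exact (Function.Bijective.of_comp_iff _ hc).1 h2

include hf hY in
/-- The base change map is an isomorphism when the sheaves are flat over the base. -/
theorem isIso_bc_of_flat (hF : FlatMod.IsFlatOver a F)
    (hR : ∀ n : ℕ, FlatMod.IsFlatOver b ((Coh.Rpush f n).obj F)) (p : ℕ) : IsIso (B.bc p F) := by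
  haveI : ((Scheme.Modules.pullback gX).obj F).IsQuasicoherent := H29Fitt.isQCoh_pullback gX F ‹_›
  refine isIso_of_bijective_affine_cover (B.bc p F)
    (H29Fitt.isQCoh_pullback gY _ (H10Coh.isQuasicoherent_rpush f F p)) (H10Coh.isQuasicoherent_rpush f' _ p)
    (fun W => ∃ (T : S.Opens) (V : Y.Opens) (T' : S'.Opens) (_ : IsAffineOpen T) (_ : IsAffineOpen V)
      (_ : V ≤ b ⁻¹ᵁ T) (_ : IsAffineOpen T') (_ : T' ≤ g ⁻¹ᵁ T), W = gY ⁻¹ᵁ V ⊓ b' ⁻¹ᵁ T') (fun y => ?_)
    fun W hW' _ => ?_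
  · obtain ⟨T, hT, hyT, -⟩ := exists_isAffineOpen_mem_and_subset (U := (⊤ : S.Opens)) (x := g (b' y)) trivial
    obtain ⟨V, hV, hyV, hVT⟩ := exists_isAffineOpen_mem_and_subset (U := b ⁻¹ᵁ T) (x := gY y)
      (by show b (gY y) ∈ T; rw [← Scheme.Hom.comp_apply, hY.w, Scheme.Hom.comp_apply]; exact hyT)
    obtain ⟨T', hT', hyT', hTT⟩ := exists_isAffineOpen_mem_and_subset (U := g ⁻¹ᵁ T) (x := b' y) hyT
    exact ⟨_, ⟨T, V, T', hT, hV, hVT, hT', hTT, rfl⟩, isAffineOpen_box hT hV hVT hY hT' hTT rfl, hyV, hyT'⟩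
  · obtain ⟨T, V, T', hT, hV, hVT, hT', hTT, hWe⟩ := hW'
    exact bijective_bc_box hf hT hV hVT hY hX hT' hTT hWe B F hF hR p

end Groth.Agent.LeadBC.GenBC
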