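import Groth.Agent.LeadBC.GenBC.PullSectOn
import Groth.Agent.LeadBC.GenBC.Bij
import Groth.Agent.LeadBC.Tensor

/-!
# Pullback of classes along a composite, and horizontal composition of base change maps
-/

set_option autoImplicit false
set_option linter.style.haveILetI false
set_option linter.unusedSectionVars false

noncomputable section

universe u

open CategoryTheory CategoryTheory.Limits AlgebraicGeometry Opposite TopologicalSpace

namespace Groth.Agent.LeadBC.GenBC

open Groth.Agent.H10Coh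

attribute [local instance 10000] hasSheafifyAb hasWeakSheafifyAb hasExtAb enoughInjAb

variable {X Y Z : Scheme.{u}}

theorem image_le_preimage_image (g : X ⟶ Y) {U : Y.Opens} {U' : X.Opens} (h : U' ≤ g ⁻¹ᵁ U)
    {W : U.toScheme.Opens} {O : U'.toScheme.Opens} (hO : O ≤ g.resLE U U' h ⁻¹ᵁ W) :
    U'.ι ''ᵁ O ≤ g ⁻¹ᵁ (U.ι ''ᵁ W) := by
  rintro _ ⟨z, hz, rfl⟩
  exact ⟨g.resLE U U' h z, hO hz, congr($(g.resLE_comp_ι h).base z)⟩

set_option maxRecDepth 4000 in
/-- The comparison of pullback and restriction on pulled back sections. -/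
theorem pullOnIso_ps (g : X ⟶ Y) {U : Y.Opens} {U' : X.Opens} (h : U' ≤ g ⁻¹ᵁ U) (F : Y.Modules)
    (W : U.toScheme.Opens) (y : Γ(F, U.ι ''ᵁ W)) (O : U'.toScheme.Opens) (hO : O ≤ g.resLE U U' h ⁻¹ᵁ W) :
    (CohPull.pullOnIso g U U' h F).hom.app O (ps (g.resLE U U' h) (F.restrict U.ι) W y O hO) =
      (ps g F (U.ι ''ᵁ W) y (U'.ι ''ᵁ O) (image_le_preimage_image g h hO) : Γ((Scheme.Modules.pullback g).obj F, U'.ι ''ᵁ O)) := by
  let r := g.resLE U U' h
  let A := U.ι ''ᵁ W
  let B := U'.ι ''ᵁ O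
  have hW : W ≤ U.ι ⁻¹ᵁ A := (U.ι.preimage_image_eq W).ge
  have hB : O ≤ U'.ι ⁻¹ᵁ B := (U'.ι.preimage_image_eq O).ge
  have hAB := image_le_preimage_image g h hO
  have hy : ((Scheme.Modules.restrictFunctorIsoPullback U.ι).hom.app F).app W y = ps U.ι F A y W hW := by
    have hi : ((Scheme.Modules.restrictFunctorIsoPullback U.ι).inv.app F).app W (ps U.ι F A y W hW) = y :=
      (iso_ps U.ι F A y W hW).trans (rs_self _ _ _)
    refine (congrArg _ hi.symm).trans ?_
    exact congr($(congrArg (fun k => Scheme.Modules.Hom.app k W)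
      ((Scheme.Modules.restrictFunctorIsoPullback U.ι).inv_hom_id_app F)) _)
  simp only [CohPull.pullOnIso, Iso.trans_hom, Functor.mapIso_hom, Iso.app_hom, Iso.symm_hom, Iso.app_inv,
    Scheme.Modules.Hom.comp_app]
  show ((Scheme.Modules.restrictFunctorIsoPullback U'.ι).inv.app ((Scheme.Modules.pullback g).obj F)).app O
      (((Scheme.Modules.pullbackComp U'.ι g).inv.app F).app O
        (((Scheme.Modules.pullbackCongr (Scheme.Hom.resLE_comp_ι g h)).hom.app F).app O
          (((Scheme.Modules.pullbackComp r U.ι).hom.app F).app O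
            (((Scheme.Modules.pullback r).map ((Scheme.Modules.restrictFunctorIsoPullback U.ι).hom.app F)).app O
              (ps r (F.restrict U.ι) W y O hO))))) = _
  rw [ps_natural, hy, ps_comp r U.ι F A y W hW O hO, ps_congr]
  have e2 : ((Scheme.Modules.pullbackComp U'.ι g).inv.app F).app O (ps (U'.ι ≫ g) F A y O
      (hB.trans (U'.ι.preimage_mono hAB))) = ps U'.ι _ B (ps g F A y B hAB) O hB := by
    rw [← ps_comp U'.ι g F A y B hAB O hB]
    exact congr($(congrArg (fun k => Scheme.Modules.Hom.app k O)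
      ((Scheme.Modules.pullbackComp U'.ι g).hom_inv_id_app F)) _)
  refine (congrArg _ e2).trans ?_
  exact (iso_ps U'.ι _ B (ps g F A y B hAB) O hB).trans (rs_self _ _ _)

set_option maxRecDepth 4000 in
/-- The comparisons of pullback and restriction compose. -/
theorem pullOnIso_comp (f : X ⟶ Y) (g : Y ⟶ Z) {U : Z.Opens} {U' : Y.Opens} {U'' : X.Opens}
    (hg : U' ≤ g ⁻¹ᵁ U) (hf : U'' ≤ f ⁻¹ᵁ U') (hfg : U'' ≤ (f ≫ g) ⁻¹ᵁ U) (L : Z.Modules)
    (e : f.resLE U' U'' hf ≫ g.resLE U U' hg = (f ≫ g).resLE U U'' hfg) :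
    (Scheme.Modules.pullbackComp (f.resLE U' U'' hf) (g.resLE U U' hg)).inv.app (L.restrict U.ι) ≫
      (Scheme.Modules.pullback (f.resLE U' U'' hf)).map (CohPull.pullOnIso g U U' hg L).hom ≫
      (CohPull.pullOnIso f U' U'' hf ((Scheme.Modules.pullback g).obj L)).hom ≫
      (Scheme.Modules.restrictFunctor U''.ι).map ((Scheme.Modules.pullbackComp f g).hom.app L) =
    (Scheme.Modules.pullbackCongr e).hom.app (L.restrict U.ι) ≫ (CohPull.pullOnIso (f ≫ g) U U'' hfg L).hom := by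
  let rf := f.resLE U' U'' hf
  let rg := g.resLE U U' hg
  apply ((Scheme.Modules.pullbackPushforwardAdjunction (rf ≫ rg)).homEquiv _ _).injective
  refine Scheme.Modules.hom_ext _ _ fun W => AddCommGrpCat.hom_ext (AddMonoidHom.ext fun y => ?_)
  let O : U''.toScheme.Opens := (rf ≫ rg) ⁻¹ᵁ W
  let W₁ : U'.toScheme.Opens := rg ⁻¹ᵁ W
  let k := (Scheme.Modules.pullbackComp rf rg).inv.app (L.restrict U.ι) ≫
      (Scheme.Modules.pullback rf).map (CohPull.pullOnIso g U U' hg L).hom ≫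
      (CohPull.pullOnIso f U' U'' hf ((Scheme.Modules.pullback g).obj L)).hom ≫
      (Scheme.Modules.restrictFunctor U''.ι).map ((Scheme.Modules.pullbackComp f g).hom.app L)
  let k' := (Scheme.Modules.pullbackCongr e).hom.app (L.restrict U.ι) ≫ (CohPull.pullOnIso (f ≫ g) U U'' hfg L).hom
  show k.app O (OmegaSh.pullSect (rf ≫ rg) (L.restrict U.ι) W y) =
    k'.app O (OmegaSh.pullSect (rf ≫ rg) (L.restrict U.ι) W y)
  have h0 : OmegaSh.pullSect (rf ≫ rg) (L.restrict U.ι) W y = ps (rf ≫ rg) (L.restrict U.ι) W y O le_rfl :=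
    (rs_self _ _ _).symm
  have h1 : ((Scheme.Modules.pullbackComp rf rg).inv.app (L.restrict U.ι)).app O
      (ps (rf ≫ rg) (L.restrict U.ι) W y O le_rfl) =
      ps rf _ W₁ (ps rg (L.restrict U.ι) W y W₁ le_rfl) O le_rfl := by
    rw [← ps_comp rf rg (L.restrict U.ι) W y W₁ le_rfl O le_rfl]
    exact congr($(congrArg (fun k => Scheme.Modules.Hom.app k O)
      ((Scheme.Modules.pullbackComp rf rg).hom_inv_id_app (L.restrict U.ι))) _)
  simp only [k, k', Scheme.Modules.Hom.comp_app]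
  show ((Scheme.Modules.restrictFunctor U''.ι).map ((Scheme.Modules.pullbackComp f g).hom.app L)).app O
      ((CohPull.pullOnIso f U' U'' hf ((Scheme.Modules.pullback g).obj L)).hom.app O
        (((Scheme.Modules.pullback rf).map (CohPull.pullOnIso g U U' hg L).hom).app O
          (((Scheme.Modules.pullbackComp rf rg).inv.app (L.restrict U.ι)).app O
            (OmegaSh.pullSect (rf ≫ rg) (L.restrict U.ι) W y)))) =
    (CohPull.pullOnIso (f ≫ g) U U'' hfg L).hom.app O
      (((Scheme.Modules.pullbackCongr e).hom.app (L.restrict U.ι)).app O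
        (OmegaSh.pullSect (rf ≫ rg) (L.restrict U.ι) W y))
  rw [h0]
  refine (congrArg (fun z => ((Scheme.Modules.restrictFunctor U''.ι).map ((Scheme.Modules.pullbackComp f g).hom.app L)).app O
      ((CohPull.pullOnIso f U' U'' hf ((Scheme.Modules.pullback g).obj L)).hom.app O
        (((Scheme.Modules.pullback rf).map (CohPull.pullOnIso g U U' hg L).hom).app O z))) h1).trans ?_
  refine (congrArg (fun z => ((Scheme.Modules.restrictFunctor U''.ι).map ((Scheme.Modules.pullbackComp f g).hom.app L)).app O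
      ((CohPull.pullOnIso f U' U'' hf ((Scheme.Modules.pullback g).obj L)).hom.app O z)) (ps_natural rf _ W₁ _ O le_rfl)).trans ?_
  have hW₁ : U'.ι ''ᵁ W₁ ≤ g ⁻¹ᵁ (U.ι ''ᵁ W) := image_le_preimage_image g hg le_rfl
  have hO : U''.ι ''ᵁ O ≤ f ⁻¹ᵁ (U'.ι ''ᵁ W₁) := image_le_preimage_image f hf le_rfl
  refine (congrArg (fun z => ((Scheme.Modules.restrictFunctor U''.ι).map ((Scheme.Modules.pullbackComp f g).hom.app L)).app O
      ((CohPull.pullOnIso f U' U'' hf ((Scheme.Modules.pullback g).obj L)).hom.app O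
        (ps rf (((Scheme.Modules.pullback g).obj L).restrict U'.ι) W₁ z O le_rfl))) (pullOnIso_ps g hg L W y W₁ le_rfl)).trans ?_
  refine (congrArg (fun z => ((Scheme.Modules.restrictFunctor U''.ι).map ((Scheme.Modules.pullbackComp f g).hom.app L)).app O z)
    (pullOnIso_ps f hf ((Scheme.Modules.pullback g).obj L) W₁ (ps g L (U.ι ''ᵁ W) y (U'.ι ''ᵁ W₁) hW₁) O le_rfl)).trans ?_
  refine Eq.trans ?_ (congrArg (fun z => (CohPull.pullOnIso (f ≫ g) U U'' hfg L).hom.app O z)
    (ps_congr e (L.restrict U.ι) W y O le_rfl)).symm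
  refine Eq.trans ?_ (pullOnIso_ps (f ≫ g) hfg L W y O (e ▸ le_rfl)).symm
  exact ps_comp f g L (U.ι ''ᵁ W) y (U'.ι ''ᵁ W₁) hW₁ (U''.ι ''ᵁ O) hO

/-- Pullback of classes over opens composes. -/
theorem pullOn_comp (f : X ⟶ Y) (g : Y ⟶ Z) {U : Z.Opens} {U' : Y.Opens} {U'' : X.Opens}
    (hg : U' ≤ g ⁻¹ᵁ U) (hf : U'' ≤ f ⁻¹ᵁ U') (hfg : U'' ≤ (f ≫ g) ⁻¹ᵁ U) (L : Z.Modules) (p : ℕ)
    (x : Coh.HHon Z L U p) :
    CohPull.mapH ((Scheme.Modules.restrictFunctor U''.ι).map ((Scheme.Modules.pullbackComp f g).hom.app L)) p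
        (CohPull.pullOn f U' U'' hf _ p (CohPull.pullOn g U U' hg L p x)) =
      CohPull.pullOn (f ≫ g) U U'' hfg L p x := by
  have e : f.resLE U' U'' hf ≫ g.resLE U U' hg = (f ≫ g).resLE U U'' hfg := Scheme.Hom.resLE_comp_resLE _ _ _ _
  show CohPull.mapH ((Scheme.Modules.restrictFunctor U''.ι).map ((Scheme.Modules.pullbackComp f g).hom.app L)) p
      (CohPull.mapH (CohPull.pullOnIso f U' U'' hf _).hom p (CohPull.pullMod (f.resLE U' U'' hf) _ p
        (CohPull.mapH (CohPull.pullOnIso g U U' hg L).hom p (CohPull.pullMod (g.resLE U U' hg) (L.restrict U.ι) p x)))) =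
    CohPull.mapH (CohPull.pullOnIso (f ≫ g) U U'' hfg L).hom p
      (CohPull.pullMod ((f ≫ g).resLE U U'' hfg) (L.restrict U.ι) p x)
  rw [pullMod_natural, ← mapH_comp, ← mapH_comp, ← pullMod_congr e, ← mapH_comp, ← pullOnIso_comp f g hg hf hfg L e,
    ← pullMod_comp, ← mapH_comp, Iso.hom_inv_id_app_assoc]



theorem bc_pullSect {X' S S' : Scheme.{u}} {f : X ⟶ S} {g : S' ⟶ S} {f' : X' ⟶ S'} {g' : X' ⟶ X}
    {w : g' ≫ f = f' ≫ g} [HasInjectiveResolutions X.Modules] [HasInjectiveResolutions X'.Modules]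
    {Δ : RDer.DerivedLES (Scheme.Modules.pushforward f)} {Δ' : RDer.DerivedLES (Scheme.Modules.pushforward f')}
    {E : CohCmp.SectCmp f Δ} {E' : CohCmp.SectCmp f' Δ'} (B : CohCmp.GenBC f g f' g' w E E') (p : ℕ)
    (F : X.Modules) (V : S.Opens) (s : Γ((Coh.Rpush f p).obj F, V)) :
    (B.bc p F).app (g ⁻¹ᵁ V) (OmegaSh.pullSect g ((Coh.Rpush f p).obj F) V s) = (B.φ p F).app V s := by
  have h := ((Scheme.Modules.pullbackPushforwardAdjunction g).homEquiv_unit _ _ (B.bc p F)).symm.trans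
    (Equiv.apply_symm_apply _ (B.φ p F))
  exact congr($(congrArg (fun k => Scheme.Modules.Hom.app k V) h) s)

end Groth.Agent.LeadBC.GenBC
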