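import Groth.Agent.LeadBC.GenBC.Bij

/-!
# `ε` is locally bijective
-/

set_option autoImplicit false
set_option linter.style.haveILetI false
set_option linter.unusedSectionVars false

noncomputable section

universe u

open CategoryTheory CategoryTheory.Limits AlgebraicGeometry Opposite TopologicalSpace Abelian

namespace Groth.Agent.LeadBC.GenBC

open Groth.Agent.H10Coh

attribute [local instance 10000] hasSheafifyAb hasWeakSheafifyAb hasExtAb enoughInjAb
attribute [local instance] enoughInjMod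

variable {X Y : Scheme.{u}} (f : X ⟶ Y) [HasInjectiveResolutions X.Modules]
  {Δ : RDer.DerivedLES (Scheme.Modules.pushforward f)} (E : CohCmp.SectCmp f Δ)

/-- Local surjectivity of `ε` in degree `p` at `F`. -/
def LocSurj (F : X.Modules) (p : ℕ) : Prop :=
  ∀ (V : Y.Opens) (t : ((Coh.Rpush f p).obj F).presheaf.obj (op V)) (y : Y), y ∈ V →
    ∃ (W : Y.Opens) (hWV : W ≤ V), y ∈ W ∧ ∃ x : Coh.HHon X F (f ⁻¹ᵁ W) p,
      E.ε W F p x = ((Coh.Rpush f p).obj F).presheaf.map (homOfLE hWV).op t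

/-- Local injectivity of `ε` in degree `p` at `F`. -/
def LocInj (F : X.Modules) (p : ℕ) : Prop :=
  ∀ (V : Y.Opens) (x : Coh.HHon X F (f ⁻¹ᵁ V) p), E.ε V F p x = 0 → ∀ y : Y, y ∈ V →
    ∃ (W : Y.Opens) (hWV : W ≤ V), y ∈ W ∧ rH (f.preimage_mono hWV) F p x = 0

theorem loc_zero (F : X.Modules) : LocSurj f E F 0 ∧ LocInj f E F 0 := by
  refine ⟨fun V t y hy => ?_, fun V x hx y hy => ⟨V, le_rfl, hy, ?_⟩⟩
  · obtain ⟨x, hx⟩ := (ε_zero_bijective f E V F).2 t
    refine ⟨V, le_rfl, hy, x, hx.trans ?_⟩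
    exact (congr($(((Coh.Rpush f 0).obj F).presheaf.map_id (op V)) t)).symm
  · rw [(ε_zero_bijective f E V F).1 (hx.trans (map_zero _).symm)]
    exact map_zero _

theorem loc_one (M : X.Modules) (n : ℕ) : LocSurj f E (mZ M n) 1 ∧ LocInj f E (mZ M n) 1 := by
  obtain ⟨θ, hθ, hc⟩ := exists_θ f E M n
  haveI := hθ
  refine ⟨fun V t y hy => ?_, fun V x hx y hy => ?_⟩
  · obtain ⟨t', rfl⟩ := (app_bijective_of_isIso θ V).2 t
    obtain ⟨W, hW, hyW, z, hz⟩ :=
      exists_nhds_lift_of_epi (cokernel.π ((Coh.push f).map ((MRes.inj M).p n))) V t' y hy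
    refine ⟨W, hW, hyW, _, (hc W z).trans ?_⟩
    exact (congrArg (θ.app W) hz).trans (app_rs θ hW t')
  · obtain ⟨q, rfl⟩ := exists_lift (mZ M n) (f ⁻¹ᵁ V) 0 x
    obtain ⟨z, rfl⟩ := (CohPull.sectH0 _ (f ⁻¹ᵁ V)).surjective q
    have h0 : piA f (MRes.inj M) n V z = 0 :=
      (app_bijective_of_isIso θ V).1 (((hc V z).symm.trans hx).trans (map_zero _).symm)
    obtain ⟨W, hW, hyW, hB⟩ := Bd_of_piA_eq_zero_local f (MRes.inj M) n V z h0 y hy
    refine ⟨W, hW, hyW, (rH_extδ (f.preimage_mono hW) (injSeq_shortExact (mZ M n)) 0 _).trans ?_⟩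
    rw [rH_sectH0]
    exact extδ_sectH0_eq_zero M n _ _ hB

theorem loc_succ (F : X.Modules) (n : ℕ)
    (h : LocSurj f E (injSeq F).X₃ (n + 1) ∧ LocInj f E (injSeq F).X₃ (n + 1)) :
    LocSurj f E F (n + 2) ∧ LocInj f E F (n + 2) := by
  have hS := injSeq_shortExact F
  haveI := isIso_δ_succ f (Δ := Δ) F n
  let δ := Δ.δ (injSeq F) hS (n + 1) (n + 2) rfl
  have hc : ∀ (V : Y.Opens) q, E.ε V F (n + 2) (CohCmp.extδ (shortExact_toAbOn hS (f ⁻¹ᵁ V)) (n + 1) q) =
      δ.app V (E.ε V (injSeq F).X₃ (n + 1) q) :=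
    fun V q => E.delta V (injSeq F) hS (shortExact_toAbOn hS _) (n + 1) q
  refine ⟨fun V t y hy => ?_, fun V x hx y hy => ?_⟩
  · obtain ⟨t', rfl⟩ := (app_bijective_of_isIso δ V).2 t
    obtain ⟨W, hW, hyW, q, hq⟩ := h.1 V t' y hy
    refine ⟨W, hW, hyW, _, (hc W q).trans ?_⟩
    exact (congrArg (δ.app W) hq).trans (app_rs δ hW t')
  · obtain ⟨q, rfl⟩ := exists_lift F (f ⁻¹ᵁ V) (n + 1) x
    have h0 : E.ε V (injSeq F).X₃ (n + 1) q = 0 :=
      (app_bijective_of_isIso δ V).1 (((hc V q).symm.trans hx).trans (map_zero _).symm)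
    obtain ⟨W, hW, hyW, hz⟩ := h.2 V q h0 y hy
    refine ⟨W, hW, hyW, (rH_extδ (f.preimage_mono hW) hS (n + 1) q).trans ?_⟩
    rw [hz]
    exact map_zero _

theorem loc_all (F : X.Modules) (p : ℕ) : LocSurj f E F p ∧ LocInj f E F p := by
  cases p with
  | zero => exact loc_zero f E F
  | succ n =>
    suffices h : ∀ j k, LocSurj f E (mZ F k) (j + 1) ∧ LocInj f E (mZ F k) (j + 1) from h n 0
    intro j
    induction j with
    | zero => exact fun k => loc_one f E F k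
    | succ j ih => exact fun k => loc_succ f E (mZ F k) j (ih (k + 1))

/-- `CohPull.resLE` and `rH` have the same kernel. -/
theorem resLE_eq_zero_of_rH {U U' : X.Opens} (h : U' ≤ U) (F : X.Modules) (p : ℕ) (x : Coh.HHon X F U p)
    (hx : rH h F p x = 0) : CohPull.resLE F h p x = 0 := by
  have e : (𝟙 X : X ⟶ X).resLE U U' (by rwa [Scheme.Hom.id_preimage]) = X.homOfLE h := by
    rw [← cancel_mono U.ι, Scheme.Hom.resLE_comp_ι, Scheme.homOfLE_ι, Category.comp_id]
  have h0 : CohPull.pullMod (X.homOfLE h) (F.restrict U.ι) p x = 0 :=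
    ((mapH_id (M := _) p _).symm.trans ((congrArg (fun k => CohPull.mapH k p _)
      ((κ h).hom_inv_id_app F).symm).trans (mapH_comp _ _ p _))).trans ((congrArg _ hx).trans (map_zero _))
  have h1 : CohPull.pullMod ((𝟙 X : X ⟶ X).resLE U U' (by rwa [Scheme.Hom.id_preimage])) (F.restrict U.ι) p x = 0 := by
    rw [← pullMod_congr e.symm (F.restrict U.ι) p x, h0, map_zero]
  show CohPull.mapH _ p (CohPull.mapH _ p (CohPull.pullMod _ _ p x)) = 0
  rw [h1, map_zero, map_zero]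

end Groth.Agent.LeadBC.GenBC
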