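import Groth.Agent.H10Coh.PushEdge
import Mathlib.CategoryTheory.Adjunction.Mates

/-!
# Pullback of cohomology classes: naturality, connecting maps, composition
-/

set_option autoImplicit false
set_option linter.style.haveILetI false
set_option linter.unusedSectionVars false

noncomputable section

universe w w' w'' v v' v'' u u' u''

open CategoryTheory CategoryTheory.Limits AlgebraicGeometry Opposite TopologicalSpace Abelian

namespace Groth.Agent.LeadBC.GenBC

open Groth.Agent.H10Coh

section general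

variable {C : Type u} [Category.{v} C] [Abelian C] [HasExt.{w} C] [EnoughInjectives C]
variable {D : Type u'} [Category.{v'} D] [Abelian D] [HasExt.{w'} D]
variable {E : Type u''} [Category.{v''} E] [Abelian E] [HasExt.{w''} E]
variable (G : C ⥤ D) [G.Additive] [PreservesFiniteLimits G] [PreservesFiniteColimits G]
  (H : D ⥤ E) [H.Additive] [PreservesFiniteLimits H] [PreservesFiniteColimits H]
  (K : C ⥤ E) [K.Additive] [PreservesFiniteLimits K] [PreservesFiniteColimits K]
  {A : C} {A' : D} {A'' : E} (e : A' ⟶ G.obj A) (e₂ : A'' ⟶ H.obj A') (k : A'' ⟶ K.obj A)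
  (α : ∀ F : C, H.obj (G.obj F) ⟶ K.obj F)

theorem extMap_comp_functor (hα : ∀ {F F' : C} (φ : F ⟶ F'), H.map (G.map φ) ≫ α F' = α F ≫ K.map φ)
    (hk : e₂ ≫ H.map e ≫ α A = k) : ∀ (n : ℕ) (F : C) (x : Ext.{w} A F n),
    (extMap H e₂ (G.obj F) n (extMap G e F n x)).comp (Ext.mk₀ (α F)) (add_zero n) = extMap K k F n x := by
  intro n
  induction n with
  | zero =>
    intro F x
    obtain ⟨φ, rfl⟩ := (Ext.mk₀_bijective _ _).2 x
    rw [extMap_mk₀, extMap_mk₀, extMap_mk₀, Ext.mk₀_comp_mk₀, ← hk]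
    refine congrArg Ext.mk₀ ?_
    rw [Functor.map_comp, Category.assoc, Category.assoc, hα, Category.assoc, Category.assoc]
  | succ n ih =>
    intro F x
    have hS := injSeq_shortExact F
    obtain ⟨q, rfl⟩ : ∃ q : Ext A (injSeq F).X₃ n, q.comp hS.extClass rfl = x :=
      Ext.covariant_sequence_exact₁ A hS x (Ext.eq_zero_of_injective _) rfl
    have hG := hS.map_of_exact G
    rw [extMap_extClass K k hS, extMap_extClass G e hS]
    refine (congrArg (fun z => Ext.comp z (Ext.mk₀ (α F)) (add_zero (n + 1)))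
      (extMap_extClass H e₂ hG n (extMap G e (injSeq F).X₃ n q))).trans ?_
    let φ : ((injSeq F).map G).map H ⟶ (injSeq F).map K :=
      { τ₁ := α (injSeq F).X₁, τ₂ := α (injSeq F).X₂, τ₃ := α (injSeq F).X₃
        comm₁₂ := (hα _).symm
        comm₂₃ := (hα _).symm }
    have h := ShortComplex.ShortExact.extClass_naturality (hG.map_of_exact H) (hS.map_of_exact K) φ
    refine (Ext.comp_assoc _ _ _ rfl (add_zero 1) (show n + 1 + 0 = n + 1 by omega)).trans ?_
    refine (congrArg (fun z => Ext.comp (extMap H e₂ ((injSeq F).map G).X₃ n (extMap G e (injSeq F).X₃ n q)) z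
      (rfl : n + 1 = n + 1)) h).trans ?_
    refine (Ext.comp_assoc _ _ _ (add_zero n) (zero_add 1) (show n + 0 + 1 = n + 1 by omega)).symm.trans ?_
    exact congrArg (fun z => Ext.comp z (hS.map_of_exact K).extClass (rfl : n + 1 = n + 1))
      (ih (injSeq F).X₃ q)

end general

section top

attribute [local instance 10000] hasSheafifyAb hasWeakSheafifyAb hasExtAb enoughInjAb

variable {X Y Z : TopCat.{u}} (f : X ⟶ Y) (g : Y ⟶ Z)

/-- The adjunction of a composite. -/
def invAdjComp : CohPull.inv g ⋙ CohPull.inv f ⊣ CohTop.push (f ≫ g) :=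
  ((CohPull.invPushAdj g).comp (CohPull.invPushAdj f)).ofNatIsoRight (Iso.refl _)

/-- `f⁻¹g⁻¹ = (gf)⁻¹`. -/
def invComp : CohPull.inv g ⋙ CohPull.inv f ≅ CohPull.inv (f ≫ g) :=
  (invAdjComp f g).leftAdjointUniq (CohPull.invPushAdj (f ≫ g))

theorem unit_invComp (M : CohTop.Ab Z) :
    (CohPull.invPushAdj g).unit.app M ≫ (CohTop.push g).map ((CohPull.invPushAdj f).unit.app _) ≫
      (CohTop.push (f ≫ g)).map ((invComp f g).hom.app M) = (CohPull.invPushAdj (f ≫ g)).unit.app M := by
  have h := Adjunction.unit_leftAdjointUniq_hom_app (invAdjComp f g) (CohPull.invPushAdj (f ≫ g)) M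
  refine Eq.trans ?_ h
  refine (Category.assoc _ _ _).symm.trans (congrArg (· ≫ _) ?_)
  simp [invAdjComp]
  rfl

theorem oneTo_comp :
    CohPull.oneTo f ≫ (CohPull.inv f).map (CohPull.oneTo g) ≫ (invComp f g).hom.app _ =
      CohPull.oneTo (f ≫ g) := by
  apply ((CohPull.adjZ X).homEquiv _ _).injective
  refine ((CohPull.adjZ X).homEquiv_naturality_right _ _).trans ?_
  refine (congrArg (· ≫ _) (Equiv.apply_symm_apply ((CohPull.adjZ X).homEquiv _ _) _)).trans ?_
  refine Eq.trans ?_ (Equiv.apply_symm_apply ((CohPull.adjZ X).homEquiv _ _) _).symm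
  let cX := CohTop.const X (ULift.{u} ℤ)
  let cY := CohTop.const Y (ULift.{u} ℤ)
  let cZ := CohTop.const Z (ULift.{u} ℤ)
  let c := (invComp f g).hom.app cZ
  let u₁ := (CohPull.invPushAdj f).unit.app cY
  let u₂ := (CohPull.invPushAdj f).unit.app ((CohPull.inv g).obj cZ)
  let ug := (CohPull.invPushAdj g).unit.app cZ
  have hn : u₁ ≫ (CohTop.push f).map ((CohPull.inv f).map (CohPull.oneTo g) ≫ c) =
      CohPull.oneTo g ≫ u₂ ≫ (CohTop.push f).map c := by
    rw [Functor.map_comp]
    exact (Category.assoc _ _ _).symm.trans ((congrArg (· ≫ (CohTop.push f).map c)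
      ((CohPull.invPushAdj f).unit.naturality (CohPull.oneTo g)).symm).trans (Category.assoc _ _ _))
  have h3 : CohPull.oneSec Y ≫ (CohPull.oneTo g).hom.app (op ⊤) = CohPull.oneSec Z ≫ ug.hom.app (op ⊤) :=
    ((CohPull.adjZ Y).homEquiv_naturality_right (𝟙 cY) (CohPull.oneTo g)).symm.trans
      ((congrArg ((CohPull.adjZ Y).homEquiv _ _) (Category.id_comp _)).trans
        (Equiv.apply_symm_apply ((CohPull.adjZ Y).homEquiv _ _) _))
  exact ((Category.assoc _ _ _).trans
    (congrArg (fun k : cY ⟶ (CohTop.push f).obj _ => CohPull.oneSec Y ≫ k.hom.app (op ⊤)) hn)).trans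
      (((Category.assoc _ _ _).symm.trans (congrArg (· ≫ (u₂ ≫ (CohTop.push f).map c).hom.app (op ⊤)) h3)).trans
        ((Category.assoc _ _ _).trans (congrArg (fun k : cZ ⟶ (CohTop.push (f ≫ g)).obj _ =>
          CohPull.oneSec Z ≫ k.hom.app (op ⊤)) (unit_invComp f g cZ))))

theorem pullAb_comp (M : CohTop.Ab Z) (p : ℕ) (x : Sheaf.H M p) :
    Sheaf.H.map ((invComp f g).hom.app M) p (CohPull.pullAb f _ p (CohPull.pullAb g M p x)) =
      CohPull.pullAb (f ≫ g) M p x :=
  extMap_comp_functor (CohPull.inv g) (CohPull.inv f) (CohPull.inv (f ≫ g)) (CohPull.oneTo g) (CohPull.oneTo f)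
    (CohPull.oneTo (f ≫ g)) (fun F => (invComp f g).hom.app F) (fun φ => (invComp f g).hom.naturality φ)
    (oneTo_comp f g) p M x

theorem pullAb_natural {M N : CohTop.Ab Y} (φ : M ⟶ N) (p : ℕ) (x : Sheaf.H M p) :
    CohPull.pullAb f N p (Sheaf.H.map φ p x) = Sheaf.H.map ((CohPull.inv f).map φ) p (CohPull.pullAb f M p x) :=
  extMap_naturality (CohPull.inv f) (CohPull.oneTo f) φ p x

end top

end Groth.Agent.LeadBC.GenBC
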